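import Mathlib

/-!
# The arithmetic of the order formula (for S4069)
-/

set_option autoImplicit false

namespace Cfsg.Agent.Invol.AlmostCyclic

/-- The data of the order formula. -/
structure OrderData (p : ℕ) (P τ A B x : ℤ) (t N c o k : ℕ) : Prop where
  hp : p.Prime
  hP : P.natAbs = p
  ht : 2 ≤ t
  hτ : Odd τ
  hPτ : P + 1 = 2 ^ t * τ
  hx : x = A + B - 1
  hsum : A + B ≠ 0
  hA : A ≠ 0
  hg : A - 1 ≠ 0
  hcount : A * B * (A + B) = P ^ 2 * (A + B) * x
  horder : (N : ℤ) * 2 * (A - P) ^ 2 * (c : ℤ) ^ 2 =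
    (2 * (o : ℤ) * P * (P ^ 2 - 1)) ^ 2 * 2 ^ t * ((k : ℤ) * (τ.natAbs : ℤ)) * A * (A - 1)
  hN : padicValNat 2 N = t + 2
  hodd : Odd o ∧ Odd k ∧ Odd c
  hloc : ∀ r : ℕ, r.Prime → (r = p ∨ (r ≠ 2 ∧ (r : ℤ) ∣ P + 1)) →
    padicValInt r (N : ℤ) = padicValInt r (2 * (o : ℤ) * P * (P ^ 2 - 1)) ∧
      padicValNat r c ≤ padicValNat r o ∧ padicValNat r c ≤ padicValNat r k

section val

variable {r : ℕ} [hr : Fact r.Prime]

theorem vmul {a b : ℤ} (ha : a ≠ 0) (hb : b ≠ 0) : padicValInt r (a * b) = padicValInt r a + padicValInt r b :=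
  padicValInt.mul ha hb

theorem vsq {a : ℤ} (ha : a ≠ 0) : padicValInt r (a ^ 2) = 2 * padicValInt r a := by
  rw [pow_two, vmul ha ha]; ring

theorem vzero {a : ℤ} (h : ¬ (r : ℤ) ∣ a) : padicValInt r a = 0 := padicValInt.eq_zero_of_not_dvd h

theorem vpos {a : ℤ} (ha : a ≠ 0) (h : (r : ℤ) ∣ a) : 1 ≤ padicValInt r a := by
  have := (padicValInt_dvd_iff (p := r) 1 a).1 (by simpa using h)
  exact this.resolve_left ha

theorem vpow {a : ℤ} (ha : a ≠ 0) (n : ℕ) : padicValInt r (a ^ n) = n * padicValInt r a := by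
  induction n with
  | zero => simp
  | succ n ih => rw [pow_succ, vmul (pow_ne_zero _ ha) ha, ih]; ring

theorem not_dvd_of_sub {a b : ℤ} (h1 : (r : ℤ) ∣ a) (h2 : ¬ (r : ℤ) ∣ b) : ¬ (r : ℤ) ∣ a - b :=
  fun h => h2 (by simpa using dvd_sub h1 h)

end val

variable {p : ℕ} {P τ A B x : ℤ} {t N c o k : ℕ}

/-- Only `p = 5` survives the order formula. -/
theorem OrderData.solve (D : OrderData p P τ A B x t N c o k) :
    p = 5 ∧ t = 2 ∧ P = -5 ∧ τ = -1 ∧ A = 35 ∧ N * c ^ 2 = 85680 * o ^ 2 * k := by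
  haveI : Fact p.Prime := ⟨D.hp⟩
  haveI h2 : Fact (Nat.Prime 2) := ⟨Nat.prime_two⟩
  obtain ⟨q, hq⟩ : ∃ q, P + 1 = 4 * q := ⟨2 ^ (t - 2) * τ, by
    rw [D.hPτ, show (2 : ℤ) ^ t = 2 ^ (t - 2) * 4 by
      rw [show (4 : ℤ) = 2 ^ 2 by norm_num, ← pow_add, Nat.sub_add_cancel D.ht]]; ring⟩
  have hτ0 : τ ≠ 0 := fun e => by have := D.hτ; rw [e] at this; simp at this
  have hq0 : q ≠ 0 := fun e => by
    have := D.hPτ; rw [hq, e, mul_zero] at this
    exact mul_ne_zero (pow_ne_zero _ (by norm_num)) hτ0 this.symm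
  have hp2 : p ≠ 2 := fun e => by
    have h := D.hP; rw [e] at h
    rcases Int.natAbs_eq P with h' | h' <;> rw [h] at h' <;> omega
  have hP0 : P ≠ 0 := fun e => by have := D.hP; rw [e] at this; exact D.hp.ne_zero this.symm
  have hPP : P ^ 2 - 1 ≠ 0 := fun e => by
    have := D.hP
    rcases mul_eq_zero.1 (show (P - 1) * (P + 1) = 0 by linear_combination e) with h | h
    · rw [show P = 1 by omega] at this; exact D.hp.ne_one this.symm
    · rw [show P = -1 by omega] at this; exact D.hp.ne_one this.symm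
  have hPm1 : P - 1 ≠ 0 := fun e => hPP (by linear_combination (P + 1) * e)
  have hPp1 : P + 1 ≠ 0 := fun e => hPP (by linear_combination (P - 1) * e)
  obtain ⟨⟨ho, hk, hc⟩, hA, hg⟩ := And.intro D.hodd (And.intro D.hA D.hg)
  have ho0 : (o : ℤ) ≠ 0 := by exact_mod_cast ho.pos.ne'
  have hk0 : (k : ℤ) ≠ 0 := by exact_mod_cast hk.pos.ne'
  have hc0 : (c : ℤ) ≠ 0 := by exact_mod_cast hc.pos.ne'
  have hT0 : (τ.natAbs : ℤ) ≠ 0 := by exact_mod_cast Int.natAbs_ne_zero.2 hτ0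
  have hC0 : 2 * (o : ℤ) * P * (P ^ 2 - 1) ≠ 0 :=
    mul_ne_zero (mul_ne_zero (mul_ne_zero two_ne_zero ho0) hP0) hPP
  have h2t : (2 : ℤ) ^ t ≠ 0 := pow_ne_zero _ two_ne_zero
  have hR : (2 * (o : ℤ) * P * (P ^ 2 - 1)) ^ 2 * 2 ^ t * ((k : ℤ) * (τ.natAbs : ℤ)) * A * (A - 1) ≠ 0 :=
    mul_ne_zero (mul_ne_zero (mul_ne_zero (mul_ne_zero (pow_ne_zero 2 hC0) h2t) (mul_ne_zero hk0 hT0)) hA) hg
  have hM : A - P ≠ 0 := fun e => hR (by rw [← D.horder, e]; ring)
  have hN0 : (N : ℤ) ≠ 0 := fun e => hR (by rw [← D.horder, e]; ring)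
  -- the valuation identity
  have V : ∀ r : ℕ, r.Prime → padicValInt r (N : ℤ) + padicValInt r 2 + 2 * padicValInt r (A - P) + 2 * padicValNat r c =
      2 * (padicValInt r 2 + padicValNat r o + padicValInt r P + padicValInt r (P ^ 2 - 1)) + t * padicValInt r 2 +
        padicValNat r k + padicValInt r τ + padicValInt r A + padicValInt r (A - 1) := by
    intro r hr
    haveI : Fact r.Prime := ⟨hr⟩
    have h := congrArg (padicValInt r) D.horder
    rw [vmul (mul_ne_zero (mul_ne_zero hN0 two_ne_zero) (pow_ne_zero 2 hM)) (pow_ne_zero 2 hc0),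
      vmul (mul_ne_zero hN0 two_ne_zero) (pow_ne_zero 2 hM), vmul hN0 two_ne_zero, vsq hM, vsq hc0,
      vmul (mul_ne_zero (mul_ne_zero (mul_ne_zero (pow_ne_zero 2 hC0) h2t) (mul_ne_zero hk0 hT0)) hA) hg,
      vmul (mul_ne_zero (mul_ne_zero (pow_ne_zero 2 hC0) h2t) (mul_ne_zero hk0 hT0)) hA,
      vmul (mul_ne_zero (pow_ne_zero 2 hC0) h2t) (mul_ne_zero hk0 hT0), vmul (pow_ne_zero 2 hC0) h2t,
      vsq hC0, vmul (mul_ne_zero (mul_ne_zero two_ne_zero ho0) hP0) hPP, vmul (mul_ne_zero two_ne_zero ho0) hP0,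
      vmul two_ne_zero ho0, vmul hk0 hT0, padicValInt.of_nat (n := c), padicValInt.of_nat (n := o),
      padicValInt.of_nat (n := k)] at h
    have hpow : padicValInt r ((2 : ℤ) ^ t) = t * padicValInt r 2 := vpow two_ne_zero t
    have hab : padicValInt r (τ.natAbs : ℤ) = padicValInt r τ := by rw [padicValInt.of_nat]; rfl
    rw [hpow, hab] at h
    linarith
  -- the prime `p`
  have hpP : (p : ℤ) ∣ P := Int.natCast_dvd.2 (by rw [D.hP])
  have hvP : padicValInt p P = 1 := by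
    show padicValNat p P.natAbs = 1
    rw [D.hP, padicValNat_self]
  have hp1 : ¬ (p : ℤ) ∣ 1 := fun h => D.hp.one_lt.ne' (by
    have := Int.natCast_dvd.1 h; simpa using this)
  have hp_2 : ¬ (p : ℤ) ∣ 2 := fun h => hp2 ((Nat.prime_dvd_prime_iff_eq D.hp Nat.prime_two).1 (by
    simpa using Int.natCast_dvd.1 h))
  have hpτ : ¬ (p : ℤ) ∣ τ := fun h => hp1 (by
    have := dvd_sub (h.mul_left (2 ^ t)) hpP
    rwa [← D.hPτ, add_sub_cancel_left] at this)
  obtain ⟨hNp, hco, hck⟩ := D.hloc p D.hp (Or.inl rfl)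
  rw [vmul (mul_ne_zero (mul_ne_zero two_ne_zero ho0) hP0) hPP, vmul (mul_ne_zero two_ne_zero ho0) hP0,
    vmul two_ne_zero ho0, padicValInt.of_nat (n := o)] at hNp
  have hpPP : padicValInt p (P ^ 2 - 1) = 0 := vzero (not_dvd_of_sub (dvd_pow hpP two_ne_zero) hp1)
  have Vp := V p D.hp
  rw [hNp, vzero hp_2, vzero hpτ, hpPP, hvP] at Vp
  have hpA : (p : ℤ) ∣ A := by
    by_contra hnA
    rw [vzero hnA, vzero (fun h : (p : ℤ) ∣ A - P => hnA (by simpa using dvd_add h hpP))] at Vp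
    omega
  obtain ⟨a, rfl⟩ : P ∣ A := by
    rcases Int.natAbs_eq P with e | e <;> rw [e, D.hP]
    · exact hpA
    · exact neg_dvd.2 hpA
  have ha0 : a ≠ 0 := right_ne_zero_of_mul hA
  have hm0 : a - 1 ≠ 0 := fun e => hM (by linear_combination P * e)
  rw [show P * a - P = P * (a - 1) by ring, vmul hP0 hm0, vmul hP0 ha0,
    vzero (not_dvd_of_sub (hpP.mul_right a) hp1), hvP] at Vp
  have hpa : ¬ (p : ℤ) ∣ a := fun h => by
    rw [vzero (not_dvd_of_sub h hp1)] at Vp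
    have := vpos ha0 h
    omega
  -- the second constituent
  have hAB : P * a * B = P ^ 2 * x := mul_right_cancel₀ D.hsum (by linear_combination D.hcount)
  rw [D.hx] at hAB
  have hdE : (a - P) * (B - P ^ 2) = P * (P ^ 2 - 1) :=
    mul_left_cancel₀ hP0 (by linear_combination hAB)
  have hpd : ¬ (p : ℤ) ∣ a - P := fun h => hpa (by simpa using dvd_add h hpP)
  have hPprime : Prime P := Int.prime_iff_natAbs_prime.2 (D.hP.symm ▸ D.hp)
  obtain ⟨e, he⟩ : P ∣ B - P ^ 2 := (hPprime.dvd_or_dvd ⟨_, hdE⟩).resolve_left fun h => hpd (by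
    rw [← D.hP]; exact Int.natAbs_dvd.2 h)
  have hde : (a - P) * e = P ^ 2 - 1 := mul_left_cancel₀ hP0 (by rw [he] at hdE; linear_combination hdE)
  -- the prime two
  have v22 : padicValInt 2 (2 : ℤ) = 1 := by exact_mod_cast padicValInt.self (p := 2) one_lt_two
  have hvτ : padicValInt 2 τ = 0 := vzero (fun h => (Int.not_even_iff_odd.2 D.hτ) (even_iff_two_dvd.2 h))
  have hP1 : padicValInt 2 (P + 1) = t := by
    rw [D.hPτ, vmul h2t hτ0, hvτ, add_zero]
    show padicValNat 2 ((2 : ℤ) ^ t).natAbs = t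
    rw [Int.natAbs_pow]; exact padicValNat.prime_pow t
  have hP1' : padicValInt 2 (P - 1) = 1 := by
    rw [show P - 1 = 2 * (2 * q - 1) by linarith, vmul two_ne_zero (by omega), v22,
      vzero (fun h => by omega)]
  have hP2 : padicValInt 2 P = 0 := vzero (fun h => by omega)
  have hPPv : padicValInt 2 (P ^ 2 - 1) = t + 1 := by
    rw [show P ^ 2 - 1 = (P + 1) * (P - 1) by ring, vmul hPp1 hPm1, hP1, hP1']
  have V2 := V 2 Nat.prime_two
  have ev : ∀ n : ℕ, Odd n → padicValNat 2 n = 0 := fun n hn =>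
    padicValNat.eq_zero_of_not_dvd fun h => Nat.not_even_iff_odd.2 hn (even_iff_two_dvd.2 h)
  rw [padicValInt.of_nat (n := N), D.hN, v22, ev o ho, ev k hk, ev c hc, hvτ, hPPv,
    show P * a - P = P * (a - 1) by ring, vmul hP0 hm0, vmul hP0 ha0, hP2] at V2
  have haodd : ¬ (2 : ℤ) ∣ a := fun h => by
    rw [vzero (r := 2) (a := a - 1) (fun h' => by
      exact (not_dvd_of_sub h (by omega)) h')] at V2
    omega
  have hm2 : (2 : ℤ) ^ (t + 1) ∣ a - 1 := by
    have := (padicValInt_dvd_iff (p := 2) (t + 1) (a - 1)).2 (Or.inr (by omega))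
    exact_mod_cast this
  -- the odd primes of `P + 1`
  have hmτ : τ ∣ a - 1 := by
    rw [← Int.natAbs_dvd_natAbs, ← Nat.factorization_le_iff_dvd (Int.natAbs_ne_zero.2 hτ0) (Int.natAbs_ne_zero.2 hm0)]
    intro r
    by_cases hr : r.Prime
    swap; · simp [Nat.factorization_eq_zero_of_not_prime _ hr]
    haveI : Fact r.Prime := ⟨hr⟩
    rw [Nat.factorization_def _ hr, Nat.factorization_def _ hr]
    show padicValInt r τ ≤ padicValInt r (a - 1)
    by_cases hrτ : (r : ℤ) ∣ τ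
    swap; · rw [vzero hrτ]; exact Nat.zero_le _
    have hr2 : r ≠ 2 := fun e => by
      subst e
      exact Int.not_even_iff_odd.2 D.hτ (even_iff_two_dvd.2 hrτ)
    have hrP1 : (r : ℤ) ∣ P + 1 := by rw [D.hPτ]; exact hrτ.mul_left _
    have hr_2 : ¬ (r : ℤ) ∣ 2 := fun h => hr2 ((Nat.prime_dvd_prime_iff_eq hr Nat.prime_two).1 (by
      simpa using Int.natCast_dvd.1 h))
    have hrP : ¬ (r : ℤ) ∣ P := fun h => by
      have h1 : (r : ℤ) ∣ 1 := by simpa using dvd_sub hrP1 h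
      exact hr.one_lt.ne' (by simpa using Int.natCast_dvd.1 h1)
    have hrPm : ¬ (r : ℤ) ∣ P - 1 := fun h => hr_2 (by simpa using dvd_sub hrP1 h)
    obtain ⟨hNr, hrco, hrck⟩ := D.hloc r hr (Or.inr ⟨hr2, hrP1⟩)
    rw [vmul (mul_ne_zero (mul_ne_zero two_ne_zero ho0) hP0) hPP, vmul (mul_ne_zero two_ne_zero ho0) hP0,
      vmul two_ne_zero ho0, padicValInt.of_nat (n := o)] at hNr
    have hv1 : padicValInt r (P ^ 2 - 1) = padicValInt r τ := by
      rw [show P ^ 2 - 1 = (P - 1) * (P + 1) by ring, vmul hPm1 hPp1, vzero hrPm, D.hPτ,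
        vmul h2t hτ0, vzero (a := (2 : ℤ) ^ t) (fun h => hr_2 (Int.Prime.dvd_pow' hr h))]
      simp
    have Vr := V r hr
    rw [hNr, vzero hr_2, vzero hrP, hv1, show P * a - P = P * (a - 1) by ring, vmul hP0 hm0, vzero hrP] at Vr
    linarith only [Vr, hrco, hrck]
  have hco : IsCoprime ((2 : ℤ) ^ (t + 1)) τ := IsCoprime.pow_left
    ((Prime.coprime_iff_not_dvd Int.prime_two).2 fun h => Int.not_even_iff_odd.2 D.hτ (even_iff_two_dvd.2 h))
  obtain ⟨j, hj⟩ : (2 : ℤ) ^ (t + 1) * τ ∣ a - 1 := hco.mul_dvd hm2 hmτ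
  have hj' : a - 1 = 8 * q * j := by
    rw [hj, pow_succ, mul_comm ((2 : ℤ) ^ t) 2, mul_assoc 2, ← D.hPτ, hq]; ring
  have hj0 : j ≠ 0 := fun e => hm0 (by rw [hj', e, mul_zero])
  obtain ⟨d, hd⟩ : ∃ d, d = 4 * q * j - 2 * q + 1 := ⟨_, rfl⟩
  have had : a - P = 2 * d := by rw [hd]; linarith
  have hdd : d ∣ (2 * q - 1) * (4 * q) := ⟨e, mul_left_cancel₀ (two_ne_zero (α := ℤ)) (by
    rw [had, show P = 4 * q - 1 by linarith] at hde; linear_combination -hde)⟩
  have hcop : IsCoprime d (4 * q) := by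
    rw [show (4 : ℤ) * q = 2 * (2 * q) by ring]
    exact IsCoprime.mul_right ⟨1, -(2 * q * j - q), by rw [hd]; ring⟩ ⟨1, -(2 * j - 1), by rw [hd]; ring⟩
  have hdq : d ∣ 2 * q - 1 := hcop.dvd_of_dvd_mul_right hdd
  have hle := Int.le_of_dvd (show 0 < |2 * q - 1| by rw [abs_pos]; omega) ((abs_dvd_abs d (2 * q - 1)).2 hdq)
  have hq1 : q < 0 := by
    by_contra hq1
    rcases lt_or_gt_of_ne hj0 with hjn | hjp
    · have : 4 * q * j ≤ 4 * q * (-1) := mul_le_mul_of_nonneg_left (by omega) (by omega)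
      rw [abs_of_neg (show d < 0 by omega), abs_of_pos (show 0 < 2 * q - 1 by omega)] at hle
      omega
    · have : 4 * q * 1 ≤ 4 * q * j := mul_le_mul_of_nonneg_left (by omega) (by omega)
      rw [abs_of_pos (show 0 < d by omega), abs_of_pos (show 0 < 2 * q - 1 by omega)] at hle
      omega
  rw [abs_of_neg (show 2 * q - 1 < 0 by omega)] at hle
  have hj1 : j = 1 := by
    rcases lt_or_gt_of_ne hj0 with hjn | hjp
    · have : 4 * q * (-1) ≤ 4 * q * j := mul_le_mul_of_nonpos_left (by omega) (by omega)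
      rw [abs_of_pos (show 0 < d by omega)] at hle
      omega
    · by_contra hne
      have : 4 * q * j ≤ 4 * q * 2 := mul_le_mul_of_nonpos_left (by omega) (by omega)
      rw [abs_of_neg (show d < 0 by omega)] at hle
      omega
  subst hj1
  have hd' : d = 2 * q + 1 := by linarith
  have h2d : d ∣ 2 := by
    have := dvd_sub (dvd_refl d) hdq
    rwa [show d - (2 * q - 1) = 2 by linarith] at this
  have hle2 := Int.le_of_dvd (by norm_num) ((abs_dvd d 2).2 h2d)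
  rw [abs_le] at hle2
  have hq' : q = -1 := by omega
  subst hq'
  have hP5 : P = -5 := by linarith
  subst hP5
  have hp5 : p = 5 := by rw [← D.hP]; rfl
  have ha7 : a = -7 := by linarith
  subst ha7
  have htt : t = 2 := by
    have h := hP1
    rw [show (-5 : ℤ) + 1 = -4 by norm_num] at h
    rw [← h]; show padicValNat 2 4 = 2
    rw [show (4 : ℕ) = 2 ^ 2 by norm_num, padicValNat.prime_pow]
  subst htt
  have hτ1 : τ = -1 := by have := D.hPτ; norm_num at this; omega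
  subst hτ1
  refine ⟨hp5, rfl, rfl, rfl, by norm_num, ?_⟩
  have h := D.horder
  norm_num at h
  exact_mod_cast (show (N : ℤ) * (c : ℤ) ^ 2 = 85680 * (o : ℤ) ^ 2 * k by linarith)

end Cfsg.Agent.Invol.AlmostCyclic
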