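import Cfsg.Agent.Lib.Invol.AlmostCyclic.Lattice
import Cfsg.Agent.Lib.Block.ClassMul

/-!
# The degree equations and the order formula (for S4069)
-/

set_option autoImplicit false

open scoped ComplexConjugate

namespace Cfsg.Agent.Invol.AlmostCyclic

open Cfsg Cfsg.Agent.Char

universe u

variable {G : Type u} [Group G] [Fintype G] {t : ℕ}

open scoped Classical in
theorem card_conj_filter (x y : G) :
    (Finset.univ.filter fun h : G => h * x * h⁻¹ = y).card =
      if IsConj x y then Nat.card (Subgroup.centralizer ({x} : Set G)) else 0 := by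
  split_ifs with h
  · obtain ⟨h0, rfl⟩ := isConj_iff.1 h
    rw [← card_elts]
    refine Finset.card_bij' (fun g _ => h0⁻¹ * g) (fun g _ => h0 * g) (fun g hg => ?_) (fun g hg => ?_)
      (fun g _ => by group) (fun g _ => by group)
    · rw [Finset.mem_filter] at hg
      rw [mem_elts, Subgroup.mem_centralizer_singleton_iff]
      calc h0⁻¹ * g * x = h0⁻¹ * (g * x * g⁻¹) * g := by group
        _ = x * (h0⁻¹ * g) := by rw [hg.2]; group
    · rw [mem_elts, Subgroup.mem_centralizer_singleton_iff] at hg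
      rw [Finset.mem_filter]
      refine ⟨Finset.mem_univ _, ?_⟩
      calc h0 * g * x * (h0 * g)⁻¹ = h0 * (g * x) * g⁻¹ * h0⁻¹ := by group
        _ = h0 * x * h0⁻¹ := by rw [hg]; group
  · rw [Finset.card_eq_zero, Finset.filter_eq_empty_iff]
    exact fun g _ e => h (isConj_iff.2 ⟨g, e⟩)

open scoped Classical in
theorem card_conj_filter' (x y : G) :
    (Finset.univ.filter fun h : G => h * x * h⁻¹ = y).card =
      if IsConj x y then Nat.card (Subgroup.centralizer ({y} : Set G)) else 0 := by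
  rw [if_congr isConj_comm rfl rfl, ← card_conj_filter y x]
  refine Finset.card_bij' (fun g _ => g⁻¹) (fun g _ => g⁻¹) (fun g hg => ?_) (fun g hg => ?_)
    (fun g _ => inv_inv g) (fun g _ => inv_inv g)
  all_goals
    rw [Finset.mem_filter] at hg ⊢
    refine ⟨Finset.mem_univ _, ?_⟩
    rw [← hg.2]
    group

namespace Cfg

variable (S : Cfg G t)

/-- The weight of a character. -/
noncomputable def wt (χ : IrrCharacter G) : ℂ :=
  (χ : G → ℂ) S.z * (χ : G → ℂ) S.z / (χ : G → ℂ) 1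

theorem centralizer_z : Subgroup.centralizer ({S.z} : Set G) = S.C := by
  ext g
  rw [Subgroup.mem_centralizer_singleton_iff, S.C_iff]

/-- Pairs of conjugates of the central involution with a given product. -/
theorem sum_wt (a : G) (ha : a * a ≠ 1) :
    ∑ χ : IrrCharacter G, S.wt χ * (χ : G → ℂ) a =
      (Nat.card S.C : ℂ) * Nat.card S.C * (inverters a).card / Nat.card G := by
  classical
  have hG : (Nat.card G : ℂ) ≠ 0 := Nat.cast_ne_zero.2 Nat.card_pos.ne'
  rw [eq_div_iff hG, Finset.sum_mul]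
  have e1 : ∀ χ : IrrCharacter G, S.wt χ * (χ : G → ℂ) a * Nat.card G =
      ∑ g : G, (χ : G → ℂ) (S.z * (g * S.z * g⁻¹)) * (χ : G → ℂ) a := by
    intro χ
    rw [← Finset.sum_mul, Cfsg.Agent.Block.sum_mul_conj, wt]
    ring
  rw [Finset.sum_congr rfl fun χ _ => e1 χ, Finset.sum_comm]
  have e2 : ∀ g : G, ∑ χ : IrrCharacter G, (χ : G → ℂ) (S.z * (g * S.z * g⁻¹)) * (χ : G → ℂ) a =
      ((Finset.univ.filter fun h : G => h * (S.z * (g * S.z * g⁻¹)) * h⁻¹ = a⁻¹).card : ℂ) := by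
    intro g
    have h := sum_irr_mul_conj (S.z * (g * S.z * g⁻¹)) a⁻¹
    rw [Finset.sum_congr rfl fun (χ : IrrCharacter G) _ => show (χ : G → ℂ) (S.z * (g * S.z * g⁻¹)) * conj ((χ : G → ℂ) a⁻¹) =
      (χ : G → ℂ) (S.z * (g * S.z * g⁻¹)) * (χ : G → ℂ) a by
      rw [Cfsg.Agent.Block.irr_apply_inv, Complex.conj_conj]] at h
    rw [h, card_conj_filter']
    split_ifs <;> simp
  rw [Finset.sum_congr rfl fun g _ => e2 g]
  have e3 : ∑ g : G, (Finset.univ.filter fun h : G => h * (S.z * (g * S.z * g⁻¹)) * h⁻¹ = a⁻¹).card =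
      Nat.card S.C * Nat.card S.C * (inverters a).card := by
    simp only [Finset.card_filter]
    rw [Finset.sum_comm]
    have e4 : ∀ h : G, (∑ g : G, if h * (S.z * (g * S.z * g⁻¹)) * h⁻¹ = a⁻¹ then 1 else 0) =
        if h * S.z * h⁻¹ ∈ inverters a then Nat.card S.C else 0 := by
      intro h
      rw [← Finset.card_filter]
      set u := h * S.z * h⁻¹ with hu
      have hu2 : u * u = 1 := by
        rw [hu, show h * S.z * h⁻¹ * (h * S.z * h⁻¹) = h * (S.z * S.z) * h⁻¹ by group, S.z_sq, mul_one,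
          mul_inv_cancel]
      have hcard : (Finset.univ.filter fun g : G => h * (S.z * (g * S.z * g⁻¹)) * h⁻¹ = a⁻¹).card =
          (Finset.univ.filter fun l : G => l * S.z * l⁻¹ = u * a⁻¹).card := by
        have key : ∀ g, h * (S.z * (g * S.z * g⁻¹)) * h⁻¹ = u * (h * g * S.z * (h * g)⁻¹) := fun g => by
          rw [hu]; group
        refine Finset.card_bij' (fun g _ => h * g) (fun l _ => h⁻¹ * l) (fun g hg => ?_) (fun l hl => ?_)
          (fun g _ => by group) (fun l _ => by group)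
        · rw [Finset.mem_filter, key] at hg
          rw [Finset.mem_filter, ← hg.2, ← mul_assoc u u, hu2, one_mul]
          exact ⟨Finset.mem_univ _, rfl⟩
        · rw [Finset.mem_filter] at hl
          rw [Finset.mem_filter, key, mul_inv_cancel_left, hl.2, ← mul_assoc, hu2, one_mul]
          exact ⟨Finset.mem_univ _, rfl⟩
      rw [hcard, card_conj_filter, S.centralizer_z]
      refine if_congr ⟨fun hc => ?_, fun hi => ?_⟩ rfl rfl
      · have hz1 : S.z ≠ 1 := fun e => by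
          have h1 := congrArg S.rot e
          rw [← S.r_pow_mid, S.rot_r_pow, S.rot_one] at h1
          exact mid_ne_zero h1
        refine Finset.mem_filter.2 ⟨Finset.mem_univ _, orderOf_eq_prime (by rw [pow_two, hu2]) ?_, ?_⟩
        · exact fun e => hz1 (conj_eq_one_iff.1 e)
        · obtain ⟨l, hl⟩ := isConj_iff.1 hc
          have h2 : u * a⁻¹ * (u * a⁻¹) = 1 := by
            rw [← hl, show l * S.z * l⁻¹ * (l * S.z * l⁻¹) = l * (S.z * S.z) * l⁻¹ by group, S.z_sq, mul_one,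
              mul_inv_cancel]
          calc u * a * u⁻¹ = u * (u * a⁻¹ * (u * a⁻¹)) * a * u⁻¹ := by rw [h2, mul_one]
            _ = u * u * a⁻¹ := by group
            _ = a⁻¹ := by rw [hu2, one_mul]
      · obtain ⟨-, ho, hinv⟩ := Finset.mem_filter.1 hi
        refine S.one_class _ (orderOf_eq_prime ?_ ?_)
        · rw [pow_two]
          calc u * a⁻¹ * (u * a⁻¹) = u * a⁻¹ * u⁻¹ * (u * u) * a⁻¹ := by group
            _ = (u * a * u⁻¹)⁻¹ * a⁻¹ := by rw [hu2]; group
            _ = 1 := by rw [hinv, inv_inv, mul_inv_cancel]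
        · intro e
          have e' : u = a := mul_inv_eq_one.1 e
          exact ha (by rw [← e', hu2])
    rw [Finset.sum_congr rfl fun h _ => e4 h, ← Finset.sum_filter, Finset.sum_const, smul_eq_mul]
    have e5 : (Finset.univ.filter fun h : G => h * S.z * h⁻¹ ∈ inverters a).card =
        Nat.card S.C * (inverters a).card := by
      rw [Finset.card_eq_sum_card_fiberwise (s := Finset.univ.filter fun h : G => h * S.z * h⁻¹ ∈ inverters a)
        (f := fun h => h * S.z * h⁻¹) (t := inverters a)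
        (fun h hh => (Finset.mem_filter.1 hh).2), Finset.sum_congr rfl fun u hu => ?_, Finset.sum_const,
        smul_eq_mul, mul_comm]
      rw [Finset.filter_filter, ← S.centralizer_z]
      rw [Finset.filter_congr fun h _ => show (h * S.z * h⁻¹ ∈ inverters a ∧ h * S.z * h⁻¹ = u) ↔
        h * S.z * h⁻¹ = u from ⟨And.right, fun e => ⟨e ▸ hu, e⟩⟩, card_conj_filter,
        if_pos (S.one_class u (Finset.mem_filter.1 hu).2.1)]
    rw [e5]; ring
  exact_mod_cast e3

/-- The weighted sum of the averages at a rotation. -/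
theorem sum_wt_avg (i : Rot t) (h0 : i ≠ 0) (h1 : i ≠ mid t) :
    ∑ χ : IrrCharacter G, S.wt χ * S.avg (χ : G → ℂ) i =
      (Nat.card S.C : ℂ) * Nat.card S.C * (∑ k ∈ elts S.K, (inverters (k * S.r ^ i.val)).card : ℕ) /
        (Nat.card G * Nat.card S.K) := by
  simp only [avg, Finset.mul_sum]
  rw [Finset.sum_comm]
  have h : ∀ k ∈ elts S.K, ∑ χ : IrrCharacter G,
      S.wt χ * ((Nat.card S.K : ℂ)⁻¹ * (χ : G → ℂ) (k * S.r ^ i.val)) =
      (Nat.card S.C : ℂ) * Nat.card S.C * (inverters (k * S.r ^ i.val)).card /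
        (Nat.card G * Nat.card S.K) := by
    intro k hk
    rw [Finset.sum_congr rfl fun χ _ => show S.wt χ * ((Nat.card S.K : ℂ)⁻¹ * (χ : G → ℂ) (k * S.r ^ i.val)) =
      (Nat.card S.K : ℂ)⁻¹ * (S.wt χ * (χ : G → ℂ) (k * S.r ^ i.val)) by ring, ← Finset.mul_sum,
      S.sum_wt _ (fun e => ?_)]
    · field_simp
    · have hmem := mul_mem (S.K_le (mem_elts.1 hk)) (pow_mem S.r_mem i.val)
      have h2 := congrArg S.rot e
      rw [S.rot_mul _ hmem _ hmem, S.rot_eq_of_mem (mem_elts.1 hk), S.rot_one] at h2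
      exact ((two_mul_eq_zero_iff S.one_le).1 h2).elim h0 h1
  rw [Finset.sum_congr rfl h, Nat.cast_sum, Finset.mul_sum, Finset.sum_div]

/-- The weighted sum of the coefficients at a rotation lift with real values. -/
theorem sum_wt_vec (b : Rot t) (hb : ∀ i : Rot t, conj (pair 0 i - pair b i) = pair 0 i - pair b i)
    {f : IrrCharacter G → ℤ} (hf : IsRep (S.vec 1 0 b 0 0) f) :
    ∑ χ : IrrCharacter G, S.wt χ * f χ = (2 * (2 ^ (t + 1) : ℂ))⁻¹ *
      rotSum (fun i => (pair 0 i - pair b i) * ∑ χ : IrrCharacter G, S.wt χ * S.avg (χ : G → ℂ) i) := by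
  have h : ∀ χ : IrrCharacter G, (f χ : ℂ) =
      (2 * (2 ^ (t + 1) : ℂ))⁻¹ * rotSum (fun i => (pair 0 i - pair b i) * S.avg (χ : G → ℂ) i) := by
    intro χ
    have h1 := hf χ
    rw [vec, S.inner_lift _ _ (IsIrr.classFun χ.2)] at h1
    simp only [Complex.ofReal_one, one_mul, Int.cast_zero, zero_mul, add_zero, Finset.sum_const_zero,
      mul_zero] at h1
    have h2 := congrArg (starRingEnd ℂ) h1
    rw [map_intCast, map_mul, map_inv₀, map_mul, map_pow, map_ofNat, rotSum, map_sum] at h2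
    rw [← h2, rotSum]
    congr 1
    exact Finset.sum_congr rfl fun i _ => by rw [map_mul, hb, Complex.conj_conj]
  simp only [h, rotSum, Finset.mul_sum]
  rw [Finset.sum_comm]
  exact Finset.sum_congr rfl fun i _ => Finset.sum_congr rfl fun χ _ => by ring

theorem row_value {χ : IrrCharacter G} {m : Rot t → ℤ} {d0 d1 : ℤ} (R : S.Row χ m d0 d1) :
    (χ : G → ℂ) S.z = -2 * classInner S.v' (χ : G → ℂ) - classInner S.v4 (χ : G → ℂ) +
      ((S.P : ℂ) - 1) * classInner S.vu (χ : G → ℂ) := by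
  have h1 := R.hz 1 (mem_regElts.2 ⟨one_mem _, by rw [orderOf_one]; exact odd_one⟩)
  rw [mul_one, S.φ_one] at h1
  rw [h1, v', v4, vu, R.inner_vec, R.inner_vec, R.inner_vec, sgd_zero_mid S.ht]
  push_cast
  field_simp
  ring

theorem conj_pair_sub_mid (i : Rot t) (ht : 2 ≤ t) :
    conj (pair 0 i - pair (mid t) i) = pair 0 i - pair (mid t) i := by
  rw [pair_zero_sub_mid (by omega)]
  split_ifs <;> norm_num [map_ofNat]

theorem conj_pair_sub_qua (i : Rot t) (ht : 2 ≤ t) :
    conj (pair 0 i - pair (qua t) i) = pair 0 i - pair (qua t) i := by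
  rw [pair_zero_sub_qua ht]
  split_ifs <;> norm_num [map_ofNat]

theorem card_two_mod_four (ht : 2 ≤ t) :
    ((Finset.univ : Finset (Rot t)).filter fun i => i.val % 4 = 2).card = 2 ^ (t - 1) := by
  obtain ⟨h1, h2, h3, hX⟩ := xq_eq ht
  rw [h3, ← Finset.card_range (2 * xq t)]
  refine Finset.card_bij' (fun i _ => i.val / 4) (fun j _ => ((4 * j + 2 : ℕ) : Rot t)) (fun i hi => ?_)
    (fun j hj => ?_) (fun i hi => ?_) (fun j hj => ?_)
  · have := i.val_lt
    simp only [Finset.mem_filter, Finset.mem_univ, true_and] at hi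
    rw [Finset.mem_range]; omega
  · rw [Finset.mem_range] at hj
    simp only [Finset.mem_filter, Finset.mem_univ, true_and, ZMod.val_natCast]
    rw [Nat.mod_eq_of_lt (show 4 * j + 2 < 2 ^ (t + 1) by omega)]; omega
  · simp only [Finset.mem_filter, Finset.mem_univ, true_and] at hi
    show ((4 * (i.val / 4) + 2 : ℕ) : Rot t) = i
    rw [show 4 * (i.val / 4) + 2 = i.val by omega, ZMod.natCast_zmod_val]
  · rw [Finset.mem_range] at hj
    rw [ZMod.val_natCast, Nat.mod_eq_of_lt (by omega)]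
    omega

/-- The numbers of the configuration. -/
theorem numbers : ∃ A B x : ℤ, x = A + B - 1 ∧ A + B ≠ 0 ∧ A ≠ 0 ∧ A - 1 ≠ 0 ∧
    A * B * (A + B) = S.P ^ 2 * (A + B) * x ∧
    (Nat.card G : ℤ) * 2 * (A - S.P) ^ 2 * (S.c : ℤ) ^ 2 =
      (Nat.card S.C : ℤ) ^ 2 * 2 ^ t * (Nat.card S.K : ℤ) * A * (A - 1) := by
  classical
  obtain ⟨e3, e4, e', iu, ih, E, O, r3, r4, r', ru, L⟩ := S.exists_liftData
  obtain ⟨α, β, δ, γ, sα, sβ, sδ, sγ, ⟨qa, qb, qd, qg⟩, ⟨na, nb, nd, ng⟩, ⟨nab, nad, nag, nbd, nbg, ndg⟩,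
    ⟨a3, g3, z3⟩, ⟨a4, b4, d4, z4⟩, ⟨a', b', d', g'⟩, ⟨au, bu, du, gu⟩⟩ := L.solve
  set o := Cfsg.Agent.Block.trivialIrr G with ho
  have hg4 : e4 γ = 0 := z4 γ ng nag.symm nbg.symm ndg.symm
  have hval : ∀ χ, (e3 χ ≠ 0 ∨ e4 χ ≠ 0) → (χ : G → ℂ) S.z =
      ((-2 * e' χ - e4 χ + (S.P - 1) * iu χ : ℤ) : ℂ) := by
    intro χ hne
    rcases S.row_or_null χ with ⟨m, d0, d1, R⟩ | h
    · rw [S.row_value R, r' χ, r4 χ, ru χ]; push_cast; ring
    · exfalso
      rcases hne with hne | hne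
      · refine hne ?_
        have h1 := r3 χ
        rw [v3, h] at h1
        exact_mod_cast h1.symm
      · refine hne ?_
        have h1 := r4 χ
        rw [v4, h] at h1
        exact_mod_cast h1.symm
  have unz : ∀ {x : ℤ}, x * x = 1 → x ≠ 0 := fun h e => by rw [e] at h; norm_num at h
  have va := hval α (Or.inr (by rw [a4]; exact unz qa))
  have vb := hval β (Or.inr (by rw [b4]; exact unz qb))
  have vd := hval δ (Or.inr (by rw [d4]; exact unz qd))
  have vg := hval γ (Or.inl (by rw [g3]; exact unz qg))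
  rw [a', a4, au] at va
  rw [b', b4, bu] at vb
  rw [d', d4, du] at vd
  rw [g', hg4, gu] at vg
  let d : IrrCharacter G → ℕ := fun χ => Cfsg.charDegree (χ : G → ℂ)
  have hd : ∀ χ : IrrCharacter G, (χ : G → ℂ) 1 = (d χ : ℂ) := fun χ => Cfsg.Agent.Block.charDeg_spec' χ
  have hd0 : ∀ χ, d χ ≠ 0 := fun χ => (Cfsg.Agent.Block.charDeg_pos χ).ne'
  have s3 : ∀ F : IrrCharacter G → ℂ, ∑ χ, F χ * e3 χ = F o + F α * sα + F γ * sγ := by
    intro F
    rw [← Finset.sum_subset (Finset.subset_univ ({o, α, γ} : Finset (IrrCharacter G))) fun χ _ hχ => by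
      simp only [Finset.mem_insert, Finset.mem_singleton, not_or] at hχ
      rw [z3 χ hχ.1 hχ.2.1 hχ.2.2, Int.cast_zero, mul_zero],
      Finset.sum_insert (by simp [Ne.symm na, Ne.symm ng]), Finset.sum_pair nag, L.o3, a3, g3]
    push_cast; ring
  have s4 : ∀ F : IrrCharacter G → ℂ, ∑ χ, F χ * e4 χ = F o + F α * sα + F β * sβ + F δ * sδ := by
    intro F
    rw [← Finset.sum_subset (Finset.subset_univ ({o, α, β, δ} : Finset (IrrCharacter G))) fun χ _ hχ => by
      simp only [Finset.mem_insert, Finset.mem_singleton, not_or] at hχ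
      rw [z4 χ hχ.1 hχ.2.1 hχ.2.2.1 hχ.2.2.2, Int.cast_zero, mul_zero],
      Finset.sum_insert (by simp [Ne.symm na, Ne.symm nb, Ne.symm nd]),
      Finset.sum_insert (by simp [nab, nad]), Finset.sum_pair nbd, L.o4, a4, b4, d4]
    push_cast; ring
  have hdeg : ∀ {v : G → ℂ} {f : IrrCharacter G → ℤ}, IsClassFunction G v → v 1 = 0 → IsRep v f →
      ∑ χ : IrrCharacter G, (χ : G → ℂ) 1 * f χ = 0 := by
    intro v f hv h1 hf
    have h := congrFun (classFunction_expansion hv) 1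
    rw [Finset.sum_apply, h1] at h
    rw [h]
    refine Finset.sum_congr rfl fun χ _ => ?_
    rw [Pi.smul_apply, smul_eq_mul, hf, mul_comm]
  have E3 := hdeg (S.vec_classFun _ _ _ _ _) (S.vec_one _ _ _ _ _) r3
  rw [s3] at E3
  have E4 := hdeg (S.vec_classFun _ _ _ _ _) (S.vec_one _ _ _ _ _) r4
  rw [s4] at E4
  have ho1 : (o : G → ℂ) 1 = 1 := rfl
  have hoz : (o : G → ℂ) S.z = 1 := rfl
  rw [ho1, hd, hd] at E3
  rw [ho1, hd, hd, hd] at E4
  set A : ℤ := -sα * d α with hA
  set B : ℤ := -sβ * d β with hB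
  have E3' : 1 + (d α : ℤ) * sα + (d γ : ℤ) * sγ = 0 := by exact_mod_cast E3
  have E4' : 1 + (d α : ℤ) * sα + (d β : ℤ) * sβ + (d δ : ℤ) * sδ = 0 := by exact_mod_cast E4
  have hg : A - 1 = sγ * d γ := by rw [hA]; linear_combination -E3'
  have hx : A + B - 1 = sδ * d δ := by rw [hA, hB]; linear_combination -E4'
  have hA0 : A ≠ 0 := mul_ne_zero (neg_ne_zero.2 (unz qa)) (by exact_mod_cast hd0 α)
  have hB0 : B ≠ 0 := mul_ne_zero (neg_ne_zero.2 (unz qb)) (by exact_mod_cast hd0 β)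
  have hg0 : A - 1 ≠ 0 := hg ▸ mul_ne_zero (unz qg) (by exact_mod_cast hd0 γ)
  have hx0 : A + B - 1 ≠ 0 := hx ▸ mul_ne_zero (unz qd) (by exact_mod_cast hd0 δ)
  have hAB : A + B ≠ 0 := by
    intro e
    rw [e, zero_sub] at hx
    have h1 : d δ = 1 := by
      rcases unit_cases qd with h | h <;> rw [h] at hx <;> omega
    obtain ⟨l, hl⟩ := linearHom_of_isCharacter (IsIrr.isCharacter δ.2) (by rw [hd, h1, Nat.cast_one])
    haveI := S.perfect
    have hl1 : ∀ g, l g = 1 := fun g => by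
      have hg' : g ∈ commutator G := by rw [Group.IsPerfect.commutator_eq_top]; exact Subgroup.mem_top g
      exact Abelianization.commutator_subset_ker l hg'
    refine nd (Subtype.ext ?_)
    rw [hl]
    funext g
    rw [hl1, Units.val_one]
    rfl
  have dα : (d α : ℂ) = -(sα : ℂ) * A := by
    rw [hA]; push_cast
    rcases unit_cases qa with e | e <;> rw [e] <;> push_cast <;> ring
  have dβ : (d β : ℂ) = -(sβ : ℂ) * B := by
    rw [hB]; push_cast
    rcases unit_cases qb with e | e <;> rw [e] <;> push_cast <;> ring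
  have dγ : (d γ : ℂ) = (sγ : ℂ) * ((A - 1 : ℤ) : ℂ) := by
    rw [hg]; push_cast
    rcases unit_cases qg with e | e <;> rw [e] <;> push_cast <;> ring
  have dδ : (d δ : ℂ) = (sδ : ℂ) * ((A + B - 1 : ℤ) : ℂ) := by
    rw [hx]; push_cast
    rcases unit_cases qd with e | e <;> rw [e] <;> push_cast <;> ring
  have cA : (A : ℂ) ≠ 0 := by exact_mod_cast hA0
  have cB : (B : ℂ) ≠ 0 := by exact_mod_cast hB0
  have cg : ((A - 1 : ℤ) : ℂ) ≠ 0 := by exact_mod_cast hg0
  have cx : ((A + B - 1 : ℤ) : ℂ) ≠ 0 := by exact_mod_cast hx0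
  have wo : S.wt o = 1 := by rw [wt, ho1, hoz]; norm_num
  have wa : S.wt α * sα = -((S.P : ℂ) ^ 2) / A := by
    rw [wt, va, hd, dα]; rcases unit_cases qa with e | e <;> rw [e] <;> push_cast <;> field_simp <;> ring
  have wb : S.wt β * sβ = -((S.P : ℂ) ^ 2) / B := by
    rw [wt, vb, hd, dβ]; rcases unit_cases qb with e | e <;> rw [e] <;> push_cast <;> field_simp <;> ring
  have wd : S.wt δ * sδ = 1 / ((A + B - 1 : ℤ) : ℂ) := by
    rw [wt, vd, hd, dδ]; rcases unit_cases qd with e | e <;> rw [e] <;> push_cast at cx ⊢ <;> field_simp <;> ring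
  have wg : S.wt γ * sγ = ((S.P : ℂ) - 1) ^ 2 / ((A - 1 : ℤ) : ℂ) := by
    rw [wt, vg, hd, dγ]; rcases unit_cases qg with e | e <;> rw [e] <;> push_cast at cg ⊢ <;> field_simp <;> ring
  have nmem : ∀ {i : Rot t}, i ∈ ((Finset.univ.erase (0 : Rot t)).erase (mid t)) → i ≠ 0 ∧ i ≠ mid t :=
    fun hi => by simp only [Finset.mem_erase, Finset.mem_univ, and_true] at hi; exact ⟨hi.2, hi.1⟩
  have hodd : ∀ i : Rot t, i ≠ 0 → i ≠ mid t → i.val % 2 = 1 →
      ∑ χ : IrrCharacter G, S.wt χ * S.avg (χ : G → ℂ) i = 0 := fun i h0 h1 hi => by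
    rw [S.sum_wt_avg i h0 h1, Finset.sum_eq_zero fun k hk => by rw [S.inv_odd i hi k (mem_elts.1 hk)]; rfl]
    simp
  have F4 : ∑ χ : IrrCharacter G, S.wt χ * e4 χ = 0 := by
    rw [S.sum_wt_vec (mid t) (fun i => conj_pair_sub_mid i S.ht) r4, rotSum, Finset.sum_eq_zero, mul_zero]
    intro i hi
    rw [pair_zero_sub_mid S.one_le]
    split_ifs with h
    · rw [hodd i (nmem hi).1 (nmem hi).2 h, mul_zero]
    · rw [zero_mul]
  rw [s4, wo, wa, wb, wd] at F4
  have hcnt : A * B * (A + B) = S.P ^ 2 * (A + B) * (A + B - 1) := by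
    have h : (A : ℂ) * B * (A + B) = (S.P : ℂ) ^ 2 * (A + B) * ((A + B - 1 : ℤ) : ℂ) := by
      field_simp at F4
      push_cast at F4 ⊢
      linear_combination F4
    exact_mod_cast h
  refine ⟨A, B, A + B - 1, rfl, hAB, hA0, hg0, hcnt, ?_⟩
  have F3 : ∑ χ : IrrCharacter G, S.wt χ * e3 χ =
      (Nat.card S.C : ℂ) * Nat.card S.C * (2 ^ t * Nat.card S.K) / (2 * (Nat.card G * (S.c : ℂ) ^ 2)) := by
    rw [S.sum_wt_vec (qua t) (fun i => conj_pair_sub_qua i S.ht) r3, rotSum]
    have hc0 : S.c ≠ 0 := by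
      intro e
      have h2 : ((2 : ℕ) : Rot t).val % 4 = 2 := by
        have h4 : 4 ≤ 2 ^ t := by simpa using Nat.pow_le_pow_right two_pos S.ht
        rw [ZMod.val_natCast, Nat.mod_eq_of_lt (show 2 < 2 ^ (t + 1) by rw [pow_succ]; omega)]
      have h := S.inv_two _ h2
      rw [e, zero_pow two_ne_zero, zero_mul] at h
      exact mul_ne_zero (by positivity) (pow_ne_zero 2 Nat.card_pos.ne') h.symm
    rw [Finset.sum_congr rfl fun i hi => show (pair 0 i - pair (qua t) i) *
        ∑ χ : IrrCharacter G, S.wt χ * S.avg (χ : G → ℂ) i =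
        if i.val % 4 = 2 then 4 * ((Nat.card S.C : ℂ) * Nat.card S.C * (2 ^ t * Nat.card S.K) /
          (Nat.card G * (S.c : ℂ) ^ 2)) else 0 by
      rw [pair_zero_sub_qua S.ht]
      rcases Nat.mod_two_eq_zero_or_one i.val with h | h
      · rw [if_neg (by omega)]
        split_ifs with h'
        · rw [S.sum_wt_avg i (nmem hi).1 (nmem hi).2]
          congr 1
          have h2 : ((S.c : ℂ) ^ 2) * ((∑ k ∈ elts S.K, (inverters (k * S.r ^ i.val)).card : ℕ) : ℂ) =
              2 ^ t * (Nat.card S.K : ℂ) ^ 2 := by exact_mod_cast S.inv_two i h'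
          have hK : (Nat.card S.K : ℂ) ≠ 0 := Nat.cast_ne_zero.2 Nat.card_pos.ne'
          have hc : (S.c : ℂ) ≠ 0 := Nat.cast_ne_zero.2 hc0
          have hG : (Nat.card G : ℂ) ≠ 0 := Nat.cast_ne_zero.2 Nat.card_pos.ne'
          field_simp
          linear_combination h2
        · rw [zero_mul]
      · rw [if_pos h, hodd i (nmem hi).1 (nmem hi).2 h, mul_zero, if_neg (by omega)],
      Finset.sum_ite, Finset.sum_const_zero, add_zero, Finset.sum_const, nsmul_eq_mul]
    have hset : (((Finset.univ.erase (0 : Rot t)).erase (mid t)).filter fun i => i.val % 4 = 2) =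
        ((Finset.univ : Finset (Rot t)).filter fun i => i.val % 4 = 2) := by
      ext i
      simp only [Finset.mem_filter, Finset.mem_erase, Finset.mem_univ, and_true, true_and]
      refine ⟨And.right, fun h => ⟨⟨fun e => ?_, fun e => ?_⟩, h⟩⟩
      · rw [e, val_mid, (xq_eq S.ht).1] at h; omega
      · rw [e, ZMod.val_zero] at h; omega
    rw [hset, card_two_mod_four S.ht]
    obtain ⟨q, hq⟩ : ∃ q, t = q + 1 := ⟨t - 1, by have := S.ht; omega⟩
    subst hq
    have hc : (S.c : ℂ) ≠ 0 := Nat.cast_ne_zero.2 hc0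
    have hG : (Nat.card G : ℂ) ≠ 0 := Nat.cast_ne_zero.2 Nat.card_pos.ne'
    simp only [Nat.add_sub_cancel, pow_succ]
    push_cast
    field_simp
    ring
  rw [s3, wo, wa, wg] at F3
  have hG : (Nat.card G : ℂ) ≠ 0 := Nat.cast_ne_zero.2 Nat.card_pos.ne'
  have hc0 : (S.c : ℂ) ≠ 0 := by
    intro e
    have h2 : ((2 : ℕ) : Rot t).val % 4 = 2 := by
      have h4 : 4 ≤ 2 ^ t := by simpa using Nat.pow_le_pow_right two_pos S.ht
      rw [ZMod.val_natCast, Nat.mod_eq_of_lt (show 2 < 2 ^ (t + 1) by rw [pow_succ]; omega)]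
    have h := S.inv_two _ h2
    rw [Nat.cast_eq_zero.1 e, zero_pow two_ne_zero, zero_mul] at h
    exact mul_ne_zero (by positivity) (pow_ne_zero 2 Nat.card_pos.ne') h.symm
  have hfin : (Nat.card G : ℂ) * 2 * ((A : ℂ) - S.P) ^ 2 * (S.c : ℂ) ^ 2 =
      (Nat.card S.C : ℂ) ^ 2 * 2 ^ t * Nat.card S.K * A * ((A - 1 : ℤ) : ℂ) := by
    field_simp at F3
    push_cast at F3 ⊢
    linear_combination F3
  exact_mod_cast hfin

end Cfg

end Cfsg.Agent.Invol.AlmostCyclic
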