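import Cfsg.Agent.Lib.Invol.AlmostCyclic.Local
import Cfsg.Agent.Lib.Invol.AlmostCyclic.Count
import Cfsg.Agent.Lib.Invol.AlmostCyclic.Arith

/-!
# The order of a semidihedral configuration (for S4069)
-/

set_option autoImplicit false

namespace Cfsg.Agent.Invol.AlmostCyclic

universe u

variable {G : Type u} [Group G] [Fintype G] {t : ℕ}

namespace Mod

variable {L : Loc G t} {F : Type} [Field F] [Fintype F] (M : Mod L F)
include M

/-- The configuration. -/
noncomputable def cfg : Cfg G t where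
  P := M.P
  η := Int.sign (M.P + 1)
  c := L.c
  z := L.z
  s := L.s
  r := L.r
  A := L.A
  K := L.K
  C := L.C
  rot := L.rot
  φ := M.φ
  ht := L.ht
  perfect := L.perfect
  r_mem := L.r_mem_A
  rot_r := L.rot_r
  rot_mul := fun _ ha _ hb => L.rot_mul ha hb
  K_iff := fun _ => L.mem_K
  order_r := L.sd.order
  z_eq := rfl
  K_odd := L.odd_card_K
  C_iff := fun _ => L.mem_C
  A_le := L.A_le_C
  s_sq := L.sd.s_sq
  s_not := L.s_not_A
  s_conj := fun _ ha => ⟨L.conj_A ha, L.s_rot ha⟩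
  ti := fun _ ha h0 h1 _ hx => L.ti ha h0 h1 hx
  one_class := fun _ hu => L.one_class hu
  φ_class := fun _ hg _ hh => M.φ_class hg hh
  φ_one := M.φ_one
  m00 := M.X0
  m01 := M.m01
  m11 := M.m11
  φ_K := M.φ_K
  block := M.block
  inv_odd := fun i hi _ hk => L.inverters_odd i hi hk
  inv_two := fun i hi => L.inverters_two i hi

/-- The surviving order. -/
theorem survivor (IH : SmallerLinear G) (h2 : TwoCyclic G) (hcore : Cfsg.oddCore G = ⊥) (hnt : Nontrivial G) :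
    Fintype.card F = 5 ∧ t = 2 ∧ L.tau' = 1 ∧
      Nat.card G * L.c ^ 2 = 85680 * L.oOrd ^ 2 * L.kk := by
  obtain ⟨A, B, x, hx, hsum, hA, hg, hcount, horder⟩ := M.cfg.numbers
  have hsq : (Nat.card L.C : ℤ) ^ 2 = (2 * (L.oOrd : ℤ) * M.P * (M.P ^ 2 - 1)) ^ 2 := by
    rw [M.card_C_abs, Int.natAbs_sq]
  have D : OrderData (Fintype.card F) M.P M.τ A B x t (Nat.card G) L.c L.oOrd L.kk := by
    refine ⟨M.hp, M.P_natAbs, L.ht, M.τ_odd, M.hPτ, hx, hsum, hA, hg, hcount, ?_, L.v2_card,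
      ⟨L.oOrd_odd, L.kk_odd, M.c_odd⟩, fun r hr hrel => ?_⟩
    · have h : (Nat.card L.C : ℤ) ^ 2 * 2 ^ t * (Nat.card L.K : ℤ) * A * (A - 1) =
          (Nat.card G : ℤ) * 2 * (A - M.P) ^ 2 * (L.c : ℤ) ^ 2 := horder.symm
      rw [← h, hsq, L.card_K, M.τ_natAbs]
      push_cast; ring
    · have hr2 : r ≠ 2 := by
        rcases hrel with h | ⟨h, -⟩
        · rw [h]; intro e; have := M.hq; rw [e] at this; exact absurd this (by decide)
        · exact h
      have hrel' : r = Fintype.card F ∨ r ∣ L.tau' ∨ r ∣ L.oOrd := by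
        rcases hrel with h | ⟨-, h⟩
        · exact Or.inl h
        · have h' : r ∣ 2 ^ t * L.tau' := M.abs_P_succ ▸ Int.natCast_dvd.1 h
          rcases (Nat.Prime.dvd_mul hr).1 h' with h'' | h''
          · exact absurd ((Nat.prime_dvd_prime_iff_eq hr Nat.prime_two).1 (hr.dvd_of_dvd_pow h'')) hr2
          · exact Or.inr (Or.inl h'')
      haveI : Fact r.Prime := ⟨hr⟩
      refine ⟨?_, ?_, ?_⟩
      · rw [padicValInt.of_nat, M.val_eq IH h2 hcore hnt hr hr2 hrel', M.card_C_abs]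
        rfl
      · exact (padicValNat_dvd_iff_le L.oOrd_pos.ne').1 (pow_padicValNat_dvd.trans M.c_dvd_o)
      · exact (padicValNat_dvd_iff_le L.kk_pos.ne').1 (pow_padicValNat_dvd.trans M.c_dvd_kk)
  obtain ⟨h5, ht, -, hτ, -, hN⟩ := D.solve
  refine ⟨h5, ht, ?_, hN⟩
  rw [← M.τ_natAbs, hτ]
  rfl

end Mod

end Cfsg.Agent.Invol.AlmostCyclic
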