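import Cfsg.Agent.Lib.Invol.AlmostCyclic.Inherit

/-!
# Cyclic Sylow subgroups of odd order: subgroups of prime power order (for S4069)
-/

set_option autoImplicit false

namespace Cfsg.Agent.Invol.AlmostCyclic

/-- A subgroup of odd prime power order is cyclic. -/
theorem OddCyclic.isCyclic_of_isPGroup {G : Type*} [Group G] [Finite G] (h : OddCyclic G) {p : ℕ}
    (hp : p.Prime) (hp2 : p ≠ 2) {P : Subgroup G} (hP : IsPGroup p P) : IsCyclic P := by
  haveI : Fact p.Prime := ⟨hp⟩
  obtain ⟨Q, hQ⟩ := hP.exists_le_sylow
  haveI := h p hp hp2 Q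
  exact isCyclic_of_injective (Subgroup.inclusion hQ) (Subgroup.inclusion_injective hQ)

theorem OddCyclic.of_injective {G H : Type*} [Group G] [Finite G] [Group H] (h : OddCyclic G) (f : H →* G)
    (hf : Function.Injective f) : OddCyclic H := fun p hp hp2 P => by
  have hP : IsPGroup p ((P : Subgroup H).map f) := P.isPGroup'.map f
  haveI := h.isCyclic_of_isPGroup hp hp2 hP
  exact isCyclic_of_injective ((P : Subgroup H).equivMapOfInjective f hf).toMonoidHom
    ((P : Subgroup H).equivMapOfInjective f hf).injective

end Cfsg.Agent.Invol.AlmostCyclic
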