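import Cfsg.Agent.Lib.Invol.AlmostCyclic.Lifts
import Cfsg.Agent.Lib.Invol.AlmostCyclic.PGroupCyclic
import Cfsg.Agent.Lib.Invol.QDWCentralizer
import Cfsg.Agent.Lib.Char.SemiBlockGroup

/-!
# The centralisers of the rotations (for S4069)
-/

set_option autoImplicit false

namespace Cfsg.Agent.Invol.AlmostCyclic

open Subgroup Cfsg.Agent.Char.SemiBlk

universe u

variable {G : Type u} [Group G] {t : ℕ}

/-- The semidihedral configuration. -/
structure Loc (G : Type u) [Group G] (t : ℕ) where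
  S : Sylow 2 G
  r : G
  s : G
  hodd : OddCyclic G
  perfect : Group.IsPerfect G
  sd : Sd (S : Subgroup G) r s t

namespace Loc

variable [Fintype G] (L : Loc G t)
include L

/-- The central involution. -/
def z : G := L.r ^ 2 ^ t

/-- The rotation of order four. -/
def y : G := L.r ^ 2 ^ (t - 1)

/-- The centraliser of the central involution. -/
def C : Subgroup G := centralizer ({L.z} : Set G)

/-- The centraliser of the rotation of order four. -/
def A : Subgroup G := centralizer ({L.y} : Set G)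

theorem mem_C {g : G} : g ∈ L.C ↔ g * L.z = L.z * g := mem_centralizer_singleton_iff

theorem mem_A {g : G} : g ∈ L.A ↔ g * L.y = L.y * g := mem_centralizer_singleton_iff

theorem ht : 2 ≤ t := L.sd.pos

theorem qq_eq : Invol.qq (t + 1) = ((2 ^ (t - 1) : ℕ) : ℤ) := by
  have := L.ht
  rw [Invol.qq, show t + 1 - 2 = t - 1 by omega]
  push_cast
  rfl

theorem qd : Invol.QD ↥(L.S : Subgroup G) (t + 1) (⟨L.r, L.sd.mem⟩ : ↥(L.S : Subgroup G)) ⟨L.s, L.sd.smem⟩ where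
  hn := by have := L.ht; omega
  card := L.sd.card
  ox := by rw [Subgroup.orderOf_mk, L.sd.order]
  oy := by
    rw [Subgroup.orderOf_mk]
    exact orderOf_eq_prime (by rw [pow_two, L.sd.s_sq]) fun e => L.sd.s_not (e ▸ one_mem _)
  conj := Subtype.ext (by simpa using L.sd.conj' L.s L.sd.smem L.sd.s_not)

theorem no_index_two (H : Subgroup G) : H.index ≠ 2 := by
  intro h
  haveI := L.perfect
  haveI : H.Normal := Subgroup.normal_of_index_eq_two h
  have hle : commutator G ≤ H := by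
    rw [commutator_def, Subgroup.commutator_le]
    intro a _ b _
    rw [commutatorElement_def]
    have hm := fun a b => Subgroup.mul_mem_iff_of_index_two h (a := a) (b := b)
    rw [hm, hm, hm, inv_mem_iff, inv_mem_iff]
    tauto
  rw [Group.IsPerfect.commutator_eq_top, top_le_iff] at hle
  rw [hle, Subgroup.index_top] at h
  exact absurd h (by norm_num)

theorem coe_zq : (((⟨L.r, L.sd.mem⟩ : ↥(L.S : Subgroup G)) ^ (2 * Invol.qq (t + 1)) : ↥(L.S : Subgroup G)) : G) = L.z := by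
  have := L.ht
  rw [L.qq_eq, show (2 : ℤ) * ((2 ^ (t - 1) : ℕ) : ℤ) = ((2 ^ t : ℕ) : ℤ) by
    rw [← Nat.cast_ofNat, ← Nat.cast_mul, ← pow_succ', Nat.sub_add_cancel (by omega : 1 ≤ t)],
    zpow_natCast, SubgroupClass.coe_pow]
  rfl

theorem coe_q : (((⟨L.r, L.sd.mem⟩ : ↥(L.S : Subgroup G)) ^ (Invol.qq (t + 1)) : ↥(L.S : Subgroup G)) : G) = L.y := by
  rw [L.qq_eq, zpow_natCast, SubgroupClass.coe_pow]
  rfl

theorem one_class {u : G} (hu : orderOf u = 2) : IsConj L.z u :=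
  L.coe_zq ▸ L.qd.all_conj L.no_index_two hu

theorem z_sq : L.z * L.z = 1 := L.sd.z_mul_self

theorem y_sq : L.y * L.y = L.z := L.sd.q_sq

theorem order_z : orderOf L.z = 2 := orderOf_eq_prime (by rw [pow_two, L.z_sq]) L.sd.z_ne_one

theorem order_y : orderOf L.y = 4 := by
  refine orderOf_eq_prime_pow (p := 2) (n := 1) ?_ ?_
  · rw [pow_one, pow_two, L.y_sq]; exact L.sd.z_ne_one
  · rw [show 2 ^ (1 + 1) = 2 * 2 from rfl, pow_mul, pow_two L.y, L.y_sq, pow_two, L.z_sq]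

theorem A_le_C : L.A ≤ L.C := fun g hg => L.mem_C.2 (by
  rw [← L.y_sq]
  exact (show Commute g L.y from L.mem_A.1 hg).mul_right (L.mem_A.1 hg))

theorem r_mem_A : L.r ∈ L.A := L.mem_A.2 ((Commute.refl L.r).pow_right _).eq

theorem S_le_C : (L.S : Subgroup G) ≤ L.C := fun _ hw => L.mem_C.2 (L.sd.z_central hw)

theorem s_mem_C : L.s ∈ L.C := L.S_le_C L.sd.smem

theorem y_mem_A : L.y ∈ L.A := L.mem_A.2 rfl

theorem s_y : L.s * L.y * L.s⁻¹ = L.y⁻¹ :=
  L.sd.refl_pow_even L.sd.smem L.sd.s_not (dvd_pow_self 2 (by have := L.ht; omega))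

theorem s_inv : L.s⁻¹ = L.s := inv_eq_of_mul_eq_one_right L.sd.s_sq

theorem s_not_A : L.s ∉ L.A := fun h => L.sd.s_not
  (L.sd.centralizer_rotation (x := L.y) (pow_mem (mem_zpowers _) _) L.sd.q_sq_ne L.sd.smem (L.mem_A.1 h))

theorem conj_A {a : G} (ha : a ∈ L.A) : L.s * a * L.s⁻¹ ∈ L.A := by
  rw [L.mem_A]
  have h1 : a * L.y⁻¹ = L.y⁻¹ * a := ((show Commute a L.y from L.mem_A.1 ha).inv_right).eq
  calc L.s * a * L.s⁻¹ * L.y = L.s * a * (L.s⁻¹ * L.y * L.s) * L.s⁻¹ := by group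
    _ = L.s * (a * L.y⁻¹) * L.s⁻¹ := by
        rw [show L.s⁻¹ * L.y * L.s = L.y⁻¹ by
          have := L.s_y; rw [L.s_inv] at this ⊢; exact this]; group
    _ = L.s * (L.y⁻¹ * a) * L.s⁻¹ := by rw [h1]
    _ = L.s * L.y⁻¹ * L.s⁻¹ * (L.s * a * L.s⁻¹) := by group
    _ = L.y * (L.s * a * L.s⁻¹) := by
        rw [show L.s * L.y⁻¹ * L.s⁻¹ = (L.s * L.y * L.s⁻¹)⁻¹ by group, L.s_y, inv_inv]

theorem mem_zpowers_r_of_pGroup {H : Subgroup G} (hH : H ≤ L.A) (hP : IsPGroup 2 H) :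
    ∃ a ∈ L.A, ∀ w ∈ H, a * w * a⁻¹ ∈ Subgroup.zpowers L.r := by
  haveI : Fact (Nat.Prime 2) := ⟨Nat.prime_two⟩
  -- the cyclic group of rotations is a Sylow subgroup
  have hrA : Subgroup.zpowers L.r ≤ L.A := Subgroup.zpowers_le.2 L.r_mem_A
  set R : Subgroup ↥L.A := (Subgroup.zpowers L.r).subgroupOf L.A with hR
  have hRp : IsPGroup 2 R := IsPGroup.of_card (n := t + 1) (by
    rw [Nat.card_congr (Subgroup.subgroupOfEquivOfLe hrA).toEquiv, Nat.card_zpowers, L.sd.order])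
  obtain ⟨P, hRP⟩ := hRp.exists_le_sylow
  have hPeq : (P : Subgroup ↥L.A) = R := by
    refine le_antisymm (fun w hw => ?_) hRP
    obtain ⟨T, hT⟩ := (P.isPGroup'.map L.A.subtype).exists_le_sylow
    obtain ⟨g, hg⟩ := MulAction.exists_smul_eq G T L.S
    have hmem : ∀ v : ↥L.A, v ∈ (P : Subgroup ↥L.A) → g * v * g⁻¹ ∈ (L.S : Subgroup G) := by
      intro v hv
      rw [← hg, Sylow.coe_subgroup_smul]
      exact ⟨v, hT ⟨v, hv, rfl⟩, by simp [MulAut.smul_def]⟩
    set rA : ↥L.A := ⟨L.r, L.r_mem_A⟩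
    have hrP : rA ∈ (P : Subgroup ↥L.A) := hRP (Subgroup.mem_subgroupOf.2 (Subgroup.mem_zpowers L.r))
    have h1 : g * L.r * g⁻¹ ∈ Subgroup.zpowers L.r := by
      by_contra hn
      have h4 : (g * L.r * g⁻¹) * (g * L.r * g⁻¹) * ((g * L.r * g⁻¹) * (g * L.r * g⁻¹)) = 1 := by
        rcases L.sd.refl_sq (hmem rA hrP) hn with e | e <;> rw [e]
        · rw [one_mul]
        · exact L.sd.z_mul_self
      have h5 : orderOf (g * L.r * g⁻¹) ∣ 4 := orderOf_dvd_of_pow_eq_one (by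
        rw [show 4 = 2 * 2 from rfl, pow_mul, pow_two, pow_two]; exact h4)
      rw [← MulAut.conj_apply, MulEquiv.orderOf_eq, L.sd.order] at h5
      have := Nat.le_of_dvd (by norm_num) h5
      have h8 : 2 ^ 3 ≤ 2 ^ (t + 1) := Nat.pow_le_pow_right two_pos (by have := L.ht; omega)
      omega
    have h2 : g * L.y * g⁻¹ ∈ Subgroup.zpowers L.r := by
      rw [Loc.y, ← conj_pow]
      exact pow_mem h1 _
    have h3 : g * L.y * g⁻¹ * (g * L.y * g⁻¹) ≠ 1 := fun e => L.sd.q_sq_ne (by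
      rw [show g * L.y * g⁻¹ * (g * L.y * g⁻¹) = g * (L.y * L.y) * g⁻¹ by group, conj_eq_one_iff] at e
      exact e)
    have hall : ∀ v : ↥L.A, v ∈ (P : Subgroup ↥L.A) → g * v * g⁻¹ ∈ Subgroup.zpowers L.r := fun v hv =>
      L.sd.centralizer_rotation h2 h3 (hmem v hv) (by
        have := L.mem_A.1 v.2
        calc g * (v : G) * g⁻¹ * (g * L.y * g⁻¹) = g * ((v : G) * L.y) * g⁻¹ := by group
          _ = _ := by rw [this]; group)
    have hcard : Nat.card P ≤ 2 ^ (t + 1) := by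
      rw [← L.sd.order, ← Nat.card_zpowers]
      refine Nat.card_le_card_of_injective (fun v : P => (⟨g * (v : ↥L.A) * g⁻¹, hall _ v.2⟩ : Subgroup.zpowers L.r)) ?_
      intro a b hab
      exact Subtype.ext (Subtype.ext (mul_left_cancel (mul_right_cancel (congrArg Subtype.val hab))))
    have hRc : Nat.card R = 2 ^ (t + 1) := by
      rw [Nat.card_congr (Subgroup.subgroupOfEquivOfLe hrA).toEquiv, Nat.card_zpowers, L.sd.order]
    rw [Subgroup.eq_of_le_of_card_ge hRP (hcard.trans hRc.ge)]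
    exact hw
  obtain ⟨Q, hQ⟩ := (hP.comap_of_injective L.A.subtype L.A.subtype_injective).exists_le_sylow
  obtain ⟨a, ha⟩ := MulAction.exists_smul_eq ↥L.A Q P
  refine ⟨a, a.2, fun w hw => ?_⟩
  have : a * ⟨w, hH hw⟩ * a⁻¹ ∈ (P : Subgroup ↥L.A) := by
    rw [← ha, Sylow.coe_subgroup_smul]
    exact ⟨⟨w, hH hw⟩, hQ hw, by simp [MulAut.smul_def]⟩
  rw [hPeq, hR, Subgroup.mem_subgroupOf] at this
  exact this

theorem four_in_A {w : G} (hw : w ∈ L.A) (h4 : orderOf w = 4) : w = L.y ∨ w = L.y⁻¹ := by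
  obtain ⟨a, ha, hconj⟩ := L.mem_zpowers_r_of_pGroup (H := Subgroup.zpowers w) (Subgroup.zpowers_le.2 hw)
    (IsPGroup.of_card (n := 2) (by rw [Nat.card_zpowers, h4]; rfl))
  have h1 := hconj w (Subgroup.mem_zpowers w)
  have h2 : orderOf (⟨a * w * a⁻¹, Subgroup.zpowers_le.2 L.sd.mem h1⟩ : ↥(L.S : Subgroup G)) = 4 := by
    rw [Subgroup.orderOf_mk, ← MulAut.conj_apply, MulEquiv.orderOf_eq, h4]
  have hay : Commute a L.y := L.mem_A.1 ha
  have hcase : a * w * a⁻¹ = L.y ∨ a * w * a⁻¹ = L.y⁻¹ := by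
    obtain ⟨i, hi⟩ := Subgroup.mem_zpowers_iff.1 h1
    have e : (⟨a * w * a⁻¹, Subgroup.zpowers_le.2 L.sd.mem h1⟩ : ↥(L.S : Subgroup G)) =
        (⟨L.r, L.sd.mem⟩ : ↥(L.S : Subgroup G)) ^ i := Subtype.ext (by rw [Subgroup.coe_zpow]; exact hi.symm)
    rw [e] at h2
    rcases L.qd.zpow_four h2 with h | h
    · left; rw [← hi, ← L.coe_q, ← h, Subgroup.coe_zpow]
    · right
      rw [← hi, ← L.coe_q, ← Subgroup.coe_inv, ← zpow_neg, ← h, Subgroup.coe_zpow]
  rcases hcase with h | h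
  · left
    rw [show w = a⁻¹ * (a * w * a⁻¹) * a by group, h, mul_assoc, ← hay.eq, inv_mul_cancel_left]
  · right
    rw [show w = a⁻¹ * (a * w * a⁻¹) * a by group, h, mul_assoc, ← hay.inv_right.eq, inv_mul_cancel_left]

theorem normal_complement : ∃ f : ↥L.A →* Multiplicative (Rot t),
    f ⟨L.r, L.r_mem_A⟩ = Multiplicative.ofAdd 1 ∧ Odd (Nat.card f.ker) := by
  classical
  haveI : Fact (Nat.Prime 2) := ⟨Nat.prime_two⟩
  set rA : ↥L.A := ⟨L.r, L.r_mem_A⟩ with hrA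
  have hord : orderOf rA = 2 ^ (t + 1) := by rw [hrA, Subgroup.orderOf_mk, L.sd.order]
  obtain ⟨P, hP⟩ := (IsPGroup.of_card (n := t + 1) (by rw [Nat.card_zpowers, hord]) :
    IsPGroup 2 (Subgroup.zpowers rA)).exists_le_sylow
  have hPr : (P : Subgroup ↥L.A) = Subgroup.zpowers rA := by
    refine (Subgroup.eq_of_le_of_card_ge hP ?_).symm
    obtain ⟨a, ha, hconj⟩ := L.mem_zpowers_r_of_pGroup (H := (P : Subgroup ↥L.A).map L.A.subtype)
      (Subgroup.map_subtype_le _) (P.isPGroup'.map _)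
    rw [Nat.card_zpowers, hord, ← L.sd.order, ← Nat.card_zpowers]
    refine Nat.card_le_card_of_injective (fun v : P =>
      (⟨a * (v : ↥L.A) * a⁻¹, hconj _ ⟨v, v.2, rfl⟩⟩ : Subgroup.zpowers L.r)) ?_
    intro u v huv
    exact Subtype.ext (Subtype.ext (mul_left_cancel (mul_right_cancel (congrArg Subtype.val huv))))
  haveI hcyc : IsCyclic (P : Subgroup ↥L.A) := by rw [hPr]; infer_instance
  have hev : 2 ∣ Nat.card ↥L.A := (dvd_pow_self 2 (Nat.succ_ne_zero t)).trans (hord ▸ orderOf_dvd_natCard rA)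
  have hN := IsCyclic.normalizer_le_centralizer (P := P) (hP := hcyc) (Nat.minFac_eq_two_iff _ |>.2 hev)
  set τ := MonoidHom.transferSylow P hN with hτ
  have hcompl := MonoidHom.ker_transferSylow_isComplement' P hN
  have hbij : Function.Bijective (τ.comp (P : Subgroup ↥L.A).subtype) := by
    refine (Nat.bijective_iff_injective_and_card _).2 ⟨?_, rfl⟩
    rw [← MonoidHom.ker_eq_bot_iff, eq_bot_iff]
    intro v hv
    exact Subgroup.mem_bot.2 (Subtype.ext (Subgroup.mem_bot.1 (hcompl.disjoint.le_bot ⟨hv, v.2⟩)))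
  let φ : ↥(P : Subgroup ↥L.A) ≃* ↥(P : Subgroup ↥L.A) := MulEquiv.ofBijective _ hbij
  have hrP : rA ∈ (P : Subgroup ↥L.A) := hPr ▸ Subgroup.mem_zpowers rA
  let rP : ↥(P : Subgroup ↥L.A) := ⟨rA, hrP⟩
  have hrPo : orderOf rP = 2 ^ (t + 1) := by rw [← hord]; exact Subgroup.orderOf_mk _ _
  have hgen : ∀ x : ↥(P : Subgroup ↥L.A), x ∈ Subgroup.zpowers rP := fun x => by
    obtain ⟨i, hi⟩ := Subgroup.mem_zpowers_iff.1 (hPr ▸ x.2 : (x : ↥L.A) ∈ Subgroup.zpowers rA)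
    exact Subgroup.mem_zpowers_iff.2 ⟨i, Subtype.ext (by rw [Subgroup.coe_zpow]; exact hi)⟩
  let ι : Rot t →+ Additive ↥(P : Subgroup ↥L.A) := ZMod.lift _ ⟨zmultiplesHom _ (Additive.ofMul rP), by
    rw [zmultiplesHom_apply, natCast_zsmul, ← ofMul_pow, ← hrPo, pow_orderOf_eq_one, ofMul_one]⟩
  have hι1 : ι 1 = Additive.ofMul rP := by
    have := ZMod.lift_coe (2 ^ (t + 1)) (A := Additive ↥(P : Subgroup ↥L.A))
      ⟨zmultiplesHom _ (Additive.ofMul rP), by
        rw [zmultiplesHom_apply, natCast_zsmul, ← ofMul_pow, ← hrPo, pow_orderOf_eq_one, ofMul_one]⟩ 1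
    simpa using this
  have hιb : Function.Bijective ι := by
    refine Function.Surjective.bijective_of_nat_card_le (fun x => ?_) ?_
    · obtain ⟨i, hi⟩ := Subgroup.mem_zpowers_iff.1 (hgen (Additive.toMul x))
      exact ⟨(i : Rot t), by rw [← zsmul_one, map_zsmul, hι1, ← ofMul_zpow, hi]; rfl⟩
    · rw [Nat.card_zmod, Nat.card_congr Additive.toMul, ← hrPo, ← Nat.card_zpowers]
      exact (Nat.card_congr ((Equiv.subtypeUnivEquiv hgen))).le
  let ι' : Multiplicative (Rot t) →* ↥(P : Subgroup ↥L.A) :=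
    { toFun := fun a => Additive.toMul (ι a.toAdd)
      map_one' := by simp
      map_mul' := fun a b => by simp [map_add] }
  have hι'b : Function.Bijective ι' := hιb
  let Φ : ↥(P : Subgroup ↥L.A) ≃* Multiplicative (Rot t) := (MulEquiv.ofBijective ι' hι'b).symm
  let f : ↥L.A →* Multiplicative (Rot t) := Φ.toMonoidHom.comp (φ.symm.toMonoidHom.comp τ)
  refine ⟨f, ?_, ?_⟩
  · show Φ (φ.symm (τ rA)) = _
    rw [show τ rA = φ rP from rfl, φ.symm_apply_apply]
    refine Φ.symm.injective ?_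
    rw [Φ.symm_apply_apply]
    show rP = Additive.toMul (ι 1)
    rw [hι1]; rfl
  · have hk : f.ker = τ.ker := by
      ext a
      simp [f, MonoidHom.mem_ker]
    have hmul : Nat.card τ.ker * Nat.card P = Nat.card ↥L.A := hcompl.card_mul
    rw [hk, ← Nat.not_even_iff_odd, even_iff_two_dvd]
    intro h2
    obtain ⟨q, hq⟩ := h2
    refine P.not_dvd_index ⟨q, ?_⟩
    have h := (P : Subgroup ↥L.A).card_mul_index
    rw [← hmul, hq, mul_comm (2 * q)] at h
    exact Nat.eq_of_mul_eq_mul_left Nat.card_pos h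

open scoped Classical in
/-- The exponent of the rotation part. -/
noncomputable def rot (g : G) : Rot t :=
  if h : g ∈ L.A then Multiplicative.toAdd (L.normal_complement.choose ⟨g, h⟩) else 0

theorem rot_mul {a b : G} (ha : a ∈ L.A) (hb : b ∈ L.A) : L.rot (a * b) = L.rot a + L.rot b := by
  rw [rot, rot, rot, dif_pos (mul_mem ha hb), dif_pos ha, dif_pos hb, ← toAdd_mul, ← map_mul]
  rfl

theorem rot_r : L.rot L.r = 1 := by
  rw [rot, dif_pos L.r_mem_A, L.normal_complement.choose_spec.1]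
  rfl

theorem rot_one : L.rot 1 = 0 := by
  rw [rot, dif_pos (one_mem _)]
  show Multiplicative.toAdd (L.normal_complement.choose 1) = 0
  rw [map_one]; rfl

/-- The normal complement. -/
noncomputable def K : Subgroup G where
  carrier := {a | a ∈ L.A ∧ L.rot a = 0}
  one_mem' := ⟨one_mem _, L.rot_one⟩
  mul_mem' := fun {a b} ha hb => ⟨mul_mem ha.1 hb.1, by rw [L.rot_mul ha.1 hb.1, ha.2, hb.2, add_zero]⟩
  inv_mem' := fun {a} ha => ⟨inv_mem ha.1, by
    have h := L.rot_mul ha.1 (inv_mem ha.1)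
    rw [mul_inv_cancel, L.rot_one, ha.2, zero_add] at h
    exact h.symm⟩

theorem mem_K {a : G} : a ∈ L.K ↔ a ∈ L.A ∧ L.rot a = 0 := Iff.rfl

theorem odd_card_K : Odd (Nat.card L.K) := by
  refine (?_ : Nat.card L.K = Nat.card L.normal_complement.choose.ker) ▸ L.normal_complement.choose_spec.2
  refine Nat.card_congr
    { toFun := fun k => ⟨⟨k, k.2.1⟩, ?_⟩
      invFun := fun a => ⟨a.1, a.1.2, ?_⟩
      left_inv := fun _ => rfl
      right_inv := fun _ => rfl }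
  · have h := k.2.2
    rw [rot, dif_pos k.2.1] at h
    exact Multiplicative.toAdd.injective h
  · rw [rot, dif_pos a.1.2, a.2]; rfl

theorem rot_inv {a : G} (ha : a ∈ L.A) : L.rot a⁻¹ = -L.rot a := by
  have h := L.rot_mul ha (inv_mem ha)
  rw [mul_inv_cancel, L.rot_one] at h
  exact eq_neg_of_add_eq_zero_right h.symm

theorem rot_pow {a : G} (ha : a ∈ L.A) (n : ℕ) : L.rot (a ^ n) = n • L.rot a := by
  induction n with
  | zero => rw [pow_zero, L.rot_one, zero_smul]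
  | succ n ih => rw [pow_succ, L.rot_mul (pow_mem ha n) ha, ih, succ_nsmul]

theorem rot_r_pow (i : Rot t) : L.rot (L.r ^ i.val) = i := by
  rw [L.rot_pow L.r_mem_A, L.rot_r, nsmul_eq_mul, mul_one, ZMod.natCast_zmod_val]

theorem odd_iff {a : G} (ha : a ∈ L.A) : Odd (orderOf a) ↔ a ∈ L.K := by
  refine ⟨fun h => ⟨ha, ?_⟩, fun h => Odd.of_dvd_nat L.odd_card_K (Subgroup.orderOf_dvd_natCard L.K h)⟩
  have h1 := L.rot_pow ha (orderOf a)
  rw [pow_orderOf_eq_one, L.rot_one, nsmul_eq_mul] at h1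
  refine (IsUnit.mul_right_eq_zero ((ZMod.isUnit_iff_coprime _ _).2 ?_)).1 h1.symm
  exact Nat.Coprime.pow_right _ h.coprime_two_right

theorem decomp {a : G} (ha : a ∈ L.A) : ∃ k ∈ L.K, a = k * L.r ^ (L.rot a).val :=
  ⟨a * (L.r ^ (L.rot a).val)⁻¹, ⟨mul_mem ha (inv_mem (pow_mem L.r_mem_A _)), by
    rw [L.rot_mul ha (inv_mem (pow_mem L.r_mem_A _)), L.rot_inv (pow_mem L.r_mem_A _), L.rot_r_pow, add_neg_cancel]⟩,
    (inv_mul_cancel_right _ _).symm⟩

theorem s_rot {a : G} (ha : a ∈ L.A) : L.rot (L.s * a * L.s⁻¹) = sig t * L.rot a := by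
  obtain ⟨k, hk, hak⟩ := L.decomp ha
  generalize L.rot a = i at hak ⊢
  subst hak
  have hsk : L.s * k * L.s⁻¹ ∈ L.K := (L.odd_iff (L.conj_A hk.1)).1 (by
    rw [← MulAut.conj_apply, MulEquiv.orderOf_eq]; exact (L.odd_iff hk.1).2 hk)
  rw [show L.s * (k * L.r ^ i.val) * L.s⁻¹ = (L.s * k * L.s⁻¹) * (L.s * L.r ^ i.val * L.s⁻¹) by group,
    L.sd.refl_pow L.sd.smem L.sd.s_not, L.rot_mul hsk.1 (pow_mem L.r_mem_A _), hsk.2, zero_add,
    L.rot_pow L.r_mem_A, L.rot_r, nsmul_eq_mul, mul_one, Nat.cast_mul,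
    Nat.cast_sub Nat.one_le_two_pow, ZMod.natCast_zmod_val, sig, mid, Nat.cast_one]

theorem conj_rot {a b : G} (ha : a ∈ L.A) (hb : b ∈ L.A) : L.rot (b * a * b⁻¹) = L.rot a := by
  rw [L.rot_mul (mul_mem hb ha) (inv_mem hb), L.rot_mul hb ha, L.rot_inv hb]
  abel

theorem sq_odd {a : G} (ha : a ∈ L.A) (h : Odd (orderOf (a * a))) : L.rot a = 0 ∨ L.rot a = mid t := by
  refine (two_mul_eq_zero_iff (by linarith [L.ht])).1 ?_
  rw [← L.rot_mul ha ha]
  exact ((L.odd_iff (mul_mem ha ha)).1 h).2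

theorem y_mem_zpowers {a : G} (ha : a ∈ L.A) (h0 : L.rot a ≠ 0) (h1 : L.rot a ≠ mid t) :
    L.y ∈ Subgroup.zpowers a := by
  obtain ⟨e, m, hm, ho⟩ := Nat.exists_eq_two_pow_mul_odd (orderOf_pos a).ne'
  have he : 2 ≤ e := by
    by_contra he
    refine (L.sq_odd ha ?_).elim h0 h1
    rw [← pow_two]
    refine Odd.of_dvd_nat hm (orderOf_dvd_of_pow_eq_one ?_)
    rw [← pow_mul, ← orderOf_dvd_iff_pow_eq_one, ho]
    exact mul_dvd_mul_right (by
      rcases (show e = 0 ∨ e = 1 by omega) with h | h <;> rw [h] <;> norm_num) m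
  have hw : orderOf (a ^ (2 ^ (e - 2) * m)) = 4 := by
    rw [orderOf_pow' _ (mul_ne_zero (pow_ne_zero _ two_ne_zero) hm.pos.ne'), ho, Nat.gcd_eq_right (mul_dvd_mul_right (pow_dvd_pow 2 (by omega)) m),
      Nat.mul_div_mul_right _ _ hm.pos, Nat.pow_div (by omega) two_pos, show e - (e - 2) = 2 by omega]
    rfl
  rcases L.four_in_A (pow_mem ha _) hw with h | h
  · rw [← h]; exact Subgroup.pow_mem _ (Subgroup.mem_zpowers a) _
  · rw [← inv_inv L.y, ← h]; exact inv_mem (Subgroup.pow_mem _ (Subgroup.mem_zpowers a) _)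

theorem normalizer_four {x : G} (hx : x * L.y * x⁻¹ = L.y ∨ x * L.y * x⁻¹ = L.y⁻¹) :
    x ∈ L.A ∨ x * L.s ∈ L.A := by
  rcases hx with h | h
  · exact Or.inl (L.mem_A.2 (mul_inv_eq_iff_eq_mul.1 h))
  · refine Or.inr (L.mem_A.2 (mul_inv_eq_iff_eq_mul.1 ?_))
    calc x * L.s * L.y * (x * L.s)⁻¹ = x * (L.s * L.y * L.s⁻¹) * x⁻¹ := by group
      _ = x * L.y⁻¹ * x⁻¹ := by rw [L.s_y]
      _ = (x * L.y * x⁻¹)⁻¹ := by group
      _ = L.y := by rw [h, inv_inv]

theorem ti {a : G} (ha : a ∈ L.A) (h0 : L.rot a ≠ 0) (h1 : L.rot a ≠ mid t) {x : G}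
    (hx : x * a * x⁻¹ ∈ L.A) : x ∈ L.A ∨ x * L.s ∈ L.A := by
  refine L.normalizer_four (L.four_in_A ?_ ?_)
  · obtain ⟨i, hi⟩ := Subgroup.mem_zpowers_iff.1 (L.y_mem_zpowers ha h0 h1)
    rw [← hi, ← conj_zpow]
    exact Subgroup.zpow_mem _ hx i
  · rw [← MulAut.conj_apply, MulEquiv.orderOf_eq, L.order_y]

/-- The classes of the 2-elements of the involution centraliser. -/
theorem two_cases {x : G} (hx : x ∈ L.C) {k : ℕ} (hk : orderOf x = 2 ^ k) :
    x = 1 ∨ x = L.z ∨ (∃ c ∈ L.C, c * x * c⁻¹ = L.s) ∨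
      ∃ c ∈ L.C, c * x * c⁻¹ ∈ L.A ∧ L.rot (c * x * c⁻¹) ≠ 0 ∧ L.rot (c * x * c⁻¹) ≠ mid t := by
  haveI : Fact (Nat.Prime 2) := ⟨Nat.prime_two⟩
  obtain ⟨c, hcC, hc⟩ := Invol.exists_conj_into_sylow (S := L.S) L.S_le_C (Subgroup.zpowers_le.2 hx)
    (IsPGroup.of_card (n := k) (by rw [Nat.card_zpowers, hk]))
  have hxS := hc x (Subgroup.mem_zpowers x)
  have hcz : c⁻¹ * L.z * c = L.z := by
    rw [mul_assoc, ← L.mem_C.1 hcC, inv_mul_cancel_left]
  by_cases hxr : c * x * c⁻¹ ∈ Subgroup.zpowers L.r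
  · by_cases hxx : c * x * c⁻¹ * (c * x * c⁻¹) = 1
    · rcases L.sd.rot_sq hxr hxx with h | h
      · exact Or.inl (conj_eq_one_iff.1 h)
      · refine Or.inr (Or.inl ?_)
        rw [show x = c⁻¹ * (c * x * c⁻¹) * c by group, h]
        exact hcz
    · refine Or.inr (Or.inr (Or.inr ⟨c, hcC, Subgroup.zpowers_le.2 L.r_mem_A hxr, ?_, ?_⟩))
      all_goals
        intro h
        obtain ⟨i, hi⟩ := (isOfFinOrder_of_finite L.r).mem_powers_iff_mem_zpowers.2 hxr
        simp only at hi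
        rw [← hi, L.rot_pow L.r_mem_A, L.rot_r, nsmul_eq_mul, mul_one] at h
        refine hxx ?_
        rw [← hi, ← pow_add, L.sd.pow_eq_one_iff, ← ZMod.natCast_eq_zero_iff, Nat.cast_add, h]
      · exact add_zero 0
      · rw [← two_mul, two_mul_mid]
  · obtain ⟨i, -, hi⟩ := L.sd.exists_rep hxS hxr
    set xS : ↥(L.S : Subgroup G) := ⟨L.r, L.sd.mem⟩
    set yS : ↥(L.S : Subgroup G) := ⟨L.s, L.sd.smem⟩
    have hval : ((xS ^ (i : ℤ) * yS : ↥(L.S : Subgroup G)) : G) = c * x * c⁻¹ := by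
      rw [zpow_natCast, Subgroup.coe_mul, SubgroupClass.coe_pow, hi]
    rcases Nat.even_or_odd i with he | ho
    · obtain ⟨j, hj⟩ := L.qd.conj_mul_y (i := (i : ℤ)) (j := 0) (by
        obtain ⟨q, rfl⟩ := he; exact ⟨-q, by push_cast; ring⟩)
      refine Or.inr (Or.inr (Or.inl ⟨((xS ^ j : ↥(L.S : Subgroup G)) : G) * c,
        mul_mem (L.S_le_C (xS ^ j).2) hcC, ?_⟩))
      have hj' := congrArg Subtype.val hj
      rw [Subgroup.coe_mul, Subgroup.coe_mul, hval, zpow_zero, one_mul, Subgroup.coe_inv] at hj'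
      rw [show ((xS ^ j : ↥(L.S : Subgroup G)) : G) * c * x * (((xS ^ j : ↥(L.S : Subgroup G)) : G) * c)⁻¹ =
        ((xS ^ j : ↥(L.S : Subgroup G)) : G) * (c * x * c⁻¹) * ((xS ^ j : ↥(L.S : Subgroup G)) : G)⁻¹ by group, hj']
    · obtain ⟨-, hQ⟩ := L.qd.fus_of_no_index_two L.no_index_two
      have h1 := (Invol.QD.isConj_odd L.qd (i := (i : ℤ)) (by
        obtain ⟨q, rfl⟩ := ho; omega)).trans hQ
      rw [hval, L.coe_q] at h1
      obtain ⟨g, hg⟩ := isConj_iff.1 h1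
      have hsq : c * x * c⁻¹ * (c * x * c⁻¹) = L.z := by
        rw [hi, L.sd.pow_s_sq, Loc.z]
        obtain ⟨q, rfl⟩ := ho
        rw [show 2 ^ t * (2 * q + 1) = 2 ^ (t + 1) * q + 2 ^ t by rw [pow_succ]; ring, pow_add, pow_mul,
          ← L.sd.order, pow_orderOf_eq_one, one_pow, one_mul]
      have hgC : g ∈ L.C := by
        refine L.mem_C.2 (mul_inv_eq_iff_eq_mul.1 ?_)
        calc g * L.z * g⁻¹ = g * (c * x * c⁻¹) * g⁻¹ * (g * (c * x * c⁻¹) * g⁻¹) := by rw [← hsq]; group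
          _ = L.z := by rw [hg, L.y_sq]
      refine Or.inr (Or.inr (Or.inr ⟨g * c, mul_mem hgC hcC, ?_⟩))
      have hrot : L.rot L.y = qua t := by
        rw [Loc.y, L.rot_pow L.r_mem_A, L.rot_r, nsmul_eq_mul, mul_one]; rfl
      rw [show g * c * x * (g * c)⁻¹ = g * (c * x * c⁻¹) * g⁻¹ by group, hg]
      have hq2 := qua_add_qua (t := t) (by linarith [L.ht])
      refine ⟨L.y_mem_A, fun e => ?_, fun e => ?_⟩
      · rw [hrot] at e; rw [e, add_zero] at hq2; exact mid_ne_zero hq2.symm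
      · rw [hrot] at e; rw [e] at hq2
        rw [← two_mul, two_mul_mid] at hq2
        exact mid_ne_zero hq2.symm

/-- The number of fixed elements of the reflection. -/
noncomputable def c : ℕ := Nat.card ↥(L.K ⊓ centralizer ({L.s} : Set G))

theorem inv_even {a u : G} (ha : a ∈ L.A) (h0 : L.rot a ≠ 0) (h1 : L.rot a ≠ mid t)
    (hu : u * a * u⁻¹ = a⁻¹) : u * L.s ∈ L.A ∧ (L.rot a).val % 2 = 0 := by
  rcases L.ti ha h0 h1 (x := u) (hu ▸ inv_mem ha) with h | h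
  · exfalso
    have e := L.conj_rot ha h
    rw [hu, L.rot_inv ha] at e
    refine ((two_mul_eq_zero_iff (by linarith [L.ht])).1 ?_).elim h0 h1
    linear_combination -e
  · refine ⟨h, ?_⟩
    have e := L.conj_rot (L.conj_A ha) h
    rw [L.s_rot ha, show u * L.s * (L.s * a * L.s⁻¹) * (u * L.s)⁻¹ = u * (L.s * L.s) * a * (L.s * L.s)⁻¹ * u⁻¹ by group,
      L.sd.s_sq, inv_one, mul_one, mul_one, hu, L.rot_inv ha] at e
    have hT : mid t * L.rot a = 0 := by rw [sig] at e; linear_combination -e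
    rw [← ZMod.natCast_zmod_val (L.rot a), mid_mul_natCast, ZMod.natCast_eq_zero_iff] at hT
    rcases Nat.mod_two_eq_zero_or_one (L.rot a).val with h2 | h2
    · exact h2
    · rw [h2, one_mul] at hT
      exfalso
      have := Nat.le_of_dvd (by positivity) hT
      rw [pow_succ] at this
      have : 0 < 2 ^ t := by positivity
      omega

theorem c_pos : 0 < L.c := Nat.card_pos

theorem norm_K (u : G) (hu : u ∈ L.A ∨ u = L.s) : u ∈ Subgroup.normalizer (L.K : Set G) := by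
  haveI : Finite G := Finite.of_fintype G
  refine Subgroup.mem_normalizer_fintype fun k hk => ?_
  rcases hu with h | rfl
  · exact ⟨mul_mem (mul_mem h hk.1) (inv_mem h), by rw [L.conj_rot hk.1 h]; exact hk.2⟩
  · exact ⟨L.conj_A hk.1, by rw [L.s_rot hk.1, hk.2, mul_zero]⟩

end Loc

end Cfsg.Agent.Invol.AlmostCyclic
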