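import Mathlib

/-!
# The constituents of the lifted functions (for S4069)

Integer vectors with prescribed Gram matrix.
-/

set_option autoImplicit false

namespace Cfsg.Agent.Invol.AlmostCyclic

open Finset

variable {ι : Type*} [Fintype ι]

/-- The standard product of integer vectors. -/
def ip (u v : ι → ℤ) : ℤ := ∑ i, u i * v i

theorem ip_comm (u v : ι → ℤ) : ip u v = ip v u := Finset.sum_congr rfl fun _ _ => mul_comm _ _

variable [DecidableEq ι]

/-- A sum over a small support. -/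
theorem ip_of_support {u : ι → ℤ} (s : Finset ι) (h : ∀ i, i ∉ s → u i = 0) (v : ι → ℤ) :
    ip u v = ∑ i ∈ s, u i * v i :=
  (Finset.sum_subset (Finset.subset_univ s) fun i _ hi => by rw [h i hi, zero_mul]).symm

/-- A vector of norm one. -/
theorem support_one {v : ι → ℤ} (s : Finset ι) (h : ∑ i ∈ sᶜ, v i * v i = 1) :
    ∃ a, a ∉ s ∧ v a * v a = 1 ∧ ∀ i, i ∉ s → i ≠ a → v i = 0 := by
  obtain ⟨a, ha, hva⟩ := Finset.exists_ne_zero_of_sum_ne_zero (by rw [h]; exact one_ne_zero)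
  have h0 : v a * v a ≥ 1 := by
    have := mul_self_nonneg (v a)
    omega
  rw [← Finset.add_sum_erase _ _ ha] at h
  have hnn : 0 ≤ ∑ i ∈ (sᶜ).erase a, v i * v i := Finset.sum_nonneg fun i _ => mul_self_nonneg _
  refine ⟨a, by simpa using ha, by omega, fun i hi hia => ?_⟩
  have := Finset.single_le_sum (f := fun i => v i * v i) (fun i _ => mul_self_nonneg _)
    (Finset.mem_erase.2 ⟨hia, Finset.mem_compl.2 hi⟩)
  exact mul_self_eq_zero.1 (le_antisymm (by omega) (mul_self_nonneg _))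

/-- Peeling off a unit entry from a vector of small norm. -/
theorem peel {v : ι → ℤ} (s : Finset ι) {n : ℤ} (hn : 0 < n) (hn4 : n < 4) (h : ∑ i ∈ sᶜ, v i * v i = n) :
    ∃ a, a ∉ s ∧ v a * v a = 1 ∧ ∑ i ∈ (insert a s)ᶜ, v i * v i = n - 1 := by
  obtain ⟨a, ha, hva⟩ := Finset.exists_ne_zero_of_sum_ne_zero (by rw [h]; omega)
  have hle := Finset.single_le_sum (f := fun i => v i * v i) (fun i _ => mul_self_nonneg _) ha
  rw [h] at hle
  have hb : -1 ≤ v a ∧ v a ≤ 1 := ⟨by nlinarith, by nlinarith⟩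
  have h1 : v a * v a = 1 := by
    have h0 : v a ≠ 0 := fun e => hva (by rw [e, mul_zero])
    rcases (show v a = 1 ∨ v a = -1 by omega) with e | e <;> rw [e] <;> ring
  refine ⟨a, by simpa using ha, h1, ?_⟩
  rw [Finset.compl_insert]
  rw [← Finset.add_sum_erase _ _ ha] at h
  omega

/-- A vector of norm two. -/
theorem norm_two {v : ι → ℤ} (s : Finset ι) (h : ∑ i ∈ sᶜ, v i * v i = 2) :
    ∃ a b, a ∉ s ∧ b ∉ s ∧ a ≠ b ∧ v a * v a = 1 ∧ v b * v b = 1 ∧
      ∀ i, i ∉ s → i ≠ a → i ≠ b → v i = 0 := by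
  obtain ⟨a, ha, h1, h'⟩ := peel s (by norm_num) (by norm_num) h
  obtain ⟨b, hb, h2, h3⟩ := support_one (insert a s) (h'.trans (by norm_num))
  rw [Finset.mem_insert, not_or] at hb
  exact ⟨a, b, ha, hb.2, Ne.symm hb.1, h1, h2, fun i hi hia hib => h3 i (by simp [hi, hia]) hib⟩

/-- A vector of norm three. -/
theorem norm_three {v : ι → ℤ} (s : Finset ι) (h : ∑ i ∈ sᶜ, v i * v i = 3) :
    ∃ a b c, a ∉ s ∧ b ∉ s ∧ c ∉ s ∧ a ≠ b ∧ a ≠ c ∧ b ≠ c ∧ v a * v a = 1 ∧ v b * v b = 1 ∧ v c * v c = 1 ∧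
      ∀ i, i ∉ s → i ≠ a → i ≠ b → i ≠ c → v i = 0 := by
  obtain ⟨a, ha, h1, h'⟩ := peel s (by norm_num) (by norm_num) h
  obtain ⟨b, c, hb, hc, hbc, h2, h3, h4⟩ := norm_two (insert a s) (h'.trans (by norm_num))
  rw [Finset.mem_insert, not_or] at hb hc
  exact ⟨a, b, c, ha, hb.2, hc.2, Ne.symm hb.1, Ne.symm hc.1, hbc, h1, h2, h3,
    fun i hi hia hib hic => h4 i (by simp [hi, hia]) hib hic⟩

theorem rest_norm {v : ι → ℤ} {o : ι} {n : ℤ} (ho : v o * v o = 1) (h : ip v v = n) :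
    ∑ i ∈ ({o} : Finset ι)ᶜ, v i * v i = n - 1 := by
  rw [Finset.compl_singleton]
  have := Finset.add_sum_erase Finset.univ (fun i => v i * v i) (Finset.mem_univ o)
  simp only [ip] at h
  omega

theorem unit_cases {x : ℤ} (h : x * x = 1) : x = 1 ∨ x = -1 := mul_self_eq_one_iff.1 h

/-- The Gram data of the lifted functions: `e3`, `e4` from the rotations, `e'` and the `h l` mixing in the
central section, `u` the second column of the central section. -/
structure LiftData {κ : Type*} (o : ι) (E O : Finset κ) (e3 e4 e' u : ι → ℤ) (h : κ → ι → ℤ) (T : ℤ) : Prop where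
  o3 : e3 o = 1
  o4 : e4 o = 1
  o' : e' o = -1
  ou : u o = 0
  oh : ∀ l, h l o = 0
  n3 : ip e3 e3 = 3
  n4 : ip e4 e4 = 4
  n' : ip e' e' = 3
  nu : ip u u = T + 2
  i34 : ip e3 e4 = 2
  i3' : ip e3 e' = -1
  i4' : ip e4 e' = -2
  i3h : ∀ l, ip e3 (h l) = 1
  i4h : ∀ l, ip e4 (h l) = 0
  i'h : ∀ l, ip e' (h l) = 0
  nh : ∀ l, ip (h l) (h l) = 2
  ihh : ∀ l m, l ≠ m → ip (h l) (h m) = 1
  i3u : ip e3 u = 0
  i4u : ip e4 u = 0
  i'u : ip e' u = -2
  ihE : ∀ l ∈ E, ip (h l) u = 0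
  ihO : ∀ l ∈ O, ip (h l) u = 2
  disj : Disjoint E O
  cardO : (2 * O.card : ℤ) = T
  cardE : (2 * (E.card + 2) : ℤ) = T
  four_le : 4 ≤ T

variable {κ : Type*} {o : ι} {E O : Finset κ} {e3 e4 e' u : ι → ℤ} {h : κ → ι → ℤ} {T : ℤ}

/-- The constituents and the values of the second column. -/
theorem LiftData.solve (L : LiftData o E O e3 e4 e' u h T) :
    ∃ α β δ γ : ι, ∃ sα sβ sδ sγ : ℤ, (sα * sα = 1 ∧ sβ * sβ = 1 ∧ sδ * sδ = 1 ∧ sγ * sγ = 1) ∧
      (α ≠ o ∧ β ≠ o ∧ δ ≠ o ∧ γ ≠ o) ∧ (α ≠ β ∧ α ≠ δ ∧ α ≠ γ ∧ β ≠ δ ∧ β ≠ γ ∧ δ ≠ γ) ∧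
      (e3 α = sα ∧ e3 γ = sγ ∧ ∀ i, i ≠ o → i ≠ α → i ≠ γ → e3 i = 0) ∧
      (e4 α = sα ∧ e4 β = sβ ∧ e4 δ = sδ ∧ ∀ i, i ≠ o → i ≠ α → i ≠ β → i ≠ δ → e4 i = 0) ∧
      (e' α = 0 ∧ e' β = -sβ ∧ e' δ = 0 ∧ e' γ = 0) ∧
      (u α = -sα ∧ u β = sβ ∧ u δ = 0 ∧ u γ = sγ) := by
  obtain ⟨O1, hO1, O2, hO2, hO12⟩ : ∃ a ∈ O, ∃ b ∈ O, a ≠ b := Finset.one_lt_card.1 (by
    have := L.cardO; have := L.four_le; omega)
  obtain ⟨a, b, ha, hb, hab, hva, hvb, h30⟩ :=
    norm_two ({o} : Finset ι) ((rest_norm (by rw [L.o3]; ring) L.n3).trans (by norm_num))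
  simp only [Finset.mem_singleton] at ha hb h30
  obtain ⟨p, q, r, hp, hq, hr, hpq, hpr, hqr, hvp, hvq, hvr, h40⟩ :=
    norm_three ({o} : Finset ι) ((rest_norm (by rw [L.o4]; ring) L.n4).trans (by norm_num))
  simp only [Finset.mem_singleton] at hp hq hr h40
  have s3 : ∀ v : ι → ℤ, ip e3 v = v o + e3 a * v a + e3 b * v b := fun v => by
    rw [ip_of_support {o, a, b} (fun i hi => by
      simp only [Finset.mem_insert, Finset.mem_singleton, not_or] at hi; exact h30 i hi.1 hi.2.1 hi.2.2) v,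
      Finset.sum_insert (by simp [Ne.symm ha, Ne.symm hb]), Finset.sum_pair hab, L.o3, one_mul, add_assoc]
  have m4 : ∀ i, i ≠ o → (e4 i * e4 i = 1 ∨ e4 i = 0) := fun i hi => by
    by_cases h1 : i = p
    · exact Or.inl (h1 ▸ hvp)
    by_cases h2 : i = q
    · exact Or.inl (h2 ▸ hvq)
    by_cases h3 : i = r
    · exact Or.inl (h3 ▸ hvr)
    exact Or.inr (h40 i hi h1 h2 h3)
  -- the common constituent
  obtain ⟨α, γ, hα, hγ, hαγ, hvα, hvγ, h30', h4α, h4γ⟩ : ∃ α γ, α ≠ o ∧ γ ≠ o ∧ α ≠ γ ∧ e3 α * e3 α = 1 ∧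
      e3 γ * e3 γ = 1 ∧ (∀ i, i ≠ o → i ≠ α → i ≠ γ → e3 i = 0) ∧ e4 α = e3 α ∧ e4 γ = 0 := by
    have h1 := s3 e4
    rw [L.i34, L.o4] at h1
    rcases m4 a ha with e | e <;> rcases m4 b hb with e2 | e2
    · exfalso
      rcases unit_cases hva with x | x <;> rcases unit_cases hvb with y | y <;> rcases unit_cases e with w | w <;>
        rcases unit_cases e2 with w2 | w2 <;> rw [x, y, w, w2] at h1 <;> omega
    · exact ⟨a, b, ha, hb, hab, hva, hvb, h30, by
        rcases unit_cases hva with x | x <;> rcases unit_cases e with w | w <;> rw [x, w, e2] at h1 <;> rw [x, w] <;> omega, e2⟩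
    · exact ⟨b, a, hb, ha, hab.symm, hvb, hva, fun i hi h1 h2 => h30 i hi h2 h1, by
        rcases unit_cases hvb with x | x <;> rcases unit_cases e2 with w | w <;> rw [x, w, e] at h1 <;> rw [x, w] <;> omega, e⟩
    · rw [e, e2] at h1; omega
  clear s3 h30 hva hvb hab ha hb a b
  have s3 : ∀ v : ι → ℤ, ip e3 v = v o + e3 α * v α + e3 γ * v γ := fun v => by
    rw [ip_of_support {o, α, γ} (fun i hi => by
      simp only [Finset.mem_insert, Finset.mem_singleton, not_or] at hi; exact h30' i hi.1 hi.2.1 hi.2.2) v,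
      Finset.sum_insert (by simp [Ne.symm hα, Ne.symm hγ]), Finset.sum_pair hαγ, L.o3, one_mul, add_assoc]
  obtain ⟨β0, δ0, hβ0, hδ0, hβδ0, hαβ0, hαδ0, hvβ0, hvδ0, h40'⟩ : ∃ β δ, β ≠ o ∧ δ ≠ o ∧ β ≠ δ ∧ α ≠ β ∧ α ≠ δ ∧
      e4 β * e4 β = 1 ∧ e4 δ * e4 δ = 1 ∧ (∀ i, i ≠ o → i ≠ α → i ≠ β → i ≠ δ → e4 i = 0) := by
    have h1 : ∑ i ∈ ({o, α} : Finset ι)ᶜ, e4 i * e4 i = 2 := by
      have := Finset.sum_compl_add_sum ({o, α} : Finset ι) (fun i => e4 i * e4 i)
      rw [Finset.sum_pair hα.symm, L.o4, h4α, hvα] at this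
      have := L.n4
      simp only [ip] at this
      omega
    obtain ⟨x, y, hx, hy, hxy, vx, vy, hz⟩ := norm_two _ h1
    simp only [Finset.mem_insert, Finset.mem_singleton, not_or] at hx hy hz
    exact ⟨x, y, hx.1, hy.1, hxy, Ne.symm hx.2, Ne.symm hy.2, vx, vy, fun i h1 h2 h3 h4 => hz i ⟨h1, h2⟩ h3 h4⟩
  have hγ0 : γ ≠ β0 ∧ γ ≠ δ0 :=
    ⟨fun e => by rw [← e, h4γ] at hvβ0; norm_num at hvβ0, fun e => by rw [← e, h4γ] at hvδ0; norm_num at hvδ0⟩
  have s4 : ∀ v : ι → ℤ, ip e4 v = v o + e3 α * v α + e4 β0 * v β0 + e4 δ0 * v δ0 := fun v => by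
    rw [ip_of_support {o, α, β0, δ0} (fun i hi => by
      simp only [Finset.mem_insert, Finset.mem_singleton, not_or] at hi; exact h40' i hi.1 hi.2.1 hi.2.2.1 hi.2.2.2) v,
      Finset.sum_insert (by simp [Ne.symm hα, Ne.symm hβ0, Ne.symm hδ0]),
      Finset.sum_insert (by simp [hαβ0, hαδ0]), Finset.sum_pair hβδ0, L.o4, h4α, one_mul]
    ring
  obtain ⟨x, y, hx, hy, hxy, hvx, hvy, h'0⟩ :=
    norm_two ({o} : Finset ι) ((rest_norm (by rw [L.o']; ring) L.n').trans (by norm_num))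
  simp only [Finset.mem_singleton] at hx hy h'0
  have s' : ∀ v : ι → ℤ, ip e' v = -v o + e' x * v x + e' y * v y := fun v => by
    rw [ip_of_support {o, x, y} (fun i hi => by
      simp only [Finset.mem_insert, Finset.mem_singleton, not_or] at hi; exact h'0 i hi.1 hi.2.1 hi.2.2) v,
      Finset.sum_insert (by simp [Ne.symm hx, Ne.symm hy]), Finset.sum_pair hxy, L.o']
    ring
  -- the shape of a mixed vector
  have hh : ∀ l, ∃ w, w ≠ o ∧ w ≠ α ∧ w ≠ γ ∧ h l w * h l w = 1 ∧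
      ((h l α = e3 α ∧ h l γ = 0 ∧ e4 w * h l w = -1 ∧ ∀ i, i ≠ α → i ≠ w → h l i = 0) ∨
       (h l γ = e3 γ ∧ h l α = 0 ∧ e4 w = 0 ∧ ∀ i, i ≠ γ → i ≠ w → h l i = 0)) := by
    intro l
    have hn : ∑ i ∈ ({o} : Finset ι)ᶜ, h l i * h l i = 2 := by
      have h1 := Finset.add_sum_erase Finset.univ (fun i => h l i * h l i) (Finset.mem_univ o)
      have := L.nh l
      simp only [ip, L.oh l] at this h1
      rw [Finset.compl_singleton]; omega
    obtain ⟨a, b, ha, hb, hab, va, vb, h0⟩ := norm_two _ hn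
    simp only [Finset.mem_singleton] at ha hb h0
    have hz : ∀ i, i ≠ a → i ≠ b → h l i = 0 := fun i h1 h2 => by
      by_cases e : i = o
      · exact e ▸ L.oh l
      · exact h0 i e h1 h2
    have h3 := s3 (h l)
    rw [L.i3h l, L.oh l] at h3
    have h4 : ip (h l) e4 = h l a * e4 a + h l b * e4 b := by
      rw [ip_of_support {a, b} (fun i hi => by
        simp only [Finset.mem_insert, Finset.mem_singleton, not_or] at hi; exact hz i hi.1 hi.2) e4,
        Finset.sum_pair hab]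
    rw [ip_comm, L.i4h l] at h4
    have hαw : ∀ a b, a ≠ o → b ≠ o → a ≠ b → h l a * h l a = 1 → h l b * h l b = 1 →
        (∀ i, i ≠ a → i ≠ b → h l i = 0) → 0 = h l a * e4 a + h l b * e4 b → a = α → b ≠ γ →
        ∃ w, w ≠ o ∧ w ≠ α ∧ w ≠ γ ∧ h l w * h l w = 1 ∧
          ((h l α = e3 α ∧ h l γ = 0 ∧ e4 w * h l w = -1 ∧ ∀ i, i ≠ α → i ≠ w → h l i = 0) ∨
           (h l γ = e3 γ ∧ h l α = 0 ∧ e4 w = 0 ∧ ∀ i, i ≠ γ → i ≠ w → h l i = 0)) := by
      intro a b _ hb hab va vb hz h4 hA hbγ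
      subst hA
      have hγz : h l γ = 0 := hz γ hαγ.symm (Ne.symm hbγ)
      rw [hγz] at h3
      have h1 : h l a = e3 a := by
        rcases unit_cases hvα with x | x <;> rcases unit_cases va with w | w <;> rw [x, w] at h3 <;> rw [x, w] <;> omega
      refine ⟨b, hb, Ne.symm hab, hbγ, vb, Or.inl ⟨h1, hγz, ?_, hz⟩⟩
      rw [h4α, h1, hvα] at h4
      linarith [mul_comm (h l b) (e4 b)]
    have hγw : ∀ a b, b ≠ o → a ≠ b → h l a * h l a = 1 → h l b * h l b = 1 →
        (∀ i, i ≠ a → i ≠ b → h l i = 0) → 0 = h l a * e4 a + h l b * e4 b → a = γ → b ≠ α →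
        ∃ w, w ≠ o ∧ w ≠ α ∧ w ≠ γ ∧ h l w * h l w = 1 ∧
          ((h l α = e3 α ∧ h l γ = 0 ∧ e4 w * h l w = -1 ∧ ∀ i, i ≠ α → i ≠ w → h l i = 0) ∨
           (h l γ = e3 γ ∧ h l α = 0 ∧ e4 w = 0 ∧ ∀ i, i ≠ γ → i ≠ w → h l i = 0)) := by
      intro a b hb hab va vb hz h4 hA hbα
      subst hA
      have hαz : h l α = 0 := hz α hαγ (Ne.symm hbα)
      rw [hαz] at h3
      refine ⟨b, hb, hbα, Ne.symm hab, vb, Or.inr ⟨?_, hαz, ?_, hz⟩⟩
      · rcases unit_cases hvγ with x | x <;> rcases unit_cases va with w | w <;> rw [x, w] at h3 <;> rw [x, w] <;> omega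
      · rw [h4γ, mul_zero, zero_add] at h4
        rcases mul_eq_zero.1 h4.symm with e | e
        · rw [e] at vb; norm_num at vb
        · exact e
    by_cases h1 : a = α ∨ b = α
    · by_cases h2 : a = γ ∨ b = γ
      · exfalso
        have vA : h l α * h l α = 1 ∧ h l γ * h l γ = 1 := by
          constructor
          · rcases h1 with e | e
            · exact e ▸ va
            · exact e ▸ vb
          · rcases h2 with e | e
            · exact e ▸ va
            · exact e ▸ vb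
        rcases unit_cases hvα with x | x <;> rcases unit_cases hvγ with y | y <;> rcases unit_cases vA.1 with w | w <;>
          rcases unit_cases vA.2 with w2 | w2 <;> rw [x, y, w, w2] at h3 <;> omega
      · simp only [not_or] at h2
        rcases h1 with e | e
        · exact hαw a b ha hb hab va vb hz h4 e h2.2
        · exact hαw b a hb ha hab.symm vb va (fun i u v => hz i v u) (by rw [add_comm]; exact h4) e h2.1
    · simp only [not_or] at h1
      by_cases h2 : a = γ ∨ b = γ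
      · rcases h2 with e | e
        · exact hγw a b hb hab va vb hz h4 e h1.2
        · exact hγw b a ha hab.symm vb va (fun i u v => hz i v u) (by rw [add_comm]; exact h4) e h1.1
      · simp only [not_or] at h2
        rw [hz α (Ne.symm h1.1) (Ne.symm h1.2), hz γ (Ne.symm h2.1) (Ne.symm h2.2)] at h3
        omega
  -- the third vector
  have h34 := s4 e'
  rw [L.i4', L.o'] at h34
  have h33 := s3 e'
  rw [L.i3', L.o'] at h33
  have m' : ∀ i, i ≠ o → (e' i * e' i = 1 ∨ e' i = 0) := fun i hi => by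
    by_cases h1 : i = x
    · exact Or.inl (h1 ▸ hvx)
    by_cases h2 : i = y
    · exact Or.inl (h2 ▸ hvy)
    exact Or.inr (h'0 i hi h1 h2)
  have two : ∀ i j k, i ≠ o → j ≠ o → k ≠ o → i ≠ j → i ≠ k → j ≠ k → e' i ≠ 0 → e' j ≠ 0 → e' k ≠ 0 → False := by
    intro i j k hi hj hk hij hik hjk ei ej ek
    have key : ∀ i, i ≠ o → e' i ≠ 0 → i = x ∨ i = y := fun i hi ei => by
      by_contra hc; rw [not_or] at hc; exact ei (h'0 i hi hc.1 hc.2)
    rcases key i hi ei with rfl | rfl <;> rcases key j hj ej with rfl | rfl <;> rcases key k hk ek with rfl | rfl <;>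
      first | exact hij rfl | exact hik rfl | exact hjk rfl
  have h'α : e' α = 0 := by
    by_contra hne
    have hne' : e' γ ≠ 0 := fun e => by
      rw [e, mul_zero, add_zero] at h33
      rcases mul_eq_zero.1 (show e3 α * e' α = 0 by omega) with e | e
      · rw [e] at hvα; norm_num at hvα
      · exact hne e
    obtain ⟨w, hwo, hwα, hwγ, hvw, hw⟩ := hh O1
    have hw0 : e' w = 0 := by
      by_contra he
      exact two α γ w hα hγ hwo hαγ (Ne.symm hwα) (Ne.symm hwγ) hne hne' he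
    have hb0 : e' β0 = 0 := by
      by_contra he
      exact two α γ β0 hα hγ hβ0 hαγ hαβ0 hγ0.1 hne hne' he
    have hd0 : e' δ0 = 0 := by
      by_contra he
      exact two α γ δ0 hα hγ hδ0 hαγ hαδ0 hγ0.2 hne hne' he
    rw [hb0, hd0] at h34
    have hi := L.i'h O1
    rw [ip_comm] at hi
    rcases hw with ⟨e1, -, -, hz⟩ | ⟨e1, -, -, hz⟩
    · rw [ip_of_support {α, w} (fun i hi => by
        simp only [Finset.mem_insert, Finset.mem_singleton, not_or] at hi; exact hz i hi.1 hi.2) e',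
        Finset.sum_pair (Ne.symm hwα), e1, hw0] at hi
      omega
    · rw [ip_of_support {γ, w} (fun i hi => by
        simp only [Finset.mem_insert, Finset.mem_singleton, not_or] at hi; exact hz i hi.1 hi.2) e',
        Finset.sum_pair (Ne.symm hwγ), e1, hw0] at hi
      omega
  rw [h'α] at h33 h34
  have h'γ : e' γ = 0 := by
    rcases mul_eq_zero.1 (show e3 γ * e' γ = 0 by omega) with e | e
    · rw [e] at hvγ; norm_num at hvγ
    · exact e
  obtain ⟨β, δ, hβ, hδ, hβδ, hαβ, hαδ, hγβ, hγδ, hvβ, hvδ, h40'', h'β, h'δ⟩ : ∃ β δ, β ≠ o ∧ δ ≠ o ∧ β ≠ δ ∧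
      α ≠ β ∧ α ≠ δ ∧ γ ≠ β ∧ γ ≠ δ ∧ e4 β * e4 β = 1 ∧ e4 δ * e4 δ = 1 ∧
      (∀ i, i ≠ o → i ≠ α → i ≠ β → i ≠ δ → e4 i = 0) ∧ e' β = -e4 β ∧ e' δ = 0 := by
    rcases m' β0 hβ0 with e | e <;> rcases m' δ0 hδ0 with e2 | e2
    · exfalso
      rcases unit_cases hvβ0 with x | x <;> rcases unit_cases hvδ0 with y | y <;> rcases unit_cases e with w | w <;>
        rcases unit_cases e2 with w2 | w2 <;> rw [x, y, w, w2] at h34 <;> omega
    · refine ⟨β0, δ0, hβ0, hδ0, hβδ0, hαβ0, hαδ0, hγ0.1, hγ0.2, hvβ0, hvδ0, h40', ?_, e2⟩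
      rcases unit_cases hvβ0 with x | x <;> rcases unit_cases e with w | w <;> rw [x, w, e2] at h34 <;> rw [x, w] <;> omega
    · refine ⟨δ0, β0, hδ0, hβ0, hβδ0.symm, hαδ0, hαβ0, hγ0.2, hγ0.1, hvδ0, hvβ0,
        fun i a b c d => h40' i a b d c, ?_, e⟩
      rcases unit_cases hvδ0 with x | x <;> rcases unit_cases e2 with w | w <;> rw [x, w, e] at h34 <;> rw [x, w] <;> omega
    · rw [e, e2] at h34; omega
  clear h34 h33 s4
  have s4 : ∀ v : ι → ℤ, ip e4 v = v o + e3 α * v α + e4 β * v β + e4 δ * v δ := fun v => by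
    rw [ip_of_support {o, α, β, δ} (fun i hi => by
      simp only [Finset.mem_insert, Finset.mem_singleton, not_or] at hi; exact h40'' i hi.1 hi.2.1 hi.2.2.1 hi.2.2.2) v,
      Finset.sum_insert (by simp [Ne.symm hα, Ne.symm hβ, Ne.symm hδ]),
      Finset.sum_insert (by simp [hαβ, hαδ]), Finset.sum_pair hβδ, L.o4, h4α, one_mul]
    ring
  obtain ⟨X, hX, hXβ, hXα, hXγ, hvX, h'0'⟩ : ∃ X, X ≠ o ∧ X ≠ β ∧ X ≠ α ∧ X ≠ γ ∧ e' X * e' X = 1 ∧
      ∀ i, i ≠ o → i ≠ β → i ≠ X → e' i = 0 := by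
    have hne : e' β ≠ 0 := fun e => by rw [h'β] at e; rw [neg_eq_zero.1 e] at hvβ; norm_num at hvβ
    have : β = x ∨ β = y := by
      by_contra hc; rw [not_or] at hc; exact hne (h'0 β hβ hc.1 hc.2)
    have hns : ∀ v, e' v * e' v = 1 → v ≠ α ∧ v ≠ γ := fun v hv =>
      ⟨fun e => by rw [e, h'α] at hv; norm_num at hv, fun e => by rw [e, h'γ] at hv; norm_num at hv⟩
    rcases this with e | e <;> subst e
    · exact ⟨y, hy, hxy.symm, (hns y hvy).1, (hns y hvy).2, hvy, h'0⟩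
    · exact ⟨x, hx, hxy, (hns x hvx).1, (hns x hvx).2, hvx, fun i a b c => h'0 i a c b⟩
  have hXδ : X ≠ δ := fun e => by rw [e, h'δ] at hvX; norm_num at hvX
  have s'' : ∀ v : ι → ℤ, ip e' v = -v o + -e4 β * v β + e' X * v X := fun v => by
    rw [ip_of_support {o, β, X} (fun i hi => by
      simp only [Finset.mem_insert, Finset.mem_singleton, not_or] at hi; exact h'0' i hi.1 hi.2.1 hi.2.2) v,
      Finset.sum_insert (by simp [Ne.symm hβ, Ne.symm hX]), Finset.sum_pair hXβ.symm, L.o', h'β]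
    ring
  -- no mixed vector passes through the common constituent
  have hγtype : ∀ l, ∃ w, w ≠ o ∧ w ≠ α ∧ w ≠ γ ∧ w ≠ β ∧ w ≠ δ ∧ w ≠ X ∧ h l w * h l w = 1 ∧ h l γ = e3 γ ∧
      ∀ i, i ≠ γ → i ≠ w → h l i = 0 := by
    have hshape : ∀ l, h l α ≠ 0 → ∀ i, h l i = if i = α then e3 α else if i = δ then -e4 δ else 0 := by
      intro l hne
      obtain ⟨w, hwo, hwα, -, hvw, ⟨e1, -, e3', hz⟩ | ⟨-, e2, -, -⟩⟩ := hh l
      swap; · exact absurd e2 hne
      have hwδ : w = δ := by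
        by_contra hc
        have hwβ : w = β := by
          by_contra hb; rw [h40'' w hwo hwα hb hc, zero_mul] at e3'; norm_num at e3'
        subst hwβ
        have h1 := L.i'h l
        rw [s'', hz o (Ne.symm hα) (Ne.symm hwo), hz X hXα hXβ] at h1
        linarith
      subst hwδ
      intro i
      by_cases hi : i = α
      · rw [if_pos hi, hi, e1]
      · rw [if_neg hi]
        by_cases hi' : i = w
        · rw [if_pos hi', hi']
          rcases unit_cases hvw with x | x <;> rcases unit_cases hvδ with y | y <;> rw [x, y] at e3' <;> rw [x, y] <;> omega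
        · rw [if_neg hi']; exact hz i hi hi'
    intro l
    obtain ⟨w, hwo, hwα, hwγ, hvw, ⟨e1, -, -, -⟩ | ⟨e1, -, e3', hz⟩⟩ := hh l
    · exfalso
      have hl : h l α ≠ 0 := fun e => by rw [e1] at e; rw [e] at hvα; norm_num at hvα
      obtain ⟨m, hm⟩ : ∃ m, m ≠ l := by
        by_cases e : O1 = l
        · exact ⟨O2, fun e' => hO12 (e.trans e'.symm)⟩
        · exact ⟨O1, e⟩
      obtain ⟨w', hwo', hwα', hwγ', hvw', ⟨e1', -, -, -⟩ | ⟨-, e2', e3'', hz'⟩⟩ := hh m
      · have hm' : h m α ≠ 0 := fun e => by rw [e1'] at e; rw [e] at hvα; norm_num at hvα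
        have he : h m = h l := funext fun i => by rw [hshape m hm', hshape l hl]
        have h1 := L.ihh m l hm
        rw [he, L.nh] at h1
        norm_num at h1
      · have h1 := L.ihh m l hm
        rw [ip_of_support {γ, w'} (fun i hi => by
          simp only [Finset.mem_insert, Finset.mem_singleton, not_or] at hi; exact hz' i hi.1 hi.2) (h l),
          Finset.sum_pair (Ne.symm hwγ'), hshape l hl γ, hshape l hl w', if_neg hαγ.symm, if_neg hγδ, if_neg hwα'] at h1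
        have hwδ' : w' ≠ δ := fun e => by rw [← e, e3''] at hvδ; norm_num at hvδ
        rw [if_neg hwδ'] at h1
        omega
    · have hwβ : w ≠ β := fun e => by rw [← e, e3'] at hvβ; norm_num at hvβ
      have hwδ : w ≠ δ := fun e => by rw [← e, e3'] at hvδ; norm_num at hvδ
      refine ⟨w, hwo, hwα, hwγ, hwβ, hwδ, fun e => ?_, hvw, e1, hz⟩
      have h1 := L.i'h l
      rw [s'', hz o (Ne.symm hγ) (Ne.symm hwo), hz β (Ne.symm hγβ) (Ne.symm hwβ), ← e] at h1
      rw [← e] at hvX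
      rcases unit_cases hvX with x | x <;> rcases unit_cases hvw with y | y <;> rw [x, y] at h1 <;> omega
  choose W hWo hWα hWγ hWβ hWδ hWX hvW hhγ hhz using hγtype
  have hWinj : Function.Injective W := fun l m e => by
    by_contra hne
    have h1 := L.ihh l m hne
    rw [ip_of_support {γ, W l} (fun i hi => by
      simp only [Finset.mem_insert, Finset.mem_singleton, not_or] at hi; exact hhz l i hi.1 hi.2) (h m),
      Finset.sum_pair (Ne.symm (hWγ l)), hhγ, hhγ, hvγ] at h1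
    have hvm := hvW m
    rw [← e] at hvm
    rcases unit_cases (hvW l) with x | x <;> rcases unit_cases hvm with y | y <;> rw [x, y] at h1 <;> omega
  -- the second column
  set e : ℤ := e3 γ * u γ with he
  have hW2 : ∀ l, ip (h l) u = e + h l (W l) * u (W l) := fun l => by
    rw [ip_of_support {γ, W l} (fun i hi => by
      simp only [Finset.mem_insert, Finset.mem_singleton, not_or] at hi; exact hhz l i hi.1 hi.2) u,
      Finset.sum_pair (Ne.symm (hWγ l)), hhγ, he]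
  have hsq : ∀ l, u (W l) * u (W l) = (ip (h l) u - e) * (ip (h l) u - e) := fun l => by
    rw [hW2, add_sub_cancel_left]
    linear_combination -(u (W l) * u (W l)) * hvW l
  have k3 := s3 u
  have k4 := s4 u
  have k' := s'' u
  rw [L.i3u, L.ou] at k3
  rw [L.i4u, L.ou] at k4
  rw [L.i'u, L.ou] at k'
  have hbig : u α * u α + u β * u β + u δ * u δ + u γ * u γ + u X * u X +
      (∑ l ∈ E, u (W l) * u (W l) + ∑ l ∈ O, u (W l) * u (W l)) ≤ T + 2 := by
    classical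
    rw [← L.nu, ← Finset.sum_union L.disj, ← Finset.sum_image (f := fun i => u i * u i) (fun a _ b _ e => hWinj e)]
    set S0 := ({α, β, δ, γ, X} : Finset ι)
    have hsum : ∑ i ∈ S0, u i * u i = u α * u α + u β * u β + u δ * u δ + u γ * u γ + u X * u X := by
      rw [Finset.sum_insert (by simp [hαβ, hαδ, hαγ, Ne.symm hXα]),
        Finset.sum_insert (by simp [hβδ, Ne.symm hγβ, Ne.symm hXβ]),
        Finset.sum_insert (by simp [Ne.symm hγδ, Ne.symm hXδ]), Finset.sum_pair (Ne.symm hXγ)]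
      ring
    rw [← hsum, ← Finset.sum_union (Finset.disjoint_left.2 fun i hi hi' => by
      obtain ⟨l, -, rfl⟩ := Finset.mem_image.1 hi'
      simp [S0, hWα l, hWβ l, hWδ l, hWγ l, hWX l] at hi)]
    exact Finset.sum_le_sum_of_subset_of_nonneg (Finset.subset_univ _) fun i _ _ => mul_self_nonneg _
  have hsE : ∑ l ∈ E, u (W l) * u (W l) = (E.card : ℤ) * (e * e) := by
    rw [Finset.sum_congr rfl (g := fun _ => e * e) fun l hl => ?_, Finset.sum_const, nsmul_eq_mul]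
    rw [hsq, L.ihE l hl]; ring
  have hsO : ∑ l ∈ O, u (W l) * u (W l) = (O.card : ℤ) * ((2 - e) * (2 - e)) := by
    rw [Finset.sum_congr rfl (g := fun _ => (2 - e) * (2 - e)) fun l hl => ?_, Finset.sum_const, nsmul_eq_mul]
    rw [hsq, L.ihO l hl]
  rw [hsE, hsO] at hbig
  obtain ⟨A, hA⟩ : ∃ A, A = e3 α * u α := ⟨_, rfl⟩
  obtain ⟨B, hB⟩ : ∃ B, B = e4 β * u β := ⟨_, rfl⟩
  obtain ⟨Cc, hC⟩ : ∃ C, C = e4 δ * u δ := ⟨_, rfl⟩
  obtain ⟨Xx, hXx⟩ : ∃ C, C = e' X * u X := ⟨_, rfl⟩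
  have q1 : u α * u α = A * A := by rw [hA]; linear_combination -(u α * u α) * hvα
  have q2 : u β * u β = B * B := by rw [hB]; linear_combination -(u β * u β) * hvβ
  have q3 : u δ * u δ = Cc * Cc := by rw [hC]; linear_combination -(u δ * u δ) * hvδ
  have q4 : u γ * u γ = e * e := by rw [he]; linear_combination -(u γ * u γ) * hvγ
  have q5 : u X * u X = Xx * Xx := by rw [hXx]; linear_combination -(u X * u X) * hvX
  rw [q1, q2, q3, q4, q5, show A = -e by rw [hA]; linarith, show Cc = e - B by rw [hC, hB]; linarith,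
    show Xx = B - 2 by rw [hXx, hB]; linarith] at hbig
  have hcO := L.cardO
  have hcE := L.cardE
  have key : T * ((e - 1) * (e - 1)) + (B * B + (e - B) * (e - B) + (B - 2) * (B - 2)) ≤ 2 := by
    nlinarith
  have h4 := L.four_le
  have he1 : e = 1 := by
    by_contra hne
    have h1 : 1 ≤ (e - 1) * (e - 1) := by
      have : e - 1 ≠ 0 := fun h => hne (by omega)
      have := mul_self_pos.2 this
      omega
    nlinarith [mul_self_nonneg B, mul_self_nonneg (e - B), mul_self_nonneg (B - 2)]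
  rw [he1] at key
  have hB1 : B = 1 := by
    have : (B - 1) * (B - 1) * 3 ≤ 0 := by nlinarith
    nlinarith [mul_self_nonneg (B - 1)]
  refine ⟨α, β, δ, γ, e3 α, e4 β, e4 δ, e3 γ, ⟨hvα, hvβ, hvδ, hvγ⟩, ⟨hα, hβ, hδ, hγ⟩,
    ⟨hαβ, hαδ, hαγ, hβδ, Ne.symm hγβ, Ne.symm hγδ⟩, ⟨rfl, rfl, h30'⟩, ⟨h4α, rfl, rfl, h40''⟩,
    ⟨h'α, h'β, h'δ, h'γ⟩, ?_, ?_, ?_, ?_⟩
  · have : e3 α * u α = -1 := by linarith
    linear_combination (-(u α)) * hvα + e3 α * this
  · have : e4 β * u β = 1 := by linarith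
    linear_combination (-(u β)) * hvβ + e4 β * this
  · have : e4 δ * u δ = 0 := by linarith
    linear_combination (-(u δ)) * hvδ + e4 δ * this
  · have : e3 γ * u γ = 1 := by linarith
    linear_combination (-(u γ)) * hvγ + e3 γ * this

end Cfsg.Agent.Invol.AlmostCyclic
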