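import Mathlib
import Cfsg.Prelude.Def_CaseTheorems

/-!
# Almost Sylow-cyclic groups: definitions (for S4069)
-/

set_option autoImplicit false

namespace Cfsg.Agent.Invol.AlmostCyclic

universe u

/-- The Sylow subgroups of odd order are cyclic. -/
def OddCyclic (G : Type*) [Group G] : Prop := ∀ p : ℕ, p.Prime → p ≠ 2 → ∀ P : Sylow p G, IsCyclic P

/-- The Sylow 2-subgroups have a cyclic subgroup of index at most 2. -/
def TwoCyclic (G : Type*) [Group G] : Prop :=
  ∀ S : Sylow 2 G, ∃ C : Subgroup ↥(S : Subgroup G), IsCyclic C ∧ C.index ∣ 2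

/-- `G` is `PSL₂(p)` or `SL₂(p)` with `p ≥ 5` prime. -/
def IsTwoLinear (G : Type*) [Group G] : Prop :=
  ∃ (p : ℕ) (_ : Fact p.Prime), 5 ≤ p ∧
    (Nonempty (G ≃* Matrix.ProjectiveSpecialLinearGroup (Fin 2) (ZMod p)) ∨
      Nonempty (G ≃* Matrix.SpecialLinearGroup (Fin 2) (ZMod p)))

/-- The inductive hypothesis: smaller perfect almost Sylow-cyclic groups are two-dimensional linear. -/
def SmallerLinear (G : Type u) : Prop :=
  ∀ (H : Type u) [Group H] [Finite H], Nat.card H < Nat.card G → Nontrivial H → Group.IsPerfect H →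
    OddCyclic H → TwoCyclic H → IsTwoLinear H

/-- No perfect almost Sylow-cyclic group with trivial odd core has semidihedral Sylow 2-subgroups, given
the inductive hypothesis. -/
def SDFalse : Prop :=
  ∀ (G : Type u) [Group G] [Finite G], Group.IsPerfect G → Nontrivial G → OddCyclic G → TwoCyclic G →
    SmallerLinear G → Cfsg.oddCore G = ⊥ →
    ∀ S : Sylow 2 G, Cfsg.IsQuasiDihedral ↥(S : Subgroup G) → False

end Cfsg.Agent.Invol.AlmostCyclic
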