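import Cfsg.Agent.Lib.Invol.AlmostCyclic.Reduce

/-!
# The structure of almost Sylow-cyclic non-solvable groups, given the semidihedral case (for S4069)
-/

set_option autoImplicit false

namespace Cfsg.Agent.Invol.AlmostCyclic

open Subgroup
open scoped commutatorElement

universe u

/-- Three commuting involutions in a 2-group with a cyclic subgroup of index at most two. -/
theorem three_involutions {P : Type*} [Group P] [Finite P] {C : Subgroup P} [IsCyclic ↥C] (hC : C.index ∣ 2)
    {u v t : P} (hu : orderOf u = 2) (hv : orderOf v = 2) (ht : orderOf t = 2) (huv : u ≠ v) (hut : u ≠ t)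
    (hvt : v ≠ t) (cuv : Commute u v) (cut : Commute u t) (cvt : Commute v t) : t = u * v := by
  classical
  have hmul : ∀ {a b : P}, a ∉ C → b ∉ C → a * b ∈ C := by
    intro a b ha hb
    rcases (Nat.dvd_prime Nat.prime_two).1 hC with h1 | h2
    · exact absurd (index_eq_one.1 h1 ▸ mem_top a) ha
    · exact (mul_mem_iff_of_index_two h2).2 (iff_of_false ha hb)
  have hself : ∀ {x : P}, orderOf x = 2 → x * x = 1 := fun {x} hx => by
    have := pow_orderOf_eq_one x
    rwa [hx, pow_two] at this
  have hord : ∀ {x y : P}, orderOf x = 2 → orderOf y = 2 → x ≠ y → Commute x y → orderOf (x * y) = 2 := by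
    intro x y hx hy hne hc
    refine orderOf_eq_prime (by rw [hc.mul_pow, pow_two, pow_two, hself hx, hself hy, one_mul]) fun e => hne ?_
    rw [eq_inv_of_mul_eq_one_left e]
    exact inv_eq_of_mul_eq_one_right (hself hy)
  have huniq : ∀ {a b : P}, a ∈ C → b ∈ C → orderOf a = 2 → orderOf b = 2 → a = b := by
    intro a b ha hb ha2 hb2
    exact congrArg Subtype.val (GW.cyclic_invol_unique (x := (⟨a, ha⟩ : ↥C)) (y := ⟨b, hb⟩)
      (by rw [← orderOf_coe]; exact ha2) (by rw [← orderOf_coe]; exact hb2))
  by_cases huC : u ∈ C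
  · have hvC : v ∉ C := fun h => huv (huniq huC h hu hv)
    have htC : t ∉ C := fun h => hut (huniq huC h hu ht)
    rw [huniq huC (hmul hvC htC) hu (hord hv ht hvt cvt), mul_assoc, ← cvt.eq, ← mul_assoc, hself hv, one_mul]
  · by_cases hvC : v ∈ C
    · have htC : t ∉ C := fun h => hvt (huniq hvC h hv ht)
      rw [huniq hvC (hmul huC htC) hv (hord hu ht hut cut), ← mul_assoc, hself hu, one_mul]
    · by_cases htC : t ∈ C
      · exact huniq htC (hmul huC hvC) ht (hord hu hv huv cuv)
      · exact absurd (mul_left_cancel (huniq (hmul huC hvC) (hmul huC htC) (hord hu hv huv cuv)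
          (hord hu ht hut cut))) hvt

/-- The models have two commuting involutions modulo the centre. -/
theorem exists_commuting_involutions {p : ℕ} [Fact p.Prime] (h5 : 5 ≤ p) :
    ∃ a b : Matrix.ProjectiveSpecialLinearGroup (Fin 2) (ZMod p),
      orderOf a = 2 ∧ orderOf b = 2 ∧ a ≠ b ∧ Commute a b := by
  haveI : Fact (Nat.Prime 2) := ⟨Nat.prime_two⟩
  have hcard : Fintype.card (ZMod p) = p := ZMod.card p
  have hodd : Odd (Fintype.card (ZMod p)) := by
    rw [hcard]; exact (Fact.out : p.Prime).odd_of_ne_two (by omega)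
  haveI : IsSimpleGroup (Matrix.ProjectiveSpecialLinearGroup (Fin 2) (ZMod p)) :=
    Classical.PSL_isSimple le_rfl fun _ => by omega
  have hperf := GW.psl_commutator_top (F := ZMod p) (by omega)
  obtain ⟨t, ht⟩ := exists_prime_orderOf_dvd_card' (G := Matrix.ProjectiveSpecialLinearGroup (Fin 2) (ZMod p)) 2
    (GW.psl_two_dvd hodd)
  by_contra hc
  push Not at hc
  have hr : BS.TwoRankOne (Matrix.ProjectiveSpecialLinearGroup (Fin 2) (ZMod p)) := fun x y hx hy hxy => by
    by_contra hne
    exact hc x y hx hy hne hxy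
  have hO : Cfsg.oddCore (Matrix.ProjectiveSpecialLinearGroup (Fin 2) (ZMod p)) = ⊥ := by
    refine (Grp.pPrimeCore_isNormal (p := 2)).eq_bot_or_eq_top.resolve_right fun h => ?_
    have h1 := Grp.pPrimeCore_coprime (p := 2) (G := Matrix.ProjectiveSpecialLinearGroup (Fin 2) (ZMod p))
    rw [h, card_top] at h1
    exact (Nat.prime_two.coprime_iff_not_dvd.1 h1.symm) (GW.psl_two_dvd hodd)
  have h2 := (GW.central_involution hr hO ht).1
  rw [center_eq_bot_of_perfect hperf, mem_bot] at h2
  rw [h2, orderOf_one] at ht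
  omega

/-- The 2-elements centralising a linear normal subgroup lie in it. -/
theorem two_elements_mem {G : Type u} [Group G] [Finite G] (h2 : TwoCyclic G) (L : Subgroup G)
    (hL : IsTwoLinear ↥L) {t : G} (ht : t ∈ centralizer (L : Set G)) {k : ℕ} (hk : orderOf t = 2 ^ k) :
    t ∈ L := by
  haveI : Fact (Nat.Prime 2) := ⟨Nat.prime_two⟩
  obtain ⟨p, hp, h5, r, hr, hrc, hker⟩ := exists_psl_hom hL
  obtain ⟨a, b, ha, hb, hab, hcab⟩ := exists_commuting_involutions (p := p) h5
  obtain ⟨i, rfl⟩ := hr a
  obtain ⟨j, rfl⟩ := hr b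
  have hrk : IsPGroup 2 ↥r.ker := by
    rcases hker with hinj | ⟨hc2, -⟩
    · rw [(MonoidHom.ker_eq_bot_iff r).2 hinj]; exact IsPGroup.of_bot
    · exact IsPGroup.of_card (n := 1) (by rw [hc2, pow_one])
  have hV : IsPGroup 2 ↥(Subgroup.closure {r i, r j}) := isPGroup_closure_pair ha hb (a := 1) (by
    rw [pow_one]
    refine orderOf_eq_prime ?_ fun e => hab ?_
    · rw [hcab.mul_pow, pow_two, pow_two, mul_self_of_orderOf_two ha, mul_self_of_orderOf_two hb, one_mul]
    · rw [eq_inv_of_mul_eq_one_left e, inv_of_orderOf_two hb])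
  have hVc : ∀ x ∈ Subgroup.closure {r i, r j}, Commute x (r i) := by
    intro x hx
    induction hx using closure_induction with
    | mem x hx =>
      rcases hx with rfl | rfl
      · exact Commute.refl _
      · exact hcab.symm
    | one => exact Commute.one_left _
    | mul x y _ _ hx hy => exact hx.mul_left hy
    | inv x _ hx => exact hx.inv_left
  let D : Subgroup G := ((Subgroup.closure {r i, r j}).comap r).map L.subtype
  have hD : IsPGroup 2 ↥D := (hV.comap_of_ker_isPGroup r hrk).map _
  have hiD : (i : G) ∈ D := mem_map_of_mem L.subtype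
    (mem_comap.2 (subset_closure (Set.mem_insert _ _) : r i ∈ Subgroup.closure {r i, r j}))
  have hjD : (j : G) ∈ D := mem_map_of_mem L.subtype
    (mem_comap.2 (subset_closure (Set.mem_insert_of_mem _ rfl) : r j ∈ Subgroup.closure {r i, r j}))
  have hDL : D ≤ L := map_subtype_le _
  have hcomm : ∀ {s : G}, s ∈ centralizer (L : Set G) → ∀ x ∈ L, Commute x s := fun {s} hs x hx =>
    mem_centralizer_iff.1 hs x hx
  have hT : ∀ s : G, s ∈ centralizer (L : Set G) → ∀ n : ℕ, orderOf s = 2 ^ n →
      IsPGroup 2 ↥(D ⊔ zpowers s) := by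
    intro s hs n hn
    refine hD.to_sup_of_normal_left' (IsPGroup.of_card (n := n) (by rw [Nat.card_zpowers, hn])) ?_
    exact (zpowers_le.2 (mem_centralizer_iff.2 fun x hx => (hcomm hs x (hDL hx)).eq) :
      zpowers s ≤ centralizer (D : Set G)).trans (centralizer_le_normalizer _)
  have hsq : ∀ {x : G}, orderOf x = 2 → x * x = 1 := fun {x} hx => by
    have := pow_orderOf_eq_one x
    rwa [hx, pow_two] at this
  rcases hker with hinj | ⟨hker2, huniq⟩
  · -- `PSL`: three commuting involutions
    have hinv : ∀ s ∈ centralizer (L : Set G), orderOf s ≠ 2 := by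
      intro s hs hs2
      obtain ⟨C, hC, hCi⟩ := h2.pgroup (hT s hs 1 (by rw [hs2, pow_one]))
      have hi2 : orderOf (i : G) = 2 := by rw [orderOf_coe, ← orderOf_injective r hinj, ha]
      have hj2 : orderOf (j : G) = 2 := by rw [orderOf_coe, ← orderOf_injective r hinj, hb]
      have hsL : ∀ x : ↥L, s ≠ (x : G) := by
        intro x e
        subst e
        have hc : r x ∈ center (Matrix.ProjectiveSpecialLinearGroup (Fin 2) (ZMod p)) := by
          refine mem_center_iff.2 fun y => ?_
          obtain ⟨y, rfl⟩ := hr y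
          rw [← map_mul, ← map_mul, show y * x = x * y from Subtype.ext (hcomm hs y y.2).eq]
        haveI : IsSimpleGroup (Matrix.ProjectiveSpecialLinearGroup (Fin 2) (ZMod p)) :=
          Classical.PSL_isSimple le_rfl fun _ => by rw [ZMod.card]; omega
        rw [center_eq_bot_of_perfect (GW.psl_commutator_top (by rw [ZMod.card]; omega)), mem_bot,
          map_eq_one_iff r hinj] at hc
        rw [hc, coe_one, orderOf_one] at hs2
        omega
      have hmem : ∀ {x : G}, x ∈ D → x ∈ D ⊔ zpowers s := fun hx => le_sup_left (a := D) hx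
      have h3 := three_involutions hCi (u := ⟨i, hmem hiD⟩) (v := ⟨j, hmem hjD⟩)
        (t := ⟨s, le_sup_right (a := D) (mem_zpowers s)⟩)
        (by rw [← orderOf_coe]; exact hi2) (by rw [← orderOf_coe]; exact hj2) (by rw [← orderOf_coe]; exact hs2)
        (fun e => hab (congrArg r (Subtype.ext (congrArg (fun x : ↥(D ⊔ zpowers s) => (x : G)) e))))
        (fun e => hsL i (congrArg Subtype.val e).symm) (fun e => hsL j (congrArg Subtype.val e).symm)
        (Subtype.ext (congrArg (fun x : ↥L => (x : G))
          (hinj (by rw [map_mul, map_mul, hcab.eq]) : i * j = j * i)))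
        (Subtype.ext (hcomm hs i i.2).eq) (Subtype.ext (hcomm hs j j.2).eq)
      exact hsL (i * j) (congrArg Subtype.val h3)
    cases k with
    | zero => rw [pow_zero, orderOf_eq_one_iff] at hk; rw [hk]; exact one_mem L
    | succ m =>
      refine absurd ?_ (hinv (t ^ 2 ^ m) (pow_mem ht _))
      rw [orderOf_pow_of_dvd (by positivity) (hk ▸ pow_dvd_pow 2 (Nat.le_succ m)), hk, pow_succ',
        Nat.mul_div_cancel _ (by positivity)]
  · -- `SL`: the lifts form a frame
    obtain ⟨⟨z, hzk⟩, hz⟩ := exists_prime_orderOf_dvd_card' (G := ↥r.ker) 2 (by rw [hker2])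
    rw [← orderOf_coe] at hz
    replace hz : orderOf z = 2 := hz
    have hkz : ∀ x ∈ r.ker, x = 1 ∨ x = z := by
      intro x hx
      by_cases hx1 : x = 1
      · exact Or.inl hx1
      · refine Or.inr (huniq x z ?_ hz)
        refine orderOf_eq_prime ?_ hx1
        have h : (⟨x, hx⟩ : ↥r.ker) ^ Nat.card ↥r.ker = 1 := pow_card_eq_one'
        rw [hker2] at h
        exact congrArg Subtype.val h
    have hzne : z ≠ 1 := fun e => by rw [e, orderOf_one] at hz; omega
    have hsquare : ∀ x : ↥L, orderOf (r x) = 2 → x * x = z := by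
      intro x hx
      refine (hkz (x * x) (by
        rw [MonoidHom.mem_ker, map_mul, mul_self_of_orderOf_two hx])).resolve_left fun e => ?_
      have hx1 : x ≠ 1 := fun h => by rw [h, map_one, orderOf_one] at hx; omega
      rw [huniq x z (orderOf_eq_prime (by rw [pow_two]; exact e) hx1) hz, MonoidHom.mem_ker.1 hzk,
        orderOf_one] at hx
      omega
    have hji : j * i = i * j * z := by
      have hdiff : (i * j)⁻¹ * (j * i) ∈ r.ker := by
        rw [MonoidHom.mem_ker, map_mul, map_inv, map_mul, map_mul, hcab.eq, inv_mul_cancel]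
      rcases hkz _ hdiff with e | e
      · exfalso
        have hc : i * j = j * i := inv_mul_eq_one.1 e
        have h4 : i * j * (i * j) = 1 := by
          rw [show i * j * (i * j) = i * (j * i) * j by group, ← hc, show i * (i * j) * j = i * i * (j * j) by group,
            hsquare i ha, hsquare j hb]
          exact mul_self_of_orderOf_two hz
        have hne : i * j ∈ r.ker := by
          by_cases h1 : i * j = 1
          · rw [h1]; exact one_mem _
          · rw [huniq _ z (orderOf_eq_prime (by rw [pow_two]; exact h4) h1) hz]; exact hzk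
        rw [MonoidHom.mem_ker, map_mul] at hne
        apply hab
        rw [eq_inv_of_mul_eq_one_left hne]
        exact inv_of_orderOf_two hb
      · rw [← e, mul_inv_cancel_left]
    have hzz : z * z = 1 := mul_self_of_orderOf_two hz
    have hfG : QFrame (z : G) (i : G) (j : G) :=
      (QFrame.mk (hsquare i ha) (hsquare j hb) hzz hzne hji).map L.subtype fun e => hzne (Subtype.ext e)
    -- elements of order dividing four
    have hsmall : ∀ s ∈ centralizer (L : Set G), s ^ 4 = 1 → s = 1 ∨ s = (z : G) := by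
      intro s hs hs4
      by_cases hs1 : s = 1
      · exact Or.inl hs1
      right
      obtain ⟨n, -, hn⟩ := (Nat.dvd_prime_pow Nat.prime_two).1
        (show orderOf s ∣ 2 ^ 2 from orderOf_dvd_of_pow_eq_one hs4)
      obtain ⟨C, hC, hCi⟩ := h2.pgroup (hT s hs n hn)
      have hzD : (z : G) ∈ D := hfG.ii ▸ mul_mem hiD hiD
      have hmem : ∀ {x : G}, x ∈ D → x ∈ D ⊔ zpowers s := fun hx => le_sup_left (a := D) hx
      have hsT : s ∈ D ⊔ zpowers s := le_sup_right (a := D) (mem_zpowers s)
      have hfT : QFrame (⟨z, hmem hzD⟩ : ↥(D ⊔ zpowers s)) ⟨i, hmem hiD⟩ ⟨j, hmem hjD⟩ :=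
        ⟨Subtype.ext hfG.ii, Subtype.ext hfG.jj, Subtype.ext hfG.zz,
          fun e => hfG.z_ne (congrArg Subtype.val e), Subtype.ext hfG.ji⟩
      have hszc : Commute (z : G) s := hcomm hs z z.2
      have hisc : Commute (i : G) s := hcomm hs i i.2
      by_cases hs2 : s * s = 1
      · exact congrArg Subtype.val (hfT.eq_of_commute_conj hCi (w := ⟨s, hsT⟩) (Subtype.ext hs2)
          (fun e => hs1 (congrArg Subtype.val e)) (Subtype.ext hszc.eq.symm) fun x => Subtype.ext (by
            have hle : D ⊔ zpowers s ≤ centralizer ({s} : Set G) := sup_le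
              (fun d hd => mem_centralizer_singleton_iff.2 (hcomm hs d (hDL hd)).eq)
              (zpowers_le.2 (mem_centralizer_singleton_iff.2 rfl))
            have hx := mem_centralizer_singleton_iff.1 (hle x.2)
            show s * (x * s * (x : G)⁻¹) = x * s * (x : G)⁻¹ * s
            rw [hx, mul_inv_cancel_right]))
      · exfalso
        -- the square of `s` is an involution, hence `z`; look at `i * s`
        have hssT : s * s ∈ D ⊔ zpowers s := mul_mem hsT hsT
        have hssz : s * s = (z : G) := congrArg Subtype.val (hfT.eq_of_commute_conj hCi (w := ⟨s * s, hssT⟩)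
          (Subtype.ext (by
            show s * s * (s * s) = 1
            rw [← hs4]
            simp [pow_succ, mul_assoc]))
          (fun e => hs2 (congrArg Subtype.val e)) (Subtype.ext (hszc.mul_right hszc).eq.symm)
          fun x => Subtype.ext (by
            have hle : D ⊔ zpowers s ≤ centralizer ({s * s} : Set G) := sup_le
              (fun d hd => mem_centralizer_singleton_iff.2 ((hcomm hs d (hDL hd)).mul_right (hcomm hs d (hDL hd))).eq)
              (zpowers_le.2 (mem_centralizer_singleton_iff.2
                ((Commute.refl s).mul_right (Commute.refl s)).eq))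
            have hx := mem_centralizer_singleton_iff.1 (hle x.2)
            show s * s * (x * (s * s) * (x : G)⁻¹) = x * (s * s) * (x : G)⁻¹ * (s * s)
            rw [hx, mul_inv_cancel_right]))
        have hw2 : (i : G) * s * ((i : G) * s) = 1 := by
          rw [show (i : G) * s * ((i : G) * s) = i * (s * i) * s by group, ← hisc.eq,
            show (i : G) * (i * s) * s = i * i * (s * s) by group, hfG.ii, hssz, hfG.zz]
        have hwz : Commute ((i : G) * s) z := hfG.zi.symm.mul_left hszc.symm
        have hconj : ∀ x ∈ D ⊔ zpowers s, Commute x (z : G) ∧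
            (x * ((i : G) * s) * x⁻¹ = i * s ∨ x * ((i : G) * s) * x⁻¹ = z * (i * s)) := by
          intro x hx
          rw [sup_eq_closure] at hx
          induction hx using closure_induction with
          | mem d hd =>
            rcases hd with hd | hd
            on_goal 2 =>
              obtain ⟨m, rfl⟩ := hd
              refine ⟨(hszc.symm.zpow_left m), Or.inl ?_⟩
              have : Commute (s ^ m) ((i : G) * s) := ((hisc.symm).mul_right (Commute.refl s)).zpow_left m
              rw [this.eq, mul_inv_cancel_right]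
            obtain ⟨d, hd, rfl⟩ := hd
            refine ⟨(congrArg Subtype.val (mem_center_iff.1 (hrc hzk) d)), ?_⟩
            have hd' : d * i * d⁻¹ * i⁻¹ ∈ r.ker := by
              rw [MonoidHom.mem_ker, map_mul, map_mul, map_mul, map_inv, map_inv, (hVc _ (mem_comap.1 hd)).eq,
                mul_inv_cancel_right, mul_inv_cancel]
            have hds : L.subtype d * ((i : G) * s) * (L.subtype d)⁻¹ = (L.subtype (d * i * d⁻¹)) * s := by
              rw [map_mul, map_mul, map_inv]
              have := (hcomm hs (L.subtype d)⁻¹ (inv_mem d.2)).eq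
              show L.subtype d * (L.subtype i * s) * (L.subtype d)⁻¹ =
                L.subtype d * L.subtype i * (L.subtype d)⁻¹ * s
              rw [mul_assoc, mul_assoc, ← this]
              simp only [mul_assoc]
            rcases hkz _ hd' with e | e
            · left
              rw [hds, mul_inv_eq_one.1 e]; rfl
            · right
              rw [hds, mul_inv_eq_iff_eq_mul.1 e, map_mul, mul_assoc]; rfl
          | one => exact ⟨Commute.one_left _, Or.inl (by group)⟩
          | mul x y _ _ hx hy =>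
            refine ⟨hx.1.mul_left hy.1, ?_⟩
            rw [show x * y * ((i : G) * s) * (x * y)⁻¹ = x * (y * ((i : G) * s) * y⁻¹) * x⁻¹ by group]
            rcases hy.2 with e | e <;> rw [e]
            · exact hx.2
            · rw [show x * ((z : G) * (i * s)) * x⁻¹ = (x * z) * (i * s) * x⁻¹ by group, hx.1.eq,
                show (z : G) * x * (i * s) * x⁻¹ = z * (x * (i * s) * x⁻¹) by group]
              rcases hx.2 with e' | e' <;> rw [e']
              · exact Or.inr rfl
              · exact Or.inl (by rw [← mul_assoc, hfG.zz, one_mul])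
          | inv x _ hx =>
            refine ⟨hx.1.inv_left, ?_⟩
            rcases hx.2 with e | e
            · left
              rw [inv_inv]
              nth_rw 1 [← e]
              group
            · right
              rw [inv_inv]
              calc x⁻¹ * ((i : G) * s) * x = x⁻¹ * ((z : G) * z * (i * s)) * x := by rw [hfG.zz, one_mul]
                _ = x⁻¹ * z * (x * (i * s) * x⁻¹) * x := by rw [e]; group
                _ = z * (i * s) := by rw [hx.1.inv_left.eq]; group
        have hwT : (i : G) * s ∈ D ⊔ zpowers s := mul_mem (hmem hiD) hsT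
        have hw1 : (i : G) * s ≠ 1 := by
          intro e
          have hs' : s = ((i⁻¹ : ↥L) : G) := by
            rw [coe_inv]; exact eq_inv_of_mul_eq_one_right e
          have : Commute (j : G) ((i⁻¹ : ↥L) : G) := hs' ▸ hcomm hs j j.2
          rw [coe_inv] at this
          exact hfG.not_comm (Commute.inv_right_iff.1 this).eq.symm
        have hwe : (i : G) * s = z := congrArg Subtype.val (hfT.eq_of_commute_conj hCi (w := ⟨_, hwT⟩)
          (Subtype.ext hw2) (fun e => hw1 (congrArg Subtype.val e)) (Subtype.ext hwz.eq) fun x => Subtype.ext (by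
            show (i : G) * s * (x * (i * s) * (x : G)⁻¹) = x * (i * s) * (x : G)⁻¹ * (i * s)
            rcases (hconj x x.2).2 with e | e <;> rw [e]
            rw [← mul_assoc ((i : G) * s), hwz.eq, mul_assoc]))
        have hs' : s = ((i⁻¹ * z : ↥L) : G) := by
          rw [coe_mul, coe_inv, ← hwe, inv_mul_cancel_left]
        have : Commute (j : G) ((i : G)⁻¹ * z) := by
          have := hcomm hs j j.2
          rwa [hs', coe_mul, coe_inv] at this
        have h3 : Commute (j : G) ((i : G)⁻¹) := by
          have := this.mul_right (hfG.zj.symm.inv_right)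
          rwa [mul_inv_cancel_right] at this
        exact hfG.not_comm (Commute.inv_right_iff.1 h3).eq.symm
    rcases Nat.lt_or_ge k 2 with hk2 | hk2
    · rcases hsmall t ht (by
        rw [← orderOf_dvd_iff_pow_eq_one, hk]
        exact pow_dvd_pow 2 (show k ≤ 2 by omega)) with e | e <;> rw [e]
      · exact one_mem L
      · exact z.2
    · exfalso
      have h4 : orderOf (t ^ 2 ^ (k - 2)) = 4 := by
        rw [orderOf_pow_of_dvd (by positivity) (hk ▸ pow_dvd_pow 2 (Nat.sub_le k 2)), hk,
          Nat.pow_div (Nat.sub_le k 2) two_pos, show k - (k - 2) = 2 by omega]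
        norm_num
      rcases hsmall _ (pow_mem ht _) (by rw [← h4, pow_orderOf_eq_one]) with e | e <;> rw [e] at h4
      · rw [orderOf_one] at h4; omega
      · rw [orderOf_coe, hz] at h4; omega

/-- The structure theorem, given the semidihedral case. -/
theorem structure_of_sdFalse (hSD : SDFalse.{u}) {G : Type u} [Group G] [Finite G] (hns : ¬ Group.IsSolvable G)
    (hodd : OddCyclic G) (h2 : TwoCyclic G) :
    ∃ G₀ : Subgroup G, G₀.Normal ∧ G₀.index ∣ 2 ∧
      ∃ X L : Subgroup ↥G₀, X.Normal ∧ L.Normal ∧ X ⊓ L = ⊥ ∧ X ⊔ L = ⊤ ∧ (Nat.card X).Coprime (Nat.card L) ∧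
        Odd (Nat.card X) ∧ (∃ (C : Subgroup ↥X) (_ : C.Normal), IsCyclic C ∧ IsCyclic (↥X ⧸ C)) ∧
        ∃ (p : ℕ) (_ : Fact p.Prime), 5 ≤ p ∧
          (Nonempty (↥L ≃* Matrix.ProjectiveSpecialLinearGroup (Fin 2) (ZMod p)) ∨
           Nonempty (↥L ≃* Matrix.SpecialLinearGroup (Fin 2) (ZMod p))) := by
  haveI : Fact (Nat.Prime 2) := ⟨Nat.prime_two⟩
  obtain ⟨L, hLn, -, hLns, hLp⟩ := Grp.Pyramidal.exists_perfect_normal (G := G) (C := ⊤) fun h => by
    haveI := h
    exact hns (Group.isSolvable_of_surjective (f := (Subgroup.topEquiv (G := G)).toMonoidHom)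
      (Subgroup.topEquiv (G := G)).surjective)
  haveI := hLn
  have hLc : commutator ↥L = ⊤ := Subgroup.map_injective L.subtype_injective (by
    rw [Subgroup.map_subtype_commutator, hLp, ← MonoidHom.range_eq_map, Subgroup.range_subtype])
  have hnt : Nontrivial ↥L := by
    by_contra hn
    rw [not_nontrivial_iff_subsingleton] at hn
    exact hLns inferInstance
  have hlin : IsTwoLinear ↥L :=
    perfect_linear hSD _ ↥L rfl hnt ⟨hLc⟩ (hodd.subgroup L) (h2.subgroup L)
  obtain ⟨p, hp, h5, r, hr, hrc, hker⟩ := exists_psl_hom hlin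
  have hcard : Fintype.card (ZMod p) = p := ZMod.card p
  have hpodd : Odd (Fintype.card (ZMod p)) := by rw [hcard]; exact hp.out.odd_of_ne_two (by omega)
  haveI : IsSimpleGroup (Matrix.ProjectiveSpecialLinearGroup (Fin 2) (ZMod p)) :=
    Classical.PSL_isSimple le_rfl fun _ => by omega
  have hcenter : center ↥L = r.ker := by
    refine le_antisymm (fun x hx => ?_) hrc
    have hc : r x ∈ center (Matrix.ProjectiveSpecialLinearGroup (Fin 2) (ZMod p)) := by
      refine mem_center_iff.2 fun y => ?_
      obtain ⟨y, rfl⟩ := hr y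
      rw [← map_mul, ← map_mul, mem_center_iff.1 hx y]
    rwa [center_eq_bot_of_perfect (GW.psl_commutator_top (by omega)), mem_bot] at hc
  -- the odd part of the centralizer
  set K := centralizer (L : Set G) with hK
  haveI : K.Normal := Subgroup.normal_centralizer
  set O := Cfsg.pPrimeCore 2 ↥K with hO
  haveI : O.Normal := Grp.pPrimeCore_isNormal
  haveI : O.Characteristic := inferInstance
  let X : Subgroup G := O.map K.subtype
  haveI : X.Normal := inferInstance
  have hXK : X ≤ K := map_subtype_le O
  have hXodd : Odd (Nat.card ↥X) := by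
    rw [card_map_of_injective K.subtype_injective]
    exact Nat.coprime_two_right.1 Grp.pPrimeCore_coprime
  obtain ⟨T⟩ := (inferInstance : Nonempty (Sylow 2 ↥K))
  have hTL : ∀ t ∈ (T : Subgroup ↥K), (t : G) ∈ L := by
    intro t htT
    obtain ⟨k, hk⟩ := IsPGroup.iff_orderOf.1 T.isPGroup' ⟨t, htT⟩
    exact two_elements_mem h2 L hlin t.2 (k := k) (by rw [orderOf_coe, ← hk, ← orderOf_coe (⟨t, htT⟩ : ↥(T : Subgroup ↥K))])
  have hTc : normalizer ((T : Subgroup ↥K) : Set ↥K) ≤ centralizer ((T : Subgroup ↥K) : Set ↥K) := by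
    intro g _
    rw [mem_centralizer_iff]
    intro t ht
    exact Subtype.ext (mem_centralizer_iff.1 g.2 t (hTL t ht))
  have hKLX : K ≤ X ⊔ L := by
    intro g hg
    have hcompl := MonoidHom.ker_transferSylow_isComplement' T hTc
    have hle : (MonoidHom.transferSylow T hTc).ker ≤ O := by
      refine Grp.le_pPrimeCore inferInstance ?_
      refine (Nat.prime_two.coprime_iff_not_dvd.2 ?_).symm
      exact MonoidHom.not_dvd_card_ker_transferSylow T hTc
    obtain ⟨⟨a, b⟩, hab⟩ := hcompl.2 ⟨g, hg⟩
    have hab' : ((a : ↥K) : G) * ((b : ↥K) : G) = g := congrArg Subtype.val hab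
    rw [← hab']
    exact mul_mem (le_sup_left (a := X) (mem_map_of_mem K.subtype (hle a.2)))
      (le_sup_right (a := X) (hTL b b.2))
  have hXL : X ⊓ L = ⊥ := by
    refine eq_bot_iff.2 fun x hx => ?_
    have hxc : (⟨x, hx.2⟩ : ↥L) ∈ r.ker := by
      rw [← hcenter]
      exact mem_center_iff.2 fun y => Subtype.ext (mem_centralizer_iff.1 (hXK hx.1) y y.2)
    have hd1 : orderOf x ∣ Nat.card ↥X := by
      rw [← orderOf_mk x hx.1]; exact orderOf_dvd_natCard _
    have hd2 : orderOf x ∣ 2 := by
      rcases hker with hinj | ⟨hk2, -⟩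
      · have hx1 : x = 1 := congrArg Subtype.val ((map_eq_one_iff r hinj).1 hxc)
        rw [hx1, orderOf_one]; exact one_dvd 2
      · have := orderOf_dvd_natCard (⟨⟨x, hx.2⟩, hxc⟩ : ↥r.ker)
        rwa [hk2, ← orderOf_coe, ← orderOf_coe] at this
    exact mem_bot.2 (orderOf_eq_one_iff.1 (Nat.eq_one_of_dvd_coprimes (Nat.coprime_two_right.2 hXodd) hd1 hd2))
  -- the index
  let q : ↥L ⧸ center ↥L ≃* Matrix.ProjectiveSpecialLinearGroup (Fin 2) (ZMod p) :=
    (QuotientGroup.quotientMulEquivOfEq hcenter).trans (QuotientGroup.quotientKerEquivOfSurjective r hr)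
  have hq : ∀ x : ↥L, q (QuotientGroup.mk x) = r x := fun x => rfl
  let ψ : G →* MulAut (Matrix.ProjectiveSpecialLinearGroup (Fin 2) (ZMod p)) := MonoidHom.mk'
    (fun g => MulAut.congr q (QuotientGroup.congr _ _ (MulAut.conjNormal g : MulAut ↥L)
      (Subgroup.characteristic_iff_map_eq.1 inferInstance _)))
    fun a b => MulEquiv.ext fun y => by
      obtain ⟨x, rfl⟩ := hr y
      rw [← hq]
      simp [MulAut.mul_apply]
      rfl
  have hψ : ∀ g x, ψ g (r x) = r (MulAut.conjNormal g x) := fun g x => by
    rw [← hq, ← hq]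
    simp [ψ]
    rfl
  let J : Subgroup (MulAut (Matrix.ProjectiveSpecialLinearGroup (Fin 2) (ZMod p))) := MulAut.conj.range
  have hJ : J.index = 2 := by
    let Φ := MulEquiv.ofBijective (GW.pglAut (ZMod p)) ⟨GW.pglAut_injective, fun α =>
      Core2.RankTwo.pglAut_surjective_of_prime (by rw [hcard]; exact hp.out) α⟩
    have hJe : J = (Matrix.ProjectiveSpecialLinearGroup.toPGL (n := Fin 2) (R := ZMod p)).range.map Φ.toMonoidHom := by
      rw [MonoidHom.map_range]
      show MulAut.conj.range = _
      congr 1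
      exact MonoidHom.ext fun y => (GW.pglAut_toPGL y).symm
    rw [hJe]
    refine Eq.trans (index_map_equiv _ Φ) ?_
    exact Core2.RankTwo.index_range_toPGL hpodd
  haveI : J.Normal := normal_of_index_eq_two hJ
  have hidx : (X ⊔ L).index ∣ 2 := by
    have hle : J.comap ψ ≤ X ⊔ L := by
      intro g hg
      obtain ⟨y, hy⟩ := hg
      obtain ⟨x, rfl⟩ := hr y
      have hfix := GW.eq_id_of_central hLc (MulAut.conjNormal ((x : G)⁻¹ * g)).toMonoidHom (fun y => by
        rw [hcenter, MonoidHom.mem_ker, map_mul, map_inv]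
        have h1 : r (MulAut.conjNormal g y) = r x * r y * (r x)⁻¹ := by
          rw [← hψ, ← hy]
          rfl
        have h2 : MulAut.conjNormal ((x : G)⁻¹ * g) y = x⁻¹ * MulAut.conjNormal g y * x := Subtype.ext (by
          simp only [MulAut.conjNormal_apply, Subgroup.coe_mul, InvMemClass.coe_inv]
          group)
        show (r y)⁻¹ * r (MulAut.conjNormal ((x : G)⁻¹ * g) y) = 1
        rw [h2, map_mul, map_mul, map_inv, h1]
        group)
      have hxK : (x : G)⁻¹ * g ∈ K := by
        refine mem_centralizer_iff.2 fun y hy => ?_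
        have h3 := congrArg Subtype.val (hfix ⟨y, hy⟩)
        exact (mul_inv_eq_iff_eq_mul.1 ((MulAut.conjNormal_apply _ _).symm.trans h3)).symm
      have : g = (x : G) * ((x : G)⁻¹ * g) := by group
      rw [this]
      exact mul_mem (le_sup_right (a := X) x.2) (hKLX hxK)
    refine (index_dvd_of_le hle).trans ?_
    rw [index_comap]
    have := relIndex_dvd_index_of_normal J ψ.range
    rwa [hJ] at this
  -- assembling
  have hX0 : X ≤ X ⊔ L := le_sup_left
  have hL0 : L ≤ X ⊔ L := le_sup_right
  have hcX : Nat.card ↥(X.subgroupOf (X ⊔ L)) = Nat.card ↥X := Nat.card_congr (subgroupOfEquivOfLe hX0).toEquiv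
  refine ⟨X ⊔ L, inferInstance, hidx, X.subgroupOf (X ⊔ L), L.subgroupOf (X ⊔ L), inferInstance, inferInstance,
    ?_, ?_, ?_, hcX ▸ hXodd, ?_, ?_⟩
  · exact eq_bot_iff.2 fun x hx => mem_bot.2 (Subtype.ext (mem_bot.1
      (show (x : G) ∈ (⊥ : Subgroup G) from hXL ▸ ⟨mem_subgroupOf.1 hx.1, mem_subgroupOf.1 hx.2⟩)))
  · rw [← subgroupOf_sup hX0 hL0, subgroupOf_self]
  · rw [hcX, Nat.card_congr (subgroupOfEquivOfLe hL0).toEquiv]
    refine Nat.coprime_of_dvd fun s hs hsX hsL => ?_
    haveI : Fact s.Prime := ⟨hs⟩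
    obtain ⟨x, hx⟩ := exists_prime_orderOf_dvd_card' (G := ↥X) s hsX
    obtain ⟨y, hy⟩ := exists_prime_orderOf_dvd_card' (G := ↥L) s hsL
    rw [← orderOf_coe] at hx hy
    have hs2 : s ≠ 2 := by
      rintro rfl
      exact Nat.not_even_iff_odd.2 hXodd (even_iff_two_dvd.2 hsX)
    have hxy : Commute (x : G) y := (mem_centralizer_iff.1 (hXK x.2) y y.2).symm
    have hmem : (x : G) ∈ X ⊓ L :=
      ⟨x.2, zpowers_le.2 y.2 (hodd.mem_zpowers hs hs2 hxy (hx ▸ pow_orderOf_eq_one _) hy)⟩
    rw [hXL, mem_bot] at hmem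
    rw [hmem, orderOf_one] at hx
    exact hs.ne_one hx.symm
  · haveI := ((hodd.subgroup (X ⊔ L)).subgroup (X.subgroupOf (X ⊔ L))).isZGroup (hcX ▸ hXodd)
    exact ⟨commutator ↥(X.subgroupOf (X ⊔ L)), inferInstance, IsZGroup.isCyclic_commutator _,
      IsZGroup.isCyclic_abelianization⟩
  · obtain ⟨p', hp', h5', he⟩ := hlin
    refine ⟨p', hp', h5', ?_⟩
    exact he.imp (fun ⟨f⟩ => ⟨(subgroupOfEquivOfLe hL0).trans f⟩) fun ⟨f⟩ => ⟨(subgroupOfEquivOfLe hL0).trans f⟩

end Cfsg.Agent.Invol.AlmostCyclic
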