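import Cfsg.Agent.Lib.Invol.AlmostCyclic.FiveCore

/-!
# No group has the surviving order (for S4069)
-/

set_option autoImplicit false

namespace Cfsg.Agent.Invol.AlmostCyclic

open Subgroup
open scoped Pointwise

universe u

variable {G : Type u} [Group G] [Fintype G] {t : ℕ}

/-- A cyclic subgroup has its automiser dividing the totient of its order. -/
theorem card_normalizer_cyclic (Q : Subgroup G) [IsCyclic Q] :
    ∃ e : ℕ, Nat.card (normalizer (Q : Set G)) = Nat.card (centralizer (Q : Set G)) * e ∧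
      e ∣ (Nat.card Q).totient ∧
      (e = (Nat.card Q).totient → ∀ a : MulAut Q, ∃ n : normalizer (Q : Set G), Q.normalizerMonoidHom n = a) := by
  refine ⟨Nat.card Q.normalizerMonoidHom.range, ?_, ?_, fun he a => ?_⟩
  · have h := Q.normalizerMonoidHom.ker.card_mul_index
    rw [Subgroup.index_ker] at h
    rw [← h, Subgroup.normalizerMonoidHom_ker,
      Nat.card_congr (Subgroup.subgroupOfEquivOfLe (Subgroup.centralizer_le_normalizer _)).toEquiv]
  · rw [← IsCyclic.card_mulAut]
    exact Subgroup.card_subgroup_dvd_card _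
  · rw [← IsCyclic.card_mulAut] at he
    have htop := Subgroup.eq_top_of_card_eq _ he
    exact MonoidHom.mem_range.1 (htop ▸ Subgroup.mem_top a)

theorem sylow_index_mod (p : ℕ) [Fact p.Prime] (P : Sylow p G) :
    ∃ n : ℕ, Nat.card (normalizer ((P : Subgroup G) : Set G)) * n = Nat.card G ∧ n % p = 1 := by
  refine ⟨(normalizer ((P : Subgroup G) : Set G)).index, Subgroup.card_mul_index _, ?_⟩
  have h := card_sylow_modEq_one p G
  rw [Sylow.card_eq_index_normalizer P, Nat.ModEq, Nat.one_mod_eq_one.2 (Fact.out : p.Prime).ne_one] at h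
  exact h

theorem card_sylow_normalizer {p : ℕ} [Fact p.Prime] (P Q : Sylow p G) :
    Nat.card (normalizer ((P : Subgroup G) : Set G)) = Nat.card (normalizer ((Q : Subgroup G) : Set G)) := by
  have h1 := (normalizer ((P : Subgroup G) : Set G)).card_mul_index
  have h2 := (normalizer ((Q : Subgroup G) : Set G)).card_mul_index
  have e1 : (normalizer ((P : Subgroup G) : Set G)).index = (normalizer ((Q : Subgroup G) : Set G)).index :=
    (Sylow.card_eq_index_normalizer P).symm.trans (Sylow.card_eq_index_normalizer Q)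
  rw [e1, ← h2] at h1
  exact Nat.eq_of_mul_eq_mul_right (Nat.pos_of_ne_zero Subgroup.index_ne_zero_of_finite) h1

namespace Mod

variable {L : Loc G t} {F : Type} [Field F] [Fintype F] (M : Mod L F)
include M

/-- A group of order 85680 with this configuration does not exist. -/
theorem no_five (hcore : Cfsg.oddCore G = ⊥) (hnt : Nontrivial G) (h5 : Fintype.card F = 5) (ht2 : t = 2)
    (hN : Nat.card G * L.c ^ 2 = 85680 * L.oOrd ^ 2 * L.kk) (ho : L.oOrd = 1) : False := by
  classical
  haveI : Fact (Nat.Prime 2) := ⟨Nat.prime_two⟩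
  haveI : Fact (Nat.Prime 3) := ⟨Nat.prime_three⟩
  haveI : Fact (Nat.Prime 5) := ⟨Nat.prime_five⟩
  haveI : Fact (Nat.Prime 17) := ⟨by norm_num⟩
  have hk : L.kk = 1 := Nat.dvd_one.1 (ho ▸ L.card_Oc ▸ Subgroup.card_dvd_of_le inf_le_right)
  have hc : L.c = 1 := Nat.dvd_one.1 (ho ▸ M.c_dvd_o)
  have hG : Nat.card G = 85680 := by simpa [hk, hc, ho] using hN
  have hC : Nat.card L.C = 240 := by rw [M.card_C_five h5, ho]
  -- odd subgroups not dividing 240 have odd centralisers
  have hodd : ∀ P : Subgroup G, ¬ Nat.card P ∣ 240 → Odd (Nat.card (centralizer (P : Set G))) := by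
    intro P hP
    by_contra h
    rw [Nat.not_odd_iff_even, even_iff_two_dvd] at h
    obtain ⟨u, hu⟩ := exists_prime_orderOf_dvd_card' 2 h
    rw [← Subgroup.orderOf_coe] at hu
    obtain ⟨g, hg⟩ := isConj_iff.1 (L.one_class hu)
    have hle : (MulAut.conj g⁻¹ • P : Subgroup G) ≤ L.C := by
      rintro _ ⟨w, hw, rfl⟩
      have h1 := Subgroup.mem_centralizer_iff.1 u.2 w hw
      refine L.mem_C.2 ?_
      show g⁻¹ * w * g⁻¹⁻¹ * L.z = L.z * (g⁻¹ * w * g⁻¹⁻¹)
      calc g⁻¹ * w * g⁻¹⁻¹ * L.z = g⁻¹ * (w * (g * L.z * g⁻¹)) * g := by group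
        _ = g⁻¹ * ((g * L.z * g⁻¹) * w) * g := by rw [hg, h1]
        _ = L.z * (g⁻¹ * w * g⁻¹⁻¹) := by group
    refine hP ?_
    have h2 := Subgroup.card_dvd_of_le hle
    rw [hC, ← Nat.card_congr (Subgroup.equivSMul (MulAut.conj g⁻¹) P).toEquiv] at h2
    exact h2
  -- no normal subgroup of odd prime order
  have hnorm : ∀ Q : Subgroup G, Nat.card (normalizer (Q : Set G)) = 85680 → Odd (Nat.card Q) →
      Nat.card Q = 1 := by
    intro Q hQ ho'
    have htop : normalizer (Q : Set G) = ⊤ := Subgroup.eq_top_of_card_eq _ (hQ.trans hG.symm)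
    have hn : Q.Normal := Subgroup.normalizer_eq_top_iff.1 htop
    have hle : Q ≤ ⊥ := hcore ▸ Grp.le_pPrimeCore hn ho'.coprime_two_right
    rw [le_bot_iff.1 hle, Subgroup.card_bot]
  -- the Sylow 3-subgroups
  obtain ⟨P3⟩ : Nonempty (Sylow 3 G) := inferInstance
  have h9 : Nat.card ↥(P3 : Subgroup G) = 9 := by
    rw [Sylow.card_eq_multiplicity P3, hG, Nat.factorization_def _ Nat.prime_three,
      show (85680 : ℕ) = 3 ^ 2 * 9520 by norm_num, padicValNat.mul (by norm_num) (by norm_num),
      padicValNat.prime_pow, padicValNat.eq_zero_of_not_dvd (by norm_num)]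
    norm_num
  haveI : IsCyclic ↥(P3 : Subgroup G) := L.hodd.isCyclic_of_isPGroup Nat.prime_three (by decide) P3.isPGroup'
  obtain ⟨e, hNe, he, -⟩ := card_normalizer_cyclic (P3 : Subgroup G)
  obtain ⟨n, hn, hn1⟩ := sylow_index_mod 3 P3
  set f := Nat.card (centralizer ((P3 : Subgroup G) : Set G)) with hf
  have hfo : Odd f := hodd _ (by rw [h9]; norm_num)
  have h9f : 9 ∣ f := h9 ▸ Subgroup.card_dvd_of_le (Subgroup.le_centralizer_iff_isMulCommutative.2 inferInstance)
  rw [h9, show (9 : ℕ) = 3 ^ 2 by norm_num, Nat.totient_prime_pow Nat.prime_three (by norm_num)] at he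
  norm_num at he
  have he1 : e ≠ 1 := fun h1 => by
    refine no_complement L.perfect hnt P3 (by rw [h9]; norm_num) ?_
    refine (Subgroup.eq_of_le_of_card_ge (Subgroup.centralizer_le_normalizer _) ?_).ge
    rw [hNe, h1, mul_one]
  rw [hNe, hG] at hn
  obtain ⟨m, hm⟩ := h9f
  have hef : e * m * n = 9520 := by
    refine Nat.eq_of_mul_eq_mul_left (show 0 < 9 by norm_num) ?_
    rw [← mul_assoc, ← mul_assoc, mul_comm 9 e, mul_assoc e, ← hm, mul_comm e f, hn]
  have he2 : e = 2 := by
    have h6 := Nat.le_of_dvd (by norm_num) he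
    have h3 : ¬ 3 ∣ e := fun h => by
      have : 3 ∣ 9520 := hef ▸ (h.mul_right m).mul_right n
      omega
    interval_cases e <;> omega
  subst he2
  have hmo : Odd m := Odd.of_dvd_nat hfo ⟨9, by rw [hm, mul_comm]⟩
  have hor : 5 ∣ m ∨ 17 ∣ m := by
    by_contra hno
    push Not at hno
    have h4760 : m ∣ 7 * 680 := ⟨n, by nlinarith⟩
    have hco : m.Coprime 680 := by
      rw [show (680 : ℕ) = 2 ^ 3 * (5 * 17) by norm_num]
      exact Nat.Coprime.mul_right ((Nat.coprime_two_right.2 hmo).pow_right 3)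
        (Nat.Coprime.mul_right (Nat.prime_five.coprime_iff_not_dvd.2 hno.1).symm
          ((show Nat.Prime 17 by norm_num).coprime_iff_not_dvd.2 hno.2).symm)
    have h7 : m ∣ 7 := hco.dvd_of_dvd_mul_right h4760
    have := Nat.le_of_dvd (by norm_num) h7
    interval_cases m <;> omega
  -- a centralising element of order 5 or 17
  have key : ∀ p : ℕ, p.Prime → p ∣ m → ∃ Q : Subgroup G, Nat.card Q = p ∧ IsCyclic Q ∧
      9 ∣ Nat.card (centralizer (Q : Set G)) := by
    intro p hp hpm
    haveI : Fact p.Prime := ⟨hp⟩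
    obtain ⟨w, hw⟩ := exists_prime_orderOf_dvd_card' (G := centralizer ((P3 : Subgroup G) : Set G)) p
      (hpm.trans ⟨9, by rw [← hf, hm, mul_comm]⟩)
    rw [← Subgroup.orderOf_coe] at hw
    refine ⟨zpowers (w : G), by rw [Nat.card_zpowers, hw], inferInstance, h9 ▸ Subgroup.card_dvd_of_le ?_⟩
    exact Subgroup.le_centralizer_iff.1 (zpowers_le.2 w.2)
  rcases hor with hp | hp
  · -- five
    obtain ⟨Q, hQ, -, hQ9⟩ := key 5 Nat.prime_five hp
    have hQc : Nat.card Q = 5 ^ (Nat.card G).factorization 5 := by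
      rw [hQ, hG, Nat.factorization_def _ Nat.prime_five, show (85680 : ℕ) = 5 * 17136 by norm_num,
        padicValNat.mul (by norm_num) (by norm_num), padicValNat_self, padicValNat.eq_zero_of_not_dvd (by norm_num)]
      norm_num
    let QS : Sylow 5 G := Sylow.ofCard Q hQc
    obtain ⟨n5, hn5, hn51⟩ := sylow_index_mod 5 QS
    set N5 := Nat.card (normalizer ((QS : Subgroup G) : Set G)) with hN5
    have h9N : 9 ∣ N5 := hQ9.trans (Subgroup.card_dvd_of_le (Subgroup.centralizer_le_normalizer _))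
    obtain ⟨W⟩ : Nonempty (Sylow 5 ↥L.C) := inferInstance
    have hWc : Nat.card ↥(W : Subgroup ↥L.C) = 5 := by
      rw [Sylow.card_eq_multiplicity W, hC, Nat.factorization_def _ Nat.prime_five,
        show (240 : ℕ) = 5 * 48 by norm_num, padicValNat.mul (by norm_num) (by norm_num), padicValNat_self,
        padicValNat.eq_zero_of_not_dvd (by norm_num)]
      norm_num
    let W' : Sylow 5 G := Sylow.ofCard ((W : Subgroup ↥L.C).map L.C.subtype) ((Subgroup.card_subtype _ _).trans
      (hWc.trans (hQ.symm.trans hQc)))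
    have h8 : 8 ∣ N5 := by
      rw [hN5, card_sylow_normalizer QS W']
      refine (M.eight_dvd h5 W).trans ?_
      rw [← Subgroup.card_subtype L.C]
      exact Subgroup.card_dvd_of_le (Subgroup.le_normalizer_map _)
    have h5N : 5 ∣ N5 := hQ ▸ Subgroup.card_dvd_of_le (Subgroup.le_normalizer)
    have h360 : 360 ∣ N5 := by
      rw [show (360 : ℕ) = 8 * 9 * 5 by norm_num]
      exact Nat.Coprime.mul_dvd_of_dvd_of_dvd (by norm_num)
        (Nat.Coprime.mul_dvd_of_dvd_of_dvd (by norm_num) h8 h9N) h5N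
    obtain ⟨v, hv⟩ := h360
    rw [hv, hG] at hn5
    have hn238 : n5 ∣ 238 := ⟨v, by nlinarith⟩
    have hn5' : n5 = 1 := by
      have := Nat.le_of_dvd (by norm_num) hn238
      obtain ⟨x, hx⟩ := hn238
      interval_cases n5 <;> omega
    have := hnorm (QS : Subgroup G) (by rw [← hN5, hv]; subst hn5'; omega) (by
      show Odd (Nat.card Q)
      rw [hQ]; decide)
    rw [show ((QS : Subgroup G)) = Q from rfl, hQ] at this
    omega
  · -- seventeen
    obtain ⟨Q, hQ, hQcyc, hQ9⟩ := key 17 (by norm_num) hp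
    have hQc : Nat.card Q = 17 ^ (Nat.card G).factorization 17 := by
      rw [hQ, hG, Nat.factorization_def _ (by norm_num), show (85680 : ℕ) = 17 * 5040 by norm_num,
        padicValNat.mul (by norm_num) (by norm_num), padicValNat_self, padicValNat.eq_zero_of_not_dvd (by norm_num)]
      norm_num
    let QS : Sylow 17 G := Sylow.ofCard Q hQc
    obtain ⟨n17, hn17, hn171⟩ := sylow_index_mod 17 QS
    haveI : IsCyclic Q := hQcyc
    obtain ⟨e', hNe', he', hfull⟩ := card_normalizer_cyclic Q
    change Nat.card (normalizer (Q : Set G)) * n17 = _ at hn17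
    rw [hNe', hG] at hn17
    have hf17 : Odd (Nat.card (centralizer (Q : Set G))) := hodd _ (by rw [hQ]; norm_num)
    have h153 : 153 ∣ Nat.card (centralizer (Q : Set G)) := by
      rw [show (153 : ℕ) = 9 * 17 by norm_num]
      exact Nat.Coprime.mul_dvd_of_dvd_of_dvd (by norm_num) hQ9
        (hQ ▸ Subgroup.card_dvd_of_le (Subgroup.le_centralizer_iff_isMulCommutative.2 inferInstance))
    obtain ⟨v, hv⟩ := h153
    have hvo : Odd v := Odd.of_dvd_nat hf17 ⟨153, by rw [hv, mul_comm]⟩
    rw [hQ, Nat.totient_prime (by norm_num), show 17 - 1 = 16 from rfl] at he' hfull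
    have he16 : e' = 16 := by
      have hle := Nat.le_of_dvd (by norm_num) he'
      have h560 : e' * v * n17 = 560 := by
        refine Nat.eq_of_mul_eq_mul_left (show 0 < 153 by norm_num) ?_
        rw [← mul_assoc, ← mul_assoc, mul_comm 153 e', mul_assoc e', ← hv, mul_comm e', hn17]
      -- the index is 1 or 35
      have hn560 : n17 ∣ 560 := ⟨e' * v, by rw [← h560, mul_comm]⟩
      have hn35 : n17 = 1 ∨ n17 = 35 := by
        have := Nat.le_of_dvd (by norm_num) hn560
        obtain ⟨k, hk⟩ : ∃ k, n17 = 17 * k + 1 := ⟨n17 / 17, by omega⟩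
        subst hk
        have hk' : k ≤ 32 := by omega
        interval_cases k <;> simp_all (config := { decide := true })
      have h16 : 16 ∣ e' * v := by
        rcases hn35 with h | h <;> rw [h] at h560 <;> omega
      have := Nat.Coprime.dvd_of_dvd_mul_right (k := 16) (n := v)
        ((Nat.coprime_two_left.2 hvo).pow_left 4) h16
      exact Nat.dvd_antisymm he' this
    -- a cyclic Sylow 2-subgroup
    haveI : IsCyclic (MulAut Q) := by
      refine (IsCyclic.mulAutMulEquiv Q).isCyclic.2 ?_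
      rw [hQ]; infer_instance
    obtain ⟨a, ha⟩ := IsCyclic.exists_ofOrder_eq_natCard (α := MulAut Q)
    rw [IsCyclic.card_mulAut, hQ, Nat.totient_prime (by norm_num)] at ha
    obtain ⟨x, hx⟩ := hfull he16 a
    have h16 : 16 ∣ orderOf x := by
      have := orderOf_map_dvd Q.normalizerMonoidHom x
      rw [hx, ha] at this
      simpa using this
    set g : G := (x : G) ^ (orderOf x / 16) with hg
    have hgo : orderOf g = 16 := by
      rw [hg, ← SubmonoidClass.coe_pow, Subgroup.orderOf_coe]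
      exact orderOf_pow_orderOf_div (orderOf_pos x).ne' h16
    obtain ⟨c, -, hcS⟩ := Invol.exists_conj_into_sylow (S := L.S) (H := (⊤ : Subgroup G)) le_top le_top
      (IsPGroup.of_card (p := 2) (n := 4) (G := zpowers g) (by rw [Nat.card_zpowers, hgo]; norm_num))
    have hgS : c * g * c⁻¹ ∈ (L.S : Subgroup G) := hcS g (mem_zpowers g)
    have heq : zpowers (c * g * c⁻¹) = (L.S : Subgroup G) := by
      refine Subgroup.eq_of_le_of_card_ge (zpowers_le.2 hgS) ?_
      rw [L.card_S, Nat.card_zpowers, ht2, ← MulAut.conj_apply, MulEquiv.orderOf_eq, hgo]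
      norm_num
    have hr := mem_zpowers_iff.1 (heq ▸ L.sd.mem : L.r ∈ zpowers (c * g * c⁻¹))
    have hs := mem_zpowers_iff.1 (heq ▸ L.sd.smem : L.s ∈ zpowers (c * g * c⁻¹))
    obtain ⟨i, hi⟩ := hr
    obtain ⟨j, hj⟩ := hs
    refine L.s_not_A (L.mem_A.2 ?_)
    have hcomm : Commute L.s L.r := hi ▸ hj ▸ (Commute.refl _).zpow_zpow j i
    exact (hcomm.pow_right _).eq

end Mod

end Cfsg.Agent.Invol.AlmostCyclic
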