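import Cfsg.Agent.Lib.Invol.AlmostCyclic.Build
import Cfsg.Agent.Lib.Invol.GW.Consumers.OutAdjust

/-!
# The surviving configuration has trivial core in the involution centraliser (for S4069)
-/

set_option autoImplicit false

namespace Cfsg.Agent.Invol.AlmostCyclic

open Subgroup
open scoped Pointwise

universe u

variable {G : Type u} [Group G] [Fintype G] {t : ℕ}

/-- A 2-element normalising a cyclic group of odd prime power order and fixing a nontrivial element of it
centralises it. -/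
theorem two_fix_cyclic {r : ℕ} (hr : r.Prime) (hr2 : r ≠ 2) {W : Subgroup G} [IsCyclic W] (hW : IsPGroup r W)
    {n ω : G} (hn : n ∈ normalizer (W : Set G)) {j : ℕ} (hj : n ^ 2 ^ j = 1) (hω : ω ∈ W) (hω1 : ω ≠ 1)
    (hfix : n * ω * n⁻¹ = ω) : n ∈ centralizer (W : Set G) := by
  haveI : Fact r.Prime := ⟨hr⟩
  obtain ⟨⟨g, hg⟩, hgen⟩ := IsCyclic.exists_generator (α := W)
  have hgen' : ∀ w ∈ W, ∃ i : ℤ, g ^ i = w := fun w hw => by
    obtain ⟨i, hi⟩ := mem_zpowers_iff.1 (hgen ⟨w, hw⟩)
    exact ⟨i, by simpa using congrArg Subtype.val hi⟩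
  obtain ⟨e, he⟩ := hgen' _ ((Subgroup.mem_normalizer_iff.1 hn g).1 hg)
  have hiter : ∀ i : ℕ, n ^ i * g * (n ^ i)⁻¹ = g ^ (e ^ i) := by
    intro i
    induction i with
    | zero => simp
    | succ i ih =>
      rw [pow_succ' n, show n * n ^ i * g * (n * n ^ i)⁻¹ = n * (n ^ i * g * (n ^ i)⁻¹) * n⁻¹ by group, ih,
        ← conj_zpow, ← he, ← zpow_mul, ← pow_succ']
  obtain ⟨a, ha⟩ := IsPGroup.iff_orderOf.1 hW ⟨g, hg⟩
  rw [Subgroup.orderOf_mk] at ha
  have h1 : ((r ^ a : ℕ) : ℤ) ∣ e ^ 2 ^ j - 1 := by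
    rw [← ha, orderOf_dvd_iff_zpow_eq_one, zpow_sub, zpow_one, ← hiter, hj]
    group
  have h2 : ((r : ℕ) : ℤ) ∣ e - 1 := by
    obtain ⟨m, hm⟩ := hgen' ω hω
    by_contra hne
    refine hω1 ?_
    have hme : ((r ^ a : ℕ) : ℤ) ∣ m * (e - 1) := by
      rw [← ha, orderOf_dvd_iff_zpow_eq_one, mul_sub, mul_one, zpow_sub, hm, mul_comm, zpow_mul, he, conj_zpow,
        hm, hfix, mul_inv_cancel]
    have hco : IsCoprime ((r ^ a : ℕ) : ℤ) (e - 1) := by
      rw [Nat.cast_pow]
      exact ((Nat.prime_iff_prime_int.1 hr).coprime_iff_not_dvd.2 hne).pow_left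
    rw [← hm, ← orderOf_dvd_iff_zpow_eq_one, ha]
    exact hco.dvd_of_dvd_mul_right hme
  have hco : IsCoprime ((r ^ a : ℕ) : ℤ) (∑ i ∈ Finset.range (2 ^ j), e ^ i) := by
    rw [Nat.cast_pow]
    refine ((Nat.prime_iff_prime_int.1 hr).coprime_iff_not_dvd.2 fun h => hr2 ?_).pow_left
    have hs : ((∑ i ∈ Finset.range (2 ^ j), e ^ i : ℤ) : ZMod r) = ((2 ^ j : ℕ) : ZMod r) := by
      have he1 : (e : ZMod r) = 1 := by
        rw [← sub_eq_zero, ← Int.cast_one, ← Int.cast_sub]
        exact (ZMod.intCast_zmod_eq_zero_iff_dvd _ _).2 h2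
      push_cast
      simp [he1]
    rw [(ZMod.intCast_zmod_eq_zero_iff_dvd _ _).2 h] at hs
    have h3 : r ∣ 2 ^ j := (ZMod.natCast_eq_zero_iff _ _).1 hs.symm
    exact (Nat.prime_dvd_prime_iff_eq hr Nat.prime_two).1 (hr.dvd_of_dvd_pow h3)
  rw [← geom_sum_mul] at h1
  have he1 : n * g * n⁻¹ = g := by
    have h4 : g ^ (e - 1) = 1 := by
      rw [← orderOf_dvd_iff_zpow_eq_one, ha]
      exact hco.dvd_of_dvd_mul_left h1
    rw [zpow_sub, zpow_one, he, mul_inv_eq_one] at h4
    exact h4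
  refine Subgroup.mem_centralizer_iff.2 fun w hw => ?_
  obtain ⟨i, rfl⟩ := hgen' w hw
  exact ((show Commute n g from mul_inv_eq_iff_eq_mul.1 he1).zpow_right i).eq.symm

theorem five_comm {M' : Type*} [Group M'] {R : Subgroup M'} [IsCyclic R] (a b : MulAut R) : a * b = b * a :=
  (IsCyclic.mulAutMulEquiv R).injective (a₁ := a * b) (a₂ := b * a) (by
    rw [map_mul (IsCyclic.mulAutMulEquiv R) a b, map_mul (IsCyclic.mulAutMulEquiv R) b a]
    exact mul_comm _ _)

theorem theta_eq_one_iff {R : Subgroup G} {v : G} (hv : v ∈ normalizer (R : Set G)) :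
    R.normalizerMonoidHom ⟨v, hv⟩ = 1 ↔ v ∈ centralizer (R : Set G) := by
  rw [← MonoidHom.mem_ker, Subgroup.normalizerMonoidHom_ker, Subgroup.mem_subgroupOf]

theorem no_complement (hperf : Group.IsPerfect G) (hnt : Nontrivial G) {p : ℕ} [hp : Fact p.Prime]
    (P : Sylow p G) (hP : p ∣ Nat.card ↥(P : Subgroup G))
    (h : normalizer ((P : Subgroup G) : Set G) ≤ centralizer ((P : Subgroup G) : Set G)) : False := by
  haveI := hperf
  let τ := MonoidHom.transferSylow P h
  have hc := MonoidHom.ker_transferSylow_isComplement' P h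
  haveI : IsMulCommutative ↥(P : Subgroup G) := ⟨⟨fun a b => Subtype.ext
    ((Subgroup.mem_centralizer_iff.1 (h (Subgroup.le_normalizer b.2)) a a.2))⟩⟩
  letI : CommGroup ↥(P : Subgroup G) :=
    { (inferInstance : Group ↥(P : Subgroup G)) with mul_comm := fun a b => mul_comm' a b }
  have htop : τ.ker = ⊤ := by
    rw [eq_top_iff, ← hperf.commutator_eq_top]
    exact Abelianization.commutator_subset_ker τ
  have hcard := hc.card_mul
  rw [show (MonoidHom.transferSylow P h).ker = ⊤ from htop, Subgroup.card_top] at hcard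
  have h1 : Nat.card ↥(P : Subgroup G) = 1 := by
    refine Nat.eq_of_mul_eq_mul_left (Nat.card_pos (α := G)) ?_
    rw [hcard, mul_one]
  rw [h1] at hP
  exact hp.out.ne_one (Nat.dvd_one.1 hP)

namespace Mod

variable {L : Loc G t} {F : Type} [Field F] [Fintype F] (M : Mod L F)
include M

/-- The order of the centraliser. -/
theorem card_C_five (h5 : Fintype.card F = 5) : Nat.card L.C = 240 * L.oOrd := by
  rw [M.card_C_eq, h5]; ring

/-- The normaliser of a Sylow 5-subgroup of `C` has order divisible by eight. -/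
theorem eight_dvd (h5 : Fintype.card F = 5) [Fact (Nat.Prime 5)] (W : Sylow 5 ↥L.C) :
    8 ∣ Nat.card (normalizer ((W : Subgroup ↥L.C) : Set ↥L.C)) := by
  classical
  haveI : Finite (Matrix.ProjGenLinGroup (Fin 2) F) := finite_pg
  have hPG : Nat.card (Matrix.ProjGenLinGroup (Fin 2) F) = 120 := by
    rw [Invol.Core2.RankTwo.card_pgl, h5]
  let P : Sylow 5 (Matrix.ProjGenLinGroup (Fin 2) F) := W.mapSurjective M.surj
  set N := normalizer ((W : Subgroup ↥L.C) : Set ↥L.C) with hN
  set f : N →* Matrix.ProjGenLinGroup (Fin 2) F := M.π.comp N.subtype with hf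
  -- the normaliser surjects onto the normaliser of the image
  have hle : normalizer ((P : Subgroup (Matrix.ProjGenLinGroup (Fin 2) F)) : Set (Matrix.ProjGenLinGroup (Fin 2) F)) ≤ f.range := by
    intro x hx
    obtain ⟨g, rfl⟩ := M.surj x
    set D : Subgroup ↥L.C := (P : Subgroup _).comap M.π with hD
    have hWD : (W : Subgroup ↥L.C) ≤ D := Subgroup.le_comap_map _ _
    have hgW : ((g • W : Sylow 5 ↥L.C) : Subgroup ↥L.C) ≤ D := by
      rw [Sylow.coe_subgroup_smul]
      rintro _ ⟨w, hw, rfl⟩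
      show M.π (g * w * g⁻¹) ∈ (P : Subgroup _)
      rw [map_mul, map_mul, map_inv]
      exact (Subgroup.mem_normalizer_iff.1 hx _).1 ⟨w, hw, rfl⟩
    obtain ⟨k, hk⟩ := MulAction.exists_smul_eq D ((g • W).subtype hgW) (W.subtype hWD)
    simp_rw [Sylow.smul_subtype, Subgroup.smul_def, smul_smul] at hk
    have hk' : ((k : ↥L.C) * g) • W = W := Sylow.subtype_injective hk
    have hkN : (k : ↥L.C) * g ∈ N := Sylow.smul_eq_iff_mem_normalizer.1 hk'
    have hPf : (P : Subgroup _) ≤ f.range := by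
      rintro _ ⟨w, hw, rfl⟩
      exact ⟨⟨w, Subgroup.le_normalizer hw⟩, rfl⟩
    have he : M.π g = (M.π (k : ↥L.C))⁻¹ * f ⟨_, hkN⟩ := by simp [hf]
    rw [he]
    exact mul_mem (inv_mem (hPf k.2)) ⟨_, rfl⟩
  have h4 : 4 ∣ Nat.card f.range := by
    refine dvd_trans ?_ (Subgroup.card_dvd_of_le hle)
    rw [Sylow.coe_coe]
    have h1 := (normalizer (P : Set (Matrix.ProjGenLinGroup (Fin 2) F))).card_mul_index
    rw [← Sylow.card_eq_index_normalizer, hPG] at h1
    have h2 := card_sylow_modEq_one 5 (Matrix.ProjGenLinGroup (Fin 2) F)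
    have h3 : Nat.card (Sylow 5 (Matrix.ProjGenLinGroup (Fin 2) F)) ∣ 120 := Dvd.intro_left _ h1
    have h24 : Nat.card (Sylow 5 (Matrix.ProjGenLinGroup (Fin 2) F)) ∣ 24 := by
      refine Nat.Coprime.dvd_of_dvd_mul_right ?_ (show _ ∣ 24 * 5 from h3)
      exact ((Nat.prime_five.coprime_iff_not_dvd).2 fun h => by
        rw [Nat.ModEq, Nat.mod_eq_zero_of_dvd h] at h2; omega).symm
    generalize Nat.card (Sylow 5 (Matrix.ProjGenLinGroup (Fin 2) F)) = m at h1 h2 h24
    have hm : m = 1 ∨ m = 6 := by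
      have hm' : m ∈ Nat.divisors 24 := Nat.mem_divisors.2 ⟨h24, by norm_num⟩
      revert h2
      unfold Nat.ModEq
      revert hm'
      revert m
      intro m _ _ hm' h2
      have : m ≤ 24 := Nat.le_of_dvd (by norm_num) (Nat.dvd_of_mem_divisors hm')
      have h24' := Nat.dvd_of_mem_divisors hm'
      interval_cases m <;> omega
    rcases hm with rfl | rfl <;> omega
  have h2 : 2 ∣ Nat.card f.ker := by
    have hzN : L.zC ∈ N := by
      refine Subgroup.centralizer_le_normalizer _ (Subgroup.mem_centralizer_iff.2 fun w _ => Subtype.ext ?_)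
      exact L.mem_C.1 w.2
    have hker : (⟨L.zC, hzN⟩ : N) ∈ f.ker := by
      rw [MonoidHom.mem_ker, hf, MonoidHom.comp_apply]
      exact M.π_z
    have h := Subgroup.orderOf_dvd_natCard _ hker
    rwa [Subgroup.orderOf_mk, ← Subgroup.orderOf_coe, show ((L.zC : ↥L.C) : G) = L.z from rfl, L.order_z] at h
  have h := f.ker.card_mul_index
  rw [Subgroup.index_ker] at h
  rw [← h]
  exact mul_dvd_mul h2 h4

theorem two_elt_of_ker {n : ↥L.C} {j : ℕ} (hj : n ^ 2 ^ j = 1) (h : M.π n = 1) :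
    (n : G) = 1 ∨ (n : G) = L.z := by
  have hj' : (n : G) ^ 2 ^ (j + 1) = 1 := by
    rw [pow_succ, pow_mul, ← SubmonoidClass.coe_pow, hj, OneMemClass.coe_one, one_pow]
  rcases M.π_eq_one h with e | e
  · exact Or.inl (eq_one_of_odd_of_pow e hj')
  · refine Or.inr ?_
    have e1 : L.z * (n : G) = 1 := eq_one_of_odd_of_pow e (j := j + 1) (by
      rw [(show Commute L.z (n : G) from (L.mem_C.1 n.2).symm).mul_pow, hj', mul_one, pow_succ', pow_mul,
        pow_two, L.z_sq, one_pow])
    rw [← inv_eq_of_mul_eq_one_right e1, inv_eq_of_mul_eq_one_right L.z_sq]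

/-- In the surviving configuration the core of the centraliser is trivial. -/
theorem core_trivial (IH : SmallerLinear G) (h2 : TwoCyclic G) (hcore : Cfsg.oddCore G = ⊥) (hnt : Nontrivial G)
    (h5 : Fintype.card F = 5) (hN : Nat.card G * L.c ^ 2 = 85680 * L.oOrd ^ 2 * L.kk) : L.oOrd = 1 := by
  classical
  haveI : Fact (Nat.Prime 2) := ⟨Nat.prime_two⟩
  haveI : Finite (Matrix.ProjGenLinGroup (Fin 2) F) := finite_pg
  by_contra ho1
  set r := L.oOrd.minFac with hrdef
  have hr : r.Prime := Nat.minFac_prime ho1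
  haveI : Fact r.Prime := ⟨hr⟩
  have hro : r ∣ L.oOrd := Nat.minFac_dvd _
  have hr2 : r ≠ 2 := fun e => by
    have := Odd.of_dvd_nat L.oOrd_odd (e ▸ hro)
    exact absurd this (by decide)
  -- valuations
  have hc0 : L.c ≠ 0 := L.c_pos.ne'
  have hcle : padicValNat r L.c ≤ padicValNat r L.oOrd :=
    (padicValNat_dvd_iff_le L.oOrd_pos.ne').1 (pow_padicValNat_dvd.trans M.c_dvd_o)
  have hckk : padicValNat r L.c ≤ padicValNat r L.kk :=
    (padicValNat_dvd_iff_le L.kk_pos.ne').1 (pow_padicValNat_dvd.trans M.c_dvd_kk)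
  have hvG : padicValNat r (Nat.card G) = padicValNat r 240 + padicValNat r L.oOrd := by
    rw [M.val_eq IH h2 hcore hnt hr hr2 (Or.inr (Or.inr hro)), M.card_C_five h5,
      padicValNat.mul (by norm_num) L.oOrd_pos.ne']
  have hv : padicValNat r L.c = padicValNat r L.oOrd := by
    have h := congrArg (padicValNat r) hN
    rw [padicValNat.mul Nat.card_pos.ne' (pow_ne_zero 2 hc0), padicValNat.pow _ 2,
      padicValNat.mul (mul_ne_zero (by norm_num) (pow_ne_zero 2 L.oOrd_pos.ne')) L.kk_pos.ne',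
      padicValNat.mul (by norm_num) (pow_ne_zero 2 L.oOrd_pos.ne'), padicValNat.pow _ 2, hvG,
      show (85680 : ℕ) = 240 * 357 by norm_num, padicValNat.mul (by norm_num) (by norm_num)] at h
    omega
  obtain ⟨R, hR, hRbot, hNR, hSR, hyR, hrsR⟩ := L.exists_core_sylow IH h2 hcore hr hro
  haveI : IsCyclic R := L.hodd.isCyclic_of_isPGroup hr hr2 hR.2.1
  have hRC : R ≤ L.C := hR.1.trans L.Oc_le_C
  set N := normalizer (R : Set G) with hNdef
  let θ := R.normalizerMonoidHom
  have hsN : L.s ∈ N := hSR L.sd.smem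
  -- the reflection centralises a Sylow subgroup of the core
  set D := L.K ⊓ centralizer ({L.s} : Set G) with hD
  obtain ⟨V, hV⟩ := Grp.exists_isSylowIn r D
  have hDO : D ≤ L.Oc := M.c_le.trans inf_le_right
  have hVO : Grp.IsSylowIn r V L.Oc := by
    refine ⟨hV.1.trans hDO, hV.2.1, fun hdvd => ?_⟩
    have h1 := Subgroup.relIndex_mul_relIndex ⊥ V D bot_le hV.1
    have h3 := Subgroup.relIndex_mul_relIndex ⊥ V L.Oc bot_le (hV.1.trans hDO)
    simp only [Subgroup.relIndex_bot_left] at h1 h3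
    rw [show Nat.card D = L.c from rfl] at h1
    rw [L.card_Oc] at h3
    have hi : V.relIndex D ≠ 0 := fun e => by rw [e, mul_zero] at h1; exact hc0 h1.symm
    have hj : V.relIndex L.Oc ≠ 0 := fun e => by rw [e, mul_zero] at h3; exact L.oOrd_pos.ne h3
    have e1 := congrArg (padicValNat r) h1
    have e3 := congrArg (padicValNat r) h3
    rw [padicValNat.mul Nat.card_pos.ne' hi, padicValNat.eq_zero_of_not_dvd hV.2.2] at e1
    rw [padicValNat.mul Nat.card_pos.ne' hj] at e3
    have := one_le_padicValNat_of_dvd hj hdvd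
    omega
  obtain ⟨k, hk, hkR⟩ := hR.conj hVO
  have hθs : θ ⟨L.s, hsN⟩ = 1 := by
    set s' := k⁻¹ * L.s * k with hs'
    have hs'C : s' ∈ centralizer (R : Set G) := by
      refine Subgroup.mem_centralizer_iff.2 fun w hw => ?_
      have hw' : k * w * k⁻¹ ∈ D := hV.1 (hkR ▸ Subgroup.smul_mem_pointwise_smul w (MulAut.conj k) R hw)
      have h1 := mem_centralizer_singleton_iff.1 hw'.2
      calc w * s' = k⁻¹ * (k * w * k⁻¹ * L.s) * k := by rw [hs']; group
        _ = k⁻¹ * (L.s * (k * w * k⁻¹)) * k := by rw [h1]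
        _ = s' * w := by rw [hs']; group
    have hs'N : s' ∈ N := Subgroup.centralizer_le_normalizer _ hs'C
    set c := L.s⁻¹ * s' with hc
    have hcO : c ∈ L.Oc := by
      rw [hc, hs', ← mul_assoc, ← mul_assoc]
      refine mul_mem ?_ hk
      have := (Subgroup.mem_normalizer_iff.1 (inv_mem (L.C_le_normalizer_Oc L.s_mem_C)) k⁻¹).1 (inv_mem hk)
      rwa [inv_inv] at this
    have hcN : c ∈ N := mul_mem (inv_mem hsN) hs'N
    have h1 : θ ⟨L.s, hsN⟩ = θ ⟨c, hcN⟩⁻¹ := by
      have e := (theta_eq_one_iff hs'N).2 hs'C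
      rw [show (⟨s', hs'N⟩ : N) = ⟨L.s, hsN⟩ * ⟨c, hcN⟩ from Subtype.ext (mul_inv_cancel_left _ _).symm,
        map_mul] at e
      rw [eq_inv_iff_mul_eq_one.2 e, map_inv]
    refine eq_one_of_odd_of_pow (j := 1) ?_ ?_
    · rw [h1, map_inv, orderOf_inv]
      refine Odd.of_dvd_nat (L.odd_of_mem_Oc hcO) ((orderOf_map_dvd θ _).trans ?_)
      rw [Subgroup.orderOf_mk]
    · rw [← map_pow, show (⟨L.s, hsN⟩ : N) ^ 2 ^ 1 = 1 from Subtype.ext (by
        rw [pow_one, SubmonoidClass.coe_pow, pow_two, L.sd.s_sq]; rfl), map_one]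
  have hsR : L.s ∈ centralizer (R : Set G) := (theta_eq_one_iff hsN).1 hθs
  have hrR : L.r ∈ centralizer (R : Set G) := by
    have := mul_mem hrsR (inv_mem hsR)
    rwa [mul_inv_cancel_right] at this
  have hScent : (L.S : Subgroup G) ≤ centralizer (R : Set G) := fun w hw => by
    by_cases hwr : w ∈ zpowers L.r
    · exact (zpowers_le.2 hrR) hwr
    · obtain ⟨i, -, rfl⟩ := L.sd.exists_rep hw hwr
      exact mul_mem (pow_mem hrR i) hsR
  -- all the 2-elements of the normaliser centralise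
  have htwo : ∀ n : G, n ∈ N → n ∈ L.C → ∀ j : ℕ, n ^ 2 ^ j = 1 → n ∈ centralizer (R : Set G) := by
    intro n hn hnC j hj
    obtain ⟨i, -, hi⟩ := (Nat.dvd_prime_pow Nat.prime_two).1 (orderOf_dvd_of_pow_eq_one hj)
    obtain ⟨c, hc, hcS⟩ := Invol.exists_conj_into_sylow (S := L.S) (le_inf hSR L.S_le_C)
      (zpowers_le.2 (show n ∈ N ⊓ L.C from ⟨hn, hnC⟩)) (IsPGroup.of_card (n := i) (by rw [Nat.card_zpowers, hi]))
    have h1 := hScent (hcS n (mem_zpowers n))
    refine (theta_eq_one_iff hn).1 ?_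
    have h3 := (theta_eq_one_iff (mul_mem (mul_mem hc.1 hn) (inv_mem hc.1))).2 h1
    rw [show (⟨c * n * c⁻¹, _⟩ : N) = ⟨c, hc.1⟩ * ⟨n, hn⟩ * ⟨c, hc.1⟩⁻¹ from rfl, map_mul, map_mul, map_inv] at h3
    exact conj_eq_one_iff.1 h3
  obtain ⟨W, hW⟩ := hR.2.1.exists_le_sylow
  have hWR : (W : Subgroup G) ≤ centralizer (R : Set G) := M.sylow_cyclic_le L.hodd hr2 hW
  have hWC : (W : Subgroup G) ≤ L.C := hWR.trans ((Subgroup.centralizer_le_normalizer _).trans hNR)
  have hWcard : Nat.card ↥(W : Subgroup G) = r ^ (padicValNat r 240 + padicValNat r L.oOrd) := by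
    rw [Sylow.card_eq_multiplicity W, Nat.factorization_def _ hr, hvG]
  have hRcard : Nat.card R = r ^ padicValNat r L.oOrd := by
    have h3 := Subgroup.relIndex_mul_relIndex ⊥ R L.Oc bot_le hR.1
    simp only [Subgroup.relIndex_bot_left] at h3
    rw [L.card_Oc] at h3
    obtain ⟨a, ha⟩ := IsPGroup.iff_card.1 hR.2.1
    rw [ha]
    congr 1
    rw [← h3, ha, padicValNat.mul (pow_ne_zero a hr.ne_zero)
      (fun e => by rw [e, mul_zero] at h3; exact L.oOrd_pos.ne h3), padicValNat.prime_pow,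
      padicValNat.eq_zero_of_not_dvd hR.2.2, add_zero]
  by_cases hr5 : r = 5
  · -- the prime five
    haveI := L.hodd r hr hr2 W
    have h5v : 1 ≤ padicValNat r 240 := one_le_padicValNat_of_dvd (by norm_num) (by rw [hr5]; norm_num)
    haveI : Fact (Nat.Prime 5) := ⟨Nat.prime_five⟩
    obtain ⟨WC, hWC'⟩ : ∃ WC : Sylow 5 ↥L.C, (WC : Subgroup ↥L.C) = (W : Subgroup G).subgroupOf L.C := by
      clear_value r
      subst hr5
      exact ⟨W.subtype hWC, rfl⟩
    have h8 := M.eight_dvd h5 WC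
    set NC := normalizer ((WC : Subgroup ↥L.C) : Set ↥L.C) with hNC
    obtain ⟨Q⟩ : Nonempty (Sylow 2 ↥NC) := inferInstance
    have hQ8 : 2 ^ 3 ∣ Nat.card ↥(Q : Subgroup ↥NC) := Q.pow_dvd_card_of_pow_dvd_card h8
    have hex : ∃ v : ↥(Q : Subgroup ↥NC), M.π ((v : ↥NC) : ↥L.C) ≠ 1 := by
      by_contra hno
      push Not at hno
      have hle : Nat.card ↥(Q : Subgroup ↥NC) ≤ ({1, L.z} : Finset G).card := by
        rw [Nat.card_eq_fintype_card, ← Finset.card_univ]
        refine Finset.card_le_card_of_injOn (fun v => (((v : ↥NC) : ↥L.C) : G)) (fun v _ => ?_)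
          fun a _ b _ e => Subtype.ext (Subtype.ext (Subtype.ext e))
        obtain ⟨j, hj⟩ := Q.isPGroup' v
        have := M.two_elt_of_ker (n := ((v : ↥NC) : ↥L.C)) (j := j) (by
          rw [← SubmonoidClass.coe_pow, ← SubmonoidClass.coe_pow, hj]; rfl) (hno v)
        simpa using this
      have h2' : ({1, L.z} : Finset G).card ≤ 2 := Finset.card_le_two
      have := Nat.le_of_dvd Nat.card_pos hQ8
      omega
    obtain ⟨v, hv⟩ := hex
    set nC : ↥L.C := ((v : ↥NC) : ↥L.C) with hnC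
    obtain ⟨j, hj⟩ := Q.isPGroup' v
    have hnj : (nC : G) ^ 2 ^ j = 1 := by
      have := congrArg (fun w : ↥(Q : Subgroup ↥NC) => (((w : ↥NC) : ↥L.C) : G)) hj
      simpa [hnC] using this
    have hnW : (nC : G) ∈ normalizer ((W : Subgroup G) : Set G) := by
      refine Subgroup.mem_normalizer_fintype fun w hw => ?_
      have h1 : (⟨w, hWC hw⟩ : ↥L.C) ∈ (WC : Subgroup ↥L.C) := by rw [hWC']; exact hw
      have h3 := (Subgroup.mem_normalizer_iff.1 (v : ↥NC).2 _).1 h1
      rw [hWC'] at h3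
      exact h3
    have hnN : (nC : G) ∈ N := by
      refine Subgroup.mem_normalizer_fintype fun w hw => ?_
      obtain ⟨⟨g0, hg0⟩, hgen0⟩ := IsCyclic.exists_generator (α := R)
      have hle : zpowers g0 ≤ R := zpowers_le.2 hg0
      obtain ⟨i, hi⟩ := mem_zpowers_iff.1 (hgen0 ⟨w, hw⟩)
      have hi' : g0 ^ i = w := by simpa using congrArg Subtype.val hi
      rw [← hi', ← conj_zpow]
      refine zpow_mem (hle (mem_zpowers_of_orderOf_dvd ((Subgroup.mem_normalizer_iff.1 hnW g0).1 (hW hg0)) (hW hg0) ?_)) i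
      rw [← MulAut.conj_apply, MulEquiv.orderOf_eq]
    have hnR := htwo _ hnN nC.2 j hnj
    obtain ⟨ω, hω, hω1⟩ := R.ne_bot_iff_exists_ne_one.1 hRbot |>.elim fun x hx =>
      (⟨x.1, x.2, fun e => hx (Subtype.ext e)⟩ : ∃ ω ∈ R, ω ≠ 1)
    have hnc := two_fix_cyclic hr hr2 W.isPGroup' hnW hnj (hW hω) hω1
      (mul_inv_eq_iff_eq_mul.2 (Subgroup.mem_centralizer_iff.1 hnR ω hω).symm)
    -- an element of `W` outside the kernel
    obtain ⟨u, hu, hπu⟩ : ∃ u : ↥L.C, (u : G) ∈ (W : Subgroup G) ∧ M.π u ≠ 1 := by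
      by_contra hno
      push Not at hno
      have hle : (W : Subgroup G) ≤ L.Oc := fun w hw => M.mem_Oc_of_π (hWC hw) (by
        obtain ⟨a, ha⟩ := IsPGroup.iff_orderOf.1 W.isPGroup' ⟨w, hw⟩
        rw [Subgroup.orderOf_mk] at ha
        rw [ha]; exact (hr.odd_of_ne_two hr2).pow) (hno ⟨w, hWC hw⟩ hw)
      have h := Subgroup.card_dvd_of_le hle
      rw [hWcard, L.card_Oc] at h
      exact pow_succ_padicValNat_not_dvd L.oOrd_pos.ne' ((pow_dvd_pow r (by omega)).trans h)
    obtain ⟨a, ha⟩ := IsPGroup.iff_orderOf.1 W.isPGroup' ⟨(u : G), hu⟩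
    rw [Subgroup.orderOf_mk, Subgroup.orderOf_coe] at ha
    obtain ⟨b, -, hb⟩ := (Nat.dvd_prime_pow hr).1 (ha ▸ orderOf_map_dvd M.π u)
    have hPG : Nat.card (Matrix.ProjGenLinGroup (Fin 2) F) = 120 := by
      rw [Invol.Core2.RankTwo.card_pgl, h5]
    have hb1 : b = 1 := by
      rcases b with _ | _ | b
      · rw [pow_zero, orderOf_eq_one_iff] at hb; exact absurd hb hπu
      · rfl
      · exfalso
        have h := hb ▸ orderOf_dvd_natCard (M.π u)
        rw [hPG, hr5] at h
        have h25 : 5 ^ 2 ∣ 120 := (pow_dvd_pow 5 (by omega)).trans h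
        norm_num at h25
    rw [hb1, pow_one, hr5, ← h5] at hb
    have hfix := M.fix_one_of_order hb
    rw [M.fix_def u.2] at hfix
    have hu2 : M.π u * M.π u ≠ 1 := fun e => by
      have := orderOf_dvd_of_pow_eq_one (show M.π u ^ 2 = 1 by rw [pow_two, e])
      rw [hb, h5] at this
      norm_num at this
    have hcm : M.π u * M.π nC = M.π nC * M.π u := by
      rw [← map_mul, ← map_mul]
      exact congrArg M.π (Subtype.ext (Subgroup.mem_centralizer_iff.1 hnc u hu))
    have heq := fixCount_eq_of_commute M.two_ne hcm hv hu2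
    obtain ⟨i, -, hi⟩ := (Nat.dvd_prime_pow Nat.prime_two).1
      (orderOf_dvd_of_pow_eq_one (show M.π nC ^ 2 ^ j = 1 by
        rw [← map_pow, show nC ^ 2 ^ j = 1 from Subtype.ext (by rw [SubmonoidClass.coe_pow, hnj]; rfl), map_one]))
    have hmod := fixCount_modEq hi
    rw [← heq, hfix, h5] at hmod
    exact absurd hmod (by decide)
  · -- the other primes: Burnside
    have h240 : padicValNat r 240 = 0 := by
      refine padicValNat.eq_zero_of_not_dvd fun h => ?_
      rcases (Nat.Prime.dvd_mul hr).1 (show r ∣ 16 * 15 from h) with h | h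
      · exact hr2 ((Nat.prime_dvd_prime_iff_eq hr Nat.prime_two).1 (hr.dvd_of_dvd_pow (show r ∣ 2 ^ 4 from h)))
      · rcases (Nat.Prime.dvd_mul hr).1 (show r ∣ 3 * 5 from h) with h | h
        · have hr3 := (Nat.prime_dvd_prime_iff_eq hr Nat.prime_three).1 h
          have := congrArg (padicValNat r) hN
          rw [padicValNat.mul Nat.card_pos.ne' (pow_ne_zero 2 hc0), padicValNat.pow _ 2,
            padicValNat.mul (mul_ne_zero (by norm_num) (pow_ne_zero 2 L.oOrd_pos.ne')) L.kk_pos.ne',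
            padicValNat.mul (by norm_num) (pow_ne_zero 2 L.oOrd_pos.ne'), padicValNat.pow _ 2, hvG,
            show (85680 : ℕ) = 240 * 357 by norm_num, padicValNat.mul (by norm_num) (by norm_num)] at this
          have h357 : 1 ≤ padicValNat r 357 := one_le_padicValNat_of_dvd (by norm_num) (by rw [hr3]; norm_num)
          omega
        · exact hr5 ((Nat.prime_dvd_prime_iff_eq hr Nat.prime_five).1 h)
    rw [h240, zero_add] at hWcard
    have hWR' : R = (W : Subgroup G) := Subgroup.eq_of_le_of_card_ge hW (by rw [hWcard, hRcard])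
    have hθ : ∀ n : ↥N, θ n = 1 := by
      -- the automiser has no prime factor below the smallest
      have he : ∀ n : ↥N, Odd (orderOf (θ n)) → orderOf (θ n) ∣ L.oOrd → θ n = 1 := by
        intro n _ hno
        by_contra hne
        have hne' : orderOf (θ n) ≠ 1 := fun e => hne (orderOf_eq_one_iff.1 e)
        set l := (orderOf (θ n)).minFac with hl
        have hlp : l.Prime := Nat.minFac_prime hne'
        have hlo : l ∣ L.oOrd := (Nat.minFac_dvd _).trans hno
        have hrl : r ≤ l := Nat.minFac_le_of_dvd hlp.two_le hlo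
        have hrange : orderOf (θ n) ∣ Nat.card θ.range :=
          Subgroup.orderOf_dvd_natCard _ ⟨n, rfl⟩
        have h1 : l ∣ Nat.card θ.range := (Nat.minFac_dvd _).trans hrange
        have h2' : Nat.card θ.range ∣ Nat.card (MulAut R) := Subgroup.card_subgroup_dvd_card _
        rw [IsCyclic.card_mulAut, hRcard] at h2'
        have hpos : 0 < padicValNat r L.oOrd := one_le_padicValNat_of_dvd L.oOrd_pos.ne' hro
        rw [Nat.totient_prime_pow hr hpos] at h2'
        rcases (Nat.Prime.dvd_mul hlp).1 (h1.trans h2') with h | h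
        · have hlr := (Nat.prime_dvd_prime_iff_eq hlp hr).1 (hlp.dvd_of_dvd_pow h)
          rw [hlr] at h1
          -- `R` is a full Sylow subgroup inside the kernel
          have hk := θ.ker.card_mul_index
          rw [Subgroup.index_ker] at hk
          have hWk : r ^ padicValNat r L.oOrd ∣ Nat.card θ.ker := by
            rw [← hRcard]
            refine dvd_trans ?_ (Subgroup.card_dvd_of_le (?_ : R.subgroupOf N ≤ θ.ker))
            swap
            · intro w hw
              obtain ⟨w, hwN⟩ := w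
              exact MonoidHom.mem_ker.2 ((theta_eq_one_iff hwN).2
                (hWR (hW hw)))
            · rw [Nat.card_congr (Subgroup.subgroupOfEquivOfLe Subgroup.le_normalizer).toEquiv]
          have h3 : r ^ (padicValNat r L.oOrd + 1) ∣ Nat.card G := by
            rw [pow_succ]
            exact (mul_dvd_mul hWk h1).trans (hk ▸ Subgroup.card_subgroup_dvd_card N)
          have h4 := (padicValNat_dvd_iff_le Nat.card_pos.ne').1 h3
          rw [hvG, h240] at h4
          omega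
        · have h2r := hr.two_le
          have := Nat.le_of_dvd (by omega) h
          omega
      have htwoθ : ∀ (n : ↥N) (j : ℕ), n ^ 2 ^ j = 1 → θ n = 1 := fun n j hj =>
        (theta_eq_one_iff n.2).2 (htwo n n.2 (hNR n.2) j (by rw [← SubmonoidClass.coe_pow, hj]; rfl))
      let p : ↥N →* Matrix.ProjGenLinGroup (Fin 2) F := M.π.comp (Subgroup.inclusion hNR)
      have hpsurj : Function.Surjective p := by
        intro x
        obtain ⟨g, rfl⟩ := M.surj x
        obtain ⟨k, hk, hkR⟩ := (hR.smul (g := (g : G))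
          (Grp.mem_normalizer_iff_smul.1 (L.C_le_normalizer_Oc g.2))).conj hR
        have hkg : k * g ∈ N := Grp.mem_normalizer_iff_smul.2 (by rw [map_mul, mul_smul, hkR])
        refine ⟨⟨_, hkg⟩, ?_⟩
        show M.π ⟨k * g, _⟩ = M.π g
        rw [show (⟨k * g, hNR hkg⟩ : ↥L.C) = ⟨k, L.Oc_le_C hk⟩ * g from rfl, map_mul,
          M.π_eq_one_of_mem_Oc hk, one_mul]
      have hker : p.ker ≤ θ.ker := by
        intro n hn
        rw [MonoidHom.mem_ker] at hn ⊢
        have hodd : ∀ m : ↥N, (m : G) ∈ L.Oc → θ m = 1 := fun m hm => by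
          have hd : orderOf (θ m) ∣ L.oOrd := (orderOf_map_dvd θ m).trans (by
            rw [← Subgroup.orderOf_coe, ← L.card_Oc]; exact Subgroup.orderOf_dvd_natCard _ hm)
          exact he m (Odd.of_dvd_nat L.oOrd_odd hd) hd
        rcases (M.ker _).1 hn with e | e
        · exact hodd n ((L.mem_Oc (hNR n.2)).2 e)
        · have hzN : L.z ∈ N := hSR L.z_mem_S
          have hz1 : θ ⟨L.z, hzN⟩ = 1 := htwoθ _ 1 (Subtype.ext (by
            rw [pow_one, SubmonoidClass.coe_pow, pow_two, L.z_sq]; rfl))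
          have := hodd (⟨L.z, hzN⟩ * n) ((L.mem_Oc _).2 e)
          rwa [map_mul, hz1, one_mul] at this
      let e := (IsCyclic.mulAutMulEquiv R).toMonoidHom
      let Θ : Matrix.ProjGenLinGroup (Fin 2) F →* (ZMod (Nat.card R))ˣ :=
        p.liftOfSurjective hpsurj ⟨e.comp θ, fun n hn => by
          rw [MonoidHom.mem_ker, MonoidHom.comp_apply, MonoidHom.mem_ker.1 (hker hn), map_one]⟩
      have hΘ : ∀ n, Θ (p n) = e (θ n) := fun n =>
        MonoidHom.liftOfRightInverse_comp_apply p _ (Function.rightInverse_surjInv hpsurj) _ n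
      have hpsl : ∀ x ∈ (Matrix.ProjectiveSpecialLinearGroup.toPGL (n := Fin 2) (R := F)).range, Θ x = 1 := by
        rintro _ ⟨y, rfl⟩
        have hy : y ∈ _root_.commutator (Matrix.ProjectiveSpecialLinearGroup (Fin 2) F) := by
          rw [GW.psl_commutator_top (by omega)]; exact mem_top y
        exact Abelianization.commutator_subset_ker (Θ.comp Matrix.ProjectiveSpecialLinearGroup.toPGL) hy
      intro n
      have hsq : θ n * θ n = 1 := by
        have h1 := hpsl (p n * p n) (Subgroup.mul_self_mem_of_index_two (Invol.Core2.RankTwo.index_range_toPGL M.hq) _)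
        rw [map_mul, hΘ, ← map_mul] at h1
        exact (map_eq_one_iff e (IsCyclic.mulAutMulEquiv R).injective).1 h1
      obtain ⟨a, b, hab, hcomm, ⟨j, hj⟩, hb, -, -⟩ := Block.exists_pPart_zpowers (p := 2) n
      have ha1 : θ a = 1 := htwoθ a j (by rw [← hj, pow_orderOf_eq_one])
      have hbo : Odd (orderOf b) := Nat.odd_iff.2 (Nat.two_dvd_ne_zero.1 hb)
      rw [← hab, map_mul, ha1, one_mul] at hsq ⊢
      exact eq_one_of_odd_of_pow (Odd.of_dvd_nat hbo (orderOf_map_dvd θ b)) (j := 1)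
        (by rw [pow_one, pow_two, hsq])
    have hB : normalizer ((W : Subgroup G) : Set G) ≤ centralizer ((W : Subgroup G) : Set G) := by
      rw [← hWR']
      intro n hn
      exact (theta_eq_one_iff hn).1 (hθ ⟨n, hn⟩)
    exact no_complement L.perfect hnt W (by
      rw [hWcard]
      exact dvd_pow_self r (one_le_padicValNat_of_dvd L.oOrd_pos.ne' hro |>.trans_lt' zero_lt_one).ne') hB

end Mod

end Cfsg.Agent.Invol.AlmostCyclic
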