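import Cfsg.Agent.Lib.Invol.AlmostCyclic.Moments
import Cfsg.Agent.Lib.Invol.GW.Consumers.PGLInvolution

/-!
# The numerical frame of the involution centraliser (for S4069)
-/

set_option autoImplicit false

namespace Cfsg.Agent.Invol.AlmostCyclic

open Subgroup

universe u

section Orbits

variable {F : Type} [Field F] [Fintype F]

local notation "Line" => Projectivization F (Fin 2 → F)
local notation "PG" => Matrix.ProjGenLinGroup (Fin 2) F

/-- A subgroup whose nontrivial elements fix `e` lines has order dividing `q + 1 - e`. -/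
theorem card_dvd_of_fix (H : Subgroup PG) (e : ℕ) (h : ∀ x ∈ H, x ≠ 1 → fixCount x = e) :
    (Nat.card H : ℤ) ∣ (Fintype.card F : ℤ) + 1 - e := by
  classical
  haveI : Finite PG := finite_pg
  haveI : Fintype ↥H := Fintype.ofFinite _
  haveI : Finite Line := Nat.finite_of_card_ne_zero (by rw [card_line]; omega)
  haveI : Fintype Line := Fintype.ofFinite _
  have hb := MulAction.sum_card_fixedBy_eq_card_orbits_mul_card_group ↥H Line
  have hs : ∀ x : ↥H, Fintype.card (MulAction.fixedBy Line x) = fixCount (x : PG) := fun x => by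
    rw [← Nat.card_eq_fintype_card]; rfl
  simp only [hs] at hb
  rw [← Finset.add_sum_erase _ _ (Finset.mem_univ (1 : ↥H)), OneMemClass.coe_one, fixCount_one,
    Finset.sum_congr rfl (g := fun _ => e) fun (x : ↥H) hx => h x x.2 fun e' =>
      (Finset.mem_erase.1 hx).1 (Subtype.ext e'), Finset.sum_const, smul_eq_mul,
    Finset.card_erase_of_mem (Finset.mem_univ _), Finset.card_univ] at hb
  refine ⟨(Fintype.card (MulAction.orbitRel.Quotient ↥H Line) : ℤ) - e, ?_⟩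
  have h1 : 1 ≤ Fintype.card ↥H := Fintype.card_pos
  have hb' : (Fintype.card F : ℤ) + 1 + ((Fintype.card ↥H : ℤ) - 1) * e =
      (Fintype.card (MulAction.orbitRel.Quotient ↥H Line) : ℤ) * Fintype.card ↥H := by
    have := congrArg (fun n : ℕ => (n : ℤ)) hb
    push_cast [Nat.cast_sub h1] at this
    exact this
  rw [Nat.card_eq_fintype_card]
  linear_combination hb'

end Orbits

variable {G : Type u} [Group G] [Fintype G] {t : ℕ}

namespace Loc

variable (L : Loc G t)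
include L

/-- The odd core of the involution centraliser. -/
def Oc : Subgroup G := (Cfsg.oddCore ↥L.C).map L.C.subtype

theorem card_Oc : Nat.card L.Oc = L.oOrd := by
  rw [Oc, Subgroup.card_subtype]; rfl

theorem mem_Oc {g : G} (hg : g ∈ L.C) : g ∈ L.Oc ↔ (⟨g, hg⟩ : ↥L.C) ∈ Cfsg.oddCore ↥L.C := by
  rw [Oc, Subgroup.mem_map]
  exact ⟨fun ⟨x, hx, e⟩ => by rwa [← Subtype.ext (e : (x : G) = g) (a2 := ⟨g, hg⟩)], fun h => ⟨_, h, rfl⟩⟩

theorem odd_of_mem_Oc {g : G} (hg : g ∈ L.Oc) : Odd (orderOf g) :=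
  Odd.of_dvd_nat (L.card_Oc ▸ L.oOrd_odd) (Subgroup.orderOf_dvd_natCard _ hg)

/-- The order of the part of `K` in the core. -/
noncomputable def kk : ℕ := Nat.card ↥(L.K ⊓ L.Oc)

theorem kk_pos : 0 < L.kk := Nat.card_pos

theorem kk_dvd : L.kk ∣ Nat.card L.K := Subgroup.card_dvd_of_le inf_le_left

theorem kk_odd : Odd L.kk := Odd.of_dvd_nat L.odd_card_K L.kk_dvd

/-- The odd part of the image of `A`. -/
noncomputable def tau' : ℕ := Nat.card L.K / L.kk

theorem card_K : Nat.card L.K = L.kk * L.tau' := (Nat.mul_div_cancel' L.kk_dvd).symm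

theorem tau'_odd : Odd L.tau' := Odd.of_dvd_nat L.odd_card_K (L.card_K ▸ dvd_mul_left _ _)

theorem card_A : Nat.card L.A = 2 ^ (t + 1) * Nat.card L.K := by
  classical
  rw [← card_elts, Finset.card_eq_sum_card_fiberwise (s := elts L.A) (f := L.rot) (t := Finset.univ)
    (fun _ _ => Finset.mem_univ _), Finset.sum_congr rfl fun i _ => ?_, Finset.sum_const, Finset.card_univ,
    ZMod.card, smul_eq_mul]
  have h' := L.decomp_sum (fun _ => 1) i
  rw [Finset.sum_const, Finset.sum_const, smul_eq_mul, smul_eq_mul, mul_one, mul_one, card_elts] at h'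
  exact h'.symm

end Loc

namespace Mod

variable {L : Loc G t} {F : Type} [Field F] [Fintype F] (M : Mod L F)
include M

local notation "PG" => Matrix.ProjGenLinGroup (Fin 2) F
local notation "q" => Fintype.card F

theorem sum_parts_int (j : ℕ) (cj : ℕ) (hj : ∀ [Fintype PG], ∑ x : PG, fixCount x ^ j = cj * Nat.card PG) :
    8 * 2 ^ t * ((∑ k ∈ regElts L.C, M.fix k ^ j : ℕ) : ℤ) =
      (Nat.card L.C : ℤ) * (4 * 2 ^ t * cj - 2 ^ t * (M.ε' : ℤ) ^ j - 2 * (2 ^ t - 1) * (M.ε : ℤ) ^ j) := by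
  haveI : Finite PG := finite_pg
  haveI : Fintype PG := Fintype.ofFinite _
  have h := M.sum_parts j
  rw [M.sum_fix_C, hj, mul_left_comm, ← M.card_C] at h
  have hR := L.card_rotPart
  have hS := L.card_reflPart
  have h1 : 1 ≤ 2 ^ t := Nat.one_le_two_pow
  have h' := congrArg (fun n : ℕ => (n : ℤ)) h
  have hR' := congrArg (fun n : ℕ => (n : ℤ)) hR
  have hS' := congrArg (fun n : ℕ => (n : ℤ)) hS
  push_cast [Nat.cast_sub h1, pow_succ] at h' hR' hS'
  push_cast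
  linear_combination (4 * 2 ^ t : ℤ) * h' - (2 ^ t * (M.ε' : ℤ) ^ j) * hS' - 2 * (M.ε : ℤ) ^ j * hR'

theorem X0 : 8 * 2 ^ t * ((regElts L.C).card : ℤ) = (2 ^ t + 2) * (Nat.card L.C : ℤ) := by
  have h := M.sum_parts_int 0 1 (fun {_} => by
    simp [Finset.card_univ, Nat.card_eq_fintype_card])
  simp only [pow_zero, Finset.sum_const, smul_eq_mul, mul_one] at h
  push_cast at h
  linear_combination h

theorem X1 : 8 * 2 ^ t * (∑ k ∈ regElts L.C, (M.fix k : ℤ)) =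
    (Nat.card L.C : ℤ) * (4 * 2 ^ t - 2 ^ t * (M.ε' : ℤ) - 2 * (2 ^ t - 1) * (M.ε : ℤ)) := by
  have h := M.sum_parts_int 1 1 (fun {_} => by simp only [pow_one, sum_fixCount, one_mul])
  simp only [pow_one] at h
  push_cast at h
  linear_combination h

theorem X2 : 8 * 2 ^ t * (∑ k ∈ regElts L.C, (M.fix k : ℤ) ^ 2) =
    (Nat.card L.C : ℤ) * (8 * 2 ^ t - 2 ^ t * (M.ε' : ℤ) ^ 2 - 2 * (2 ^ t - 1) * (M.ε : ℤ) ^ 2) := by
  have h := M.sum_parts_int 2 2 (fun {_} => by simp only [pow_two, sum_fixCount_sq])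
  push_cast at h
  linear_combination h

/-- The two kinds of involutions of the model. -/
theorem eps : (M.ε = 0 ∧ M.ε' = 2) ∨ (M.ε = 2 ∧ M.ε' = 0) := by
  have hC : (0 : ℤ) < Nat.card L.C := by exact_mod_cast Nat.card_pos
  have ht4 : (4 : ℤ) ≤ 2 ^ t := by
    calc (4 : ℤ) = 2 ^ 2 := by norm_num
      _ ≤ _ := pow_le_pow_right₀ (by norm_num) L.ht
  have hnn : 0 ≤ ∑ k ∈ regElts L.C, ((M.fix k : ℤ) - 1) * ((M.fix k : ℤ) - 2) := by
    refine Finset.sum_nonneg fun k _ => ?_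
    rcases le_or_gt ((M.fix k : ℤ)) 1 with h | h
    · exact mul_nonneg_of_nonpos_of_nonpos (by omega) (by omega)
    · exact mul_nonneg (by omega) (by omega)
  have e : ∑ k ∈ regElts L.C, ((M.fix k : ℤ) - 1) * ((M.fix k : ℤ) - 2) =
      ∑ k ∈ regElts L.C, (M.fix k : ℤ) ^ 2 - 3 * ∑ k ∈ regElts L.C, (M.fix k : ℤ) + 2 * ((regElts L.C).card : ℤ) := by
    rw [Finset.sum_congr rfl fun k _ => show ((M.fix k : ℤ) - 1) * ((M.fix k : ℤ) - 2) =
      (M.fix k : ℤ) ^ 2 - 3 * (M.fix k : ℤ) + 2 by ring, Finset.sum_add_distrib, Finset.sum_sub_distrib,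
      ← Finset.mul_sum, Finset.sum_const, nsmul_eq_mul]
    ring
  rw [e] at hnn
  have hnn' := mul_nonneg (show (0 : ℤ) ≤ 8 * 2 ^ t by positivity) hnn
  have hX0 := M.X0
  have hX1 := M.X1
  have hX2 := M.X2
  have h1 : (0 : ℤ) ≤ 8 * 2 ^ t * ∑ k ∈ regElts L.C, (M.fix k : ℤ) :=
    mul_nonneg (by positivity) (Finset.sum_nonneg fun k _ => Int.natCast_nonneg _)
  rcases M.ε_cases with a | a <;> rcases M.ε'_cases with b | b
  · exfalso
    rw [a, b] at hX1 hX2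
    push_cast at hX1 hX2
    nlinarith
  · exact Or.inl ⟨a, b⟩
  · exact Or.inr ⟨a, b⟩
  · exfalso
    rw [a, b] at hX1
    push_cast at hX1
    nlinarith

/-- The sign. -/
noncomputable def δ : ℤ := if M.ε = 0 then 1 else -1

/-- The signed degree. -/
noncomputable def P : ℤ := M.δ * q

/-- The signed Steinberg character on `C`. -/
noncomputable def φ (g : G) : ℤ := M.δ * M.fix g - (1 + M.δ)

theorem δ_cases : (M.δ = 1 ∧ M.ε = 0 ∧ M.ε' = 2) ∨ (M.δ = -1 ∧ M.ε = 2 ∧ M.ε' = 0) := by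
  rcases M.eps with ⟨a, b⟩ | ⟨a, b⟩
  · exact Or.inl ⟨by simp [δ, a], a, b⟩
  · exact Or.inr ⟨by simp [δ, a], a, b⟩

theorem P_natAbs : M.P.natAbs = q := by
  rcases M.δ_cases with ⟨h, -, -⟩ | ⟨h, -, -⟩ <;> simp [P, h]

theorem φ_class {g h : G} (hg : g ∈ L.C) (hh : h ∈ L.C) : M.φ (g * h * g⁻¹) = M.φ h := by
  rw [φ, φ, M.fix_conj hh hg]

theorem φ_one : M.φ 1 = M.P - 1 := by
  rw [φ, P, M.fix_one]; push_cast; ring

theorem φ_eps {g : G} (h : M.fix g = M.ε) : M.φ g = -2 := by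
  rcases M.δ_cases with ⟨hd, ha, -⟩ | ⟨hd, ha, -⟩ <;> rw [φ, h, hd, ha] <;> norm_num

theorem φ_of_fix_one {g : G} (h : M.fix g = 1) : M.φ g = -1 := by
  rw [φ, h]; ring

theorem m01 : 2 * 2 ^ t * ∑ k ∈ regElts L.C, M.φ k = -(Nat.card L.C : ℤ) := by
  have e : ∑ k ∈ regElts L.C, M.φ k =
      M.δ * ∑ k ∈ regElts L.C, (M.fix k : ℤ) - (1 + M.δ) * ((regElts L.C).card : ℤ) := by
    simp only [φ, Finset.sum_sub_distrib, ← Finset.mul_sum, Finset.sum_const, nsmul_eq_mul]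
    ring
  rw [e]
  have hX0 := M.X0
  have hX1 := M.X1
  rcases M.δ_cases with ⟨hd, ha, hb⟩ | ⟨hd, ha, hb⟩ <;> rw [ha, hb] at hX1 <;> rw [hd] <;> push_cast at hX1 ⊢
  · refine mul_left_cancel₀ (show (4 : ℤ) ≠ 0 by norm_num) ?_
    linear_combination hX1 - 2 * hX0
  · refine mul_left_cancel₀ (show (4 : ℤ) ≠ 0 by norm_num) ?_
    linear_combination -hX1

theorem m11 : 2 ^ t * ∑ k ∈ regElts L.C, M.φ k * M.φ k = (Nat.card L.C : ℤ) := by
  have e : ∑ k ∈ regElts L.C, M.φ k * M.φ k =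
      M.δ ^ 2 * ∑ k ∈ regElts L.C, (M.fix k : ℤ) ^ 2 - 2 * M.δ * (1 + M.δ) * ∑ k ∈ regElts L.C, (M.fix k : ℤ) +
        (1 + M.δ) ^ 2 * ((regElts L.C).card : ℤ) := by
    rw [Finset.sum_congr rfl fun k _ => show M.φ k * M.φ k =
      M.δ ^ 2 * (M.fix k : ℤ) ^ 2 - 2 * M.δ * (1 + M.δ) * (M.fix k : ℤ) + (1 + M.δ) ^ 2 by rw [φ]; ring,
      Finset.sum_add_distrib, Finset.sum_sub_distrib, ← Finset.mul_sum, ← Finset.mul_sum, Finset.sum_const,
      nsmul_eq_mul]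
    ring
  rw [e]
  have hX0 := M.X0
  have hX1 := M.X1
  have hX2 := M.X2
  rcases M.δ_cases with ⟨hd, ha, hb⟩ | ⟨hd, ha, hb⟩ <;> rw [ha, hb] at hX1 hX2 <;> rw [hd] <;>
    push_cast at hX1 hX2 ⊢
  · refine mul_left_cancel₀ (show (8 : ℤ) ≠ 0 by norm_num) ?_
    linear_combination hX2 - 4 * hX1 + 4 * hX0
  · refine mul_left_cancel₀ (show (8 : ℤ) ≠ 0 by norm_num) ?_
    linear_combination hX2

theorem π_A_comm {a : G} (ha : a ∈ L.A) :
    a * L.y = L.y * a := L.mem_A.1 ha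

theorem fix_K {k : G} (hk : k ∈ L.K) (h : M.π ⟨k, L.A_le_C hk.1⟩ ≠ 1) : M.fix k = M.ε :=
  M.fix_commute (L.A_le_C hk.1) (L.A_le_C L.y_mem_A) (L.mem_A.1 hk.1) M.π_y_ne fun e =>
    absurd (M.π_odd_sq (k := ⟨k, L.A_le_C hk.1⟩) ((L.odd_iff hk.1).2 hk) e) h

theorem mem_Oc_of_π {k : G} (hk : k ∈ L.C) (ho : Odd (orderOf k)) (h : M.π ⟨k, hk⟩ = 1) : k ∈ L.Oc := by
  rcases (M.ker _).1 h with e | e
  · exact (L.mem_Oc hk).2 e
  · exfalso
    have h1 : Odd (orderOf (L.z * k)) := M.odd_of_mem_core e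
    have h2 : L.z = 1 := two_part_unique L.z_sq (one_mul 1) (L.mem_C.1 hk).symm (Commute.one_left _) ho h1
      (one_mul _).symm
    exact L.z_not_odd (by rw [h2, orderOf_one]; exact odd_one)

theorem π_eq_one_of_mem_Oc {k : G} (hk : k ∈ L.Oc) (hkC : k ∈ L.C) : M.π ⟨k, hkC⟩ = 1 :=
  (M.ker _).2 (Or.inl ((L.mem_Oc hkC).1 hk))

open scoped _root_.Classical in
theorem φ_K_sum : ∑ k ∈ elts L.K, M.φ k = (L.kk : ℤ) * (M.P + 1) - 2 * Nat.card L.K := by
  have h1 : ∀ k ∈ elts L.K, M.φ k = -2 + if k ∈ L.Oc then M.P + 1 else 0 := by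
    intro k hk
    rw [mem_elts] at hk
    split_ifs with h
    · have hf : M.fix k = M.fix 1 := by
        rw [M.fix_def (L.A_le_C hk.1), M.π_eq_one_of_mem_Oc h, M.fix_one, fixCount_one]
      rw [φ, hf, ← φ, M.φ_one]; ring
    · rw [add_zero]
      exact M.φ_eps (M.fix_K hk fun e => h (M.mem_Oc_of_π _ ((L.odd_iff hk.1).2 hk) e))
  rw [Finset.sum_congr rfl h1, Finset.sum_add_distrib, Finset.sum_ite, Finset.sum_const_zero, add_zero,
    Finset.sum_const, Finset.sum_const, nsmul_eq_mul, nsmul_eq_mul, card_elts]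
  have h2 : ((elts L.K).filter fun k => k ∈ L.Oc).card = L.kk := by
    rw [Loc.kk, ← card_elts]
    congr 1
    ext g
    simp [mem_elts, Subgroup.mem_inf]
  rw [h2]; ring

theorem fix_A {a : G} (ha : a ∈ L.A) (h : M.π ⟨a, L.A_le_C ha⟩ ≠ 1) : M.fix a = M.ε := by
  by_cases h0 : L.rot a = 0
  · exact M.fix_K ⟨ha, h0⟩ h
  by_cases h1 : L.rot a = mid t
  · have hzk : L.z * a ∈ L.K := ⟨mul_mem L.z_mem_A ha, by
      rw [L.rot_mul L.z_mem_A ha, L.rot_mid, h1, ← two_mul, two_mul_mid]⟩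
    rw [← M.fix_z_mul (L.A_le_C ha)]
    refine M.fix_K hzk ?_
    rwa [show (⟨L.z * a, _⟩ : ↥L.C) = L.zC * ⟨a, L.A_le_C ha⟩ from rfl, map_mul, M.π_z, one_mul]
  · exact M.fix_rot ha h0 h1

/-- The restriction of the model to `A`. -/
noncomputable def ψ : ↥L.A →* PG := M.π.comp (Subgroup.inclusion L.A_le_C)

theorem ψ_apply {a : G} (ha : a ∈ L.A) : M.ψ ⟨a, ha⟩ = M.π ⟨a, L.A_le_C ha⟩ := rfl

open scoped _root_.Classical in
theorem card_ψ_ker : Nat.card M.ψ.ker = 2 * L.kk := by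
  haveI : Fintype ↥L.A := Fintype.ofFinite _
  have e : Nat.card M.ψ.ker = ((elts L.A).filter fun a => a ∈ L.Oc ∨ L.z * a ∈ L.Oc).card := by
    rw [Nat.card_eq_fintype_card, Fintype.card_subtype]
    refine Finset.card_bij (fun a _ => (a : G)) (fun a ha => ?_) (fun a _ b _ e => Subtype.ext e) (fun g hg => ?_)
    · simp only [Finset.mem_filter, Finset.mem_univ, true_and, MonoidHom.mem_ker] at ha
      refine Finset.mem_filter.2 ⟨mem_elts.2 a.2, ?_⟩
      rw [L.mem_Oc (L.A_le_C a.2), L.mem_Oc (mul_mem (L.A_le_C L.z_mem_A) (L.A_le_C a.2))]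
      exact (M.ker _).1 ha
    · rw [Finset.mem_filter, mem_elts] at hg
      refine ⟨⟨g, hg.1⟩, ?_, rfl⟩
      simp only [Finset.mem_filter, Finset.mem_univ, true_and, MonoidHom.mem_ker]
      refine (M.ker _).2 ?_
      exact hg.2.imp (L.mem_Oc (L.A_le_C hg.1)).1
        (L.mem_Oc (mul_mem (L.A_le_C L.z_mem_A) (L.A_le_C hg.1))).1
  have h1 : ((elts L.A).filter fun a => a ∈ L.Oc).card = L.kk := by
    rw [Loc.kk, ← card_elts]
    congr 1
    ext g
    rw [Finset.mem_filter, mem_elts, mem_elts, Subgroup.mem_inf]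
    exact ⟨fun h => ⟨(L.odd_iff h.1).1 (L.odd_of_mem_Oc h.2), h.2⟩, fun h => ⟨h.1.1, h.2⟩⟩
  have h2 : ((elts L.A).filter fun a => L.z * a ∈ L.Oc).card = L.kk := by
    rw [← h1]
    refine Finset.card_bij' (fun a _ => L.z * a) (fun a _ => L.z * a) (fun a ha => ?_) (fun a ha => ?_)
      (fun a _ => ?_) (fun a _ => ?_)
    · rw [Finset.mem_filter, mem_elts] at ha ⊢
      exact ⟨mul_mem L.z_mem_A ha.1, ha.2⟩
    · rw [Finset.mem_filter, mem_elts] at ha ⊢
      exact ⟨mul_mem L.z_mem_A ha.1, by rw [← mul_assoc, L.z_sq, one_mul]; exact ha.2⟩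
    all_goals rw [← mul_assoc, L.z_sq, one_mul]
  rw [e, Finset.filter_or, Finset.card_union_of_disjoint, h1, h2, two_mul]
  rw [Finset.disjoint_left]
  intro g hg hg'
  rw [Finset.mem_filter] at hg hg'
  refine L.z_not_odd (L.odd_of_mem_Oc ?_)
  simpa using mul_mem hg'.2 (inv_mem hg.2)

theorem card_range_ψ : Nat.card M.ψ.range = 2 ^ t * L.tau' := by
  have h := M.ψ.ker.card_mul_index
  rw [Subgroup.index_ker, M.card_ψ_ker, L.card_A, L.card_K, pow_succ] at h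
  refine Nat.eq_of_mul_eq_mul_left (Nat.mul_pos two_pos L.kk_pos) ?_
  rw [h]; ring

theorem fix_range {x : PG} (hx : x ∈ M.ψ.range) (h1 : x ≠ 1) : fixCount x = M.ε := by
  obtain ⟨⟨a, ha⟩, rfl⟩ := hx
  rw [M.ψ_apply] at h1 ⊢
  rw [← M.fix_def]
  exact M.fix_A ha h1

theorem range_dvd : ((2 ^ t * L.tau' : ℕ) : ℤ) ∣ M.P + 1 := by
  have h := card_dvd_of_fix M.ψ.range M.ε fun x hx h1 => M.fix_range hx h1
  rw [M.card_range_ψ] at h
  rcases M.δ_cases with ⟨hd, ha, -⟩ | ⟨hd, ha, -⟩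
  · rw [ha] at h; rw [P, hd]; simpa using h
  · rw [ha] at h; rw [P, hd]
    have e : (-1 : ℤ) * (q : ℤ) + 1 = -((q : ℤ) + 1 - ((2 : ℕ) : ℤ)) := by norm_num; ring
    rw [e]; exact dvd_neg.2 h

theorem π_y_mem : M.π ⟨L.y, L.A_le_C L.y_mem_A⟩ ∈ M.ψ.range := ⟨⟨L.y, L.y_mem_A⟩, rfl⟩

theorem π_s_not_range : M.π ⟨L.s, L.s_mem_C⟩ ∉ M.ψ.range := by
  rintro ⟨⟨a, ha⟩, e⟩
  rw [M.ψ_apply] at e
  set x := a⁻¹ * L.s with hx
  have hxC : x ∈ L.C := mul_mem (inv_mem (L.A_le_C ha)) L.s_mem_C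
  have h1 : M.π ⟨x, hxC⟩ = 1 := by
    rw [show (⟨x, hxC⟩ : ↥L.C) = ⟨a, L.A_le_C ha⟩⁻¹ * ⟨L.s, L.s_mem_C⟩ from rfl, map_mul, map_inv, e,
      inv_mul_cancel]
  have hxx : x * x ∈ L.A := by
    rw [show x * x = a⁻¹ * (L.s * a⁻¹ * L.s⁻¹) * (L.s * L.s) by rw [hx]; group, L.sd.s_sq, mul_one]
    exact mul_mem (inv_mem ha) (L.conj_A (inv_mem ha))
  have hnot : x ∉ L.A := fun h => L.s_not_A ((Subgroup.mul_mem_cancel_left _ (inv_mem ha)).1 h)
  have hodd : ∀ w : G, Odd (orderOf w) → w * w ∈ L.A → w ∈ L.A := fun w ⟨j, hj⟩ hw => by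
    have h2 := pow_orderOf_eq_one w
    rw [hj, pow_succ, pow_mul, pow_two] at h2
    rw [← inv_eq_of_mul_eq_one_right h2]
    exact inv_mem (pow_mem hw j)
  rcases (M.ker _).1 h1 with h | h
  · exact hnot (hodd x (M.odd_of_mem_core h) hxx)
  · refine hnot ?_
    have h2 := hodd (L.z * x) (M.odd_of_mem_core h) (by
      rw [(show Commute x L.z from L.mem_C.1 hxC).mul_mul_mul_comm, L.z_sq, one_mul]; exact hxx)
    exact (Subgroup.mul_mem_cancel_left _ L.z_mem_A).1 h2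

theorem exists_lift_centralizer {g : ↥L.C}
    (hg : M.π g * M.π ⟨L.y, L.A_le_C L.y_mem_A⟩ = M.π ⟨L.y, L.A_le_C L.y_mem_A⟩ * M.π g) :
    M.π g ∈ M.ψ.range ∨ M.π g * M.π ⟨L.s, L.s_mem_C⟩ ∈ M.ψ.range := by
  classical
  haveI : Fact (Nat.Prime 2) := ⟨Nat.prime_two⟩
  haveI : Fintype ↥L.C := Fintype.ofFinite _
  set yC : ↥L.C := ⟨L.y, L.A_le_C L.y_mem_A⟩ with hyC
  set N : Subgroup ↥L.C := (Subgroup.zpowers (M.π yC)).comap M.π with hN
  have hNc : Nat.card N = 4 * L.oOrd := by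
    haveI : Finite PG := finite_pg
    have h1 : ((Subgroup.zpowers (M.π yC)).comap M.π).index = (Subgroup.zpowers (M.π yC)).index :=
      Subgroup.index_comap_of_surjective _ M.surj
    have h2 := N.card_mul_index
    rw [hN, h1, M.card_C, ← (Subgroup.zpowers (M.π yC)).card_mul_index, Nat.card_zpowers, M.order_π_y] at h2
    refine Nat.eq_of_mul_eq_mul_right (Nat.pos_of_ne_zero Subgroup.index_ne_zero_of_finite) (h2.trans ?_)
    ring
  set w : ↥L.C := g * yC * g⁻¹ with hw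
  have hyN : yC ∈ N := Subgroup.mem_zpowers _
  have hwN : w ∈ N := by
    show M.π w ∈ Subgroup.zpowers (M.π yC)
    rw [hw, map_mul, map_mul, map_inv, hg, mul_inv_cancel_right]
    exact Subgroup.mem_zpowers _
  have hy4 : orderOf (⟨yC, hyN⟩ : N) = 4 := by
    rw [← Subgroup.orderOf_coe, ← Subgroup.orderOf_coe]
    exact L.order_y
  have hw4 : orderOf (⟨w, hwN⟩ : N) = 4 := by
    rw [← Subgroup.orderOf_coe, ← Subgroup.orderOf_coe]
    show orderOf ((g : G) * L.y * (g : G)⁻¹) = 4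
    rw [← MulAut.conj_apply, MulEquiv.orderOf_eq, L.order_y]
  have syl : ∀ v : N, orderOf v = 4 → ∃ Q : Sylow 2 N, (Q : Subgroup N) = Subgroup.zpowers v := by
    intro v hv
    have hidx : ¬ 2 ∣ (Subgroup.zpowers v).index := by
      have h1 := (Subgroup.zpowers v).card_mul_index
      rw [Nat.card_zpowers, hv, hNc] at h1
      rw [Nat.eq_of_mul_eq_mul_left (by norm_num) h1]
      exact Nat.two_dvd_ne_zero.2 (Nat.odd_iff.1 L.oOrd_odd)
    exact ⟨(IsPGroup.of_card (n := 2) (by rw [Nat.card_zpowers, hv]; rfl)).toSylow hidx, rfl⟩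
  obtain ⟨Q1, hQ1⟩ := syl _ hw4
  obtain ⟨Q2, hQ2⟩ := syl _ hy4
  obtain ⟨n, hn⟩ := MulAction.exists_smul_eq N Q1 Q2
  have hmem : n * ⟨w, hwN⟩ * n⁻¹ ∈ (Q2 : Subgroup N) := by
    rw [← hn, Sylow.coe_subgroup_smul]
    exact Subgroup.mem_map_of_mem (MulDistribMulAction.toMonoidEnd (MulAut N) N (MulAut.conj n))
      (hQ1 ▸ Subgroup.mem_zpowers (⟨w, hwN⟩ : N) : (⟨w, hwN⟩ : N) ∈ (Q1 : Subgroup N))
  rw [hQ2, Subgroup.mem_zpowers_iff] at hmem
  obtain ⟨i, hi⟩ := hmem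
  set m : ↥L.C := (n : ↥L.C) * g with hm
  have hmy : (m : G) * L.y * (m : G)⁻¹ = L.y ^ i := by
    have h1 := congrArg (fun v : N => ((v : ↥L.C) : G)) hi
    simp only [Subgroup.coe_zpow, Subgroup.coe_mul, Subgroup.coe_inv] at h1
    rw [show ((yC : ↥L.C) : G) = L.y from rfl] at h1
    rw [h1, hm, hw]
    simp only [Subgroup.coe_mul, Subgroup.coe_inv, hyC]
    group
  have hor : orderOf ((m : G) * L.y * (m : G)⁻¹) = 4 := by
    rw [← MulAut.conj_apply, MulEquiv.orderOf_eq, L.order_y]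
  have hcase := L.normalizer_four (L.four_in_A (hmy ▸ Subgroup.zpow_mem _ L.y_mem_A i) hor)
  have hn' : M.π (n : ↥L.C)⁻¹ ∈ M.ψ.range := by
    rw [map_inv]
    exact inv_mem ((Subgroup.zpowers_le.2 M.π_y_mem) n.2)
  have hgm : M.π g = M.π (n : ↥L.C)⁻¹ * M.π m := by rw [← map_mul, hm, inv_mul_cancel_left]
  rcases hcase with h | h
  · left
    rw [hgm]
    exact mul_mem hn' ⟨⟨m, h⟩, rfl⟩
  · right
    rw [hgm, mul_assoc, ← map_mul]
    exact mul_mem hn' ⟨⟨_, h⟩, rfl⟩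

theorem card_range_cases : 2 ^ t * L.tau' = q - 1 ∨ 2 ^ t * L.tau' = q + 1 := by
  classical
  haveI : Finite PG := finite_pg
  haveI : Fintype PG := Fintype.ofFinite _
  set sb := M.π ⟨L.s, L.s_mem_C⟩ with hsb
  set yb := M.π ⟨L.y, L.A_le_C L.y_mem_A⟩ with hyb
  have hs1 : sb * sb = 1 := by rw [← pow_two]; exact orderOf_dvd_iff_pow_eq_one.1 M.order_π_s.dvd
  have hsy : sb * yb = yb * sb := by
    have h : sb * yb * sb⁻¹ = yb⁻¹ := by
      rw [hsb, hyb, ← map_inv, ← map_inv, ← map_mul, ← map_mul]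
      exact congrArg M.π (Subtype.ext L.s_y)
    have hy1 : yb⁻¹ = yb := inv_eq_of_mul_eq_one_right (by rw [← pow_two]; exact orderOf_dvd_iff_pow_eq_one.1 M.order_π_y.dvd)
    rw [hy1] at h
    exact mul_inv_eq_iff_eq_mul.1 h
  have hE : elts (centralizer ({yb} : Set PG)) = elts M.ψ.range ∪ (elts M.ψ.range).image (· * sb) := by
    ext x
    rw [mem_elts, Subgroup.mem_centralizer_singleton_iff, Finset.mem_union, mem_elts, Finset.mem_image]
    constructor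
    · intro hx
      obtain ⟨g, rfl⟩ := M.surj x
      rcases M.exists_lift_centralizer hx with h | h
      · exact Or.inl h
      · exact Or.inr ⟨_, mem_elts.2 h, by rw [mul_assoc, hs1, mul_one]⟩
    · have key : ∀ v ∈ M.ψ.range, v * yb = yb * v := by
        rintro _ ⟨⟨a, ha⟩, rfl⟩
        rw [M.ψ_apply, hyb, ← map_mul, ← map_mul]
        exact congrArg M.π (Subtype.ext (L.mem_A.1 ha))
      rintro (h | ⟨v, hv, rfl⟩)
      · exact key x h
      · rw [mul_assoc, hsy, ← mul_assoc, key v (mem_elts.1 hv), mul_assoc]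
  have hcard : Nat.card (centralizer ({yb} : Set PG)) = 2 * (2 ^ t * L.tau') := by
    rw [← card_elts, hE, Finset.card_union_of_disjoint, Finset.card_image_of_injective _ (mul_left_injective _),
      card_elts, M.card_range_ψ, two_mul]
    rw [Finset.disjoint_left]
    intro x hx hx'
    obtain ⟨v, hv, rfl⟩ := Finset.mem_image.1 hx'
    rw [mem_elts] at hx hv
    exact M.π_s_not_range ((Subgroup.mul_mem_cancel_left _ hv).1 hx)
  rcases GW.card_centralizer_involution M.hq M.order_π_y with h | h <;> rw [← hyb, hcard] at h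
  · exact Or.inl (by omega)
  · exact Or.inr (by omega)

theorem abs_P_succ : (M.P + 1).natAbs = 2 ^ t * L.tau' := by
  have hd := M.range_dvd
  have h4 : 4 ≤ 2 ^ t * L.tau' := by
    have h2 : 2 ^ 2 ≤ 2 ^ t := Nat.pow_le_pow_right two_pos L.ht
    have := L.tau'_odd.pos
    nlinarith
  have hq3 : 3 ≤ q := by
    have := M.hp.two_le
    have := Nat.odd_iff.1 M.hq
    omega
  have hd' : 2 ^ t * L.tau' ∣ (M.P + 1).natAbs := Int.natCast_dvd.1 hd
  have hR := M.card_range_cases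
  generalize 2 ^ t * L.tau' = R at hd' h4 hR ⊢
  rcases M.δ_cases with ⟨hδ, -, -⟩ | ⟨hδ, -, -⟩
  · have e : (M.P + 1).natAbs = q + 1 := by rw [P, hδ]; omega
    rw [e] at hd' ⊢
    rcases hR with h | h
    · exfalso
      obtain ⟨a, ha⟩ := hd'
      have : R ∣ 2 := ⟨a - 1, by rw [Nat.mul_sub, mul_one]; omega⟩
      have := Nat.le_of_dvd two_pos this
      omega
    · exact h.symm
  · have e : (M.P + 1).natAbs = q - 1 := by rw [P, hδ]; omega
    rw [e] at hd' ⊢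
    rcases hR with h | h
    · exact h.symm
    · exfalso
      have := Nat.le_of_dvd (by omega) hd'
      omega

/-- The cofactor. -/
noncomputable def τ : ℤ := Int.sign (M.P + 1) * L.tau'

theorem hPτ : M.P + 1 = 2 ^ t * M.τ := by
  conv_lhs => rw [← Int.sign_mul_natAbs (M.P + 1), M.abs_P_succ]
  rw [τ]; push_cast; ring

theorem sign_cases : Int.sign (M.P + 1) = 1 ∨ Int.sign (M.P + 1) = -1 := by
  have h : M.P + 1 ≠ 0 := fun e => by
    have := M.abs_P_succ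
    rw [e, Int.natAbs_zero] at this
    exact (Nat.mul_pos (Nat.two_pow_pos t) L.tau'_odd.pos).ne this
  rcases h.lt_or_gt with h | h
  · exact Or.inr (Int.sign_eq_neg_one_of_neg h)
  · exact Or.inl (Int.sign_eq_one_of_pos h)

theorem τ_natAbs : M.τ.natAbs = L.tau' := by
  rw [τ, Int.natAbs_mul, Int.natAbs_natCast]
  rcases M.sign_cases with h | h <;> rw [h] <;> simp

theorem τ_odd : Odd M.τ := Int.natAbs_odd.1 (M.τ_natAbs ▸ L.tau'_odd)

theorem φ_K : ∑ k ∈ elts L.K, M.φ k = (Nat.card L.K : ℤ) * (Int.sign (M.P + 1) * 2 ^ t - 2) := by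
  rw [M.φ_K_sum, M.hPτ, L.card_K, ← M.hPτ]
  have := M.hPτ
  rw [τ] at this
  push_cast
  linear_combination (L.kk : ℤ) * this

theorem c_le : L.K ⊓ centralizer ({L.s} : Set G) ≤ L.K ⊓ L.Oc := by
  rintro k ⟨hk, hks⟩
  refine ⟨hk, ?_⟩
  have hkC := L.A_le_C hk.1
  by_contra hO
  have hne : M.π ⟨k, hkC⟩ ≠ 1 := fun e => hO (M.mem_Oc_of_π hkC ((L.odd_iff hk.1).2 hk) e)
  have h2 : M.fix k = M.ε' := M.fix_commute hkC L.s_mem_C (Subgroup.mem_centralizer_singleton_iff.1 hks)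
    M.π_s_ne fun e => absurd (M.π_odd_sq (k := ⟨k, hkC⟩) ((L.odd_iff hk.1).2 hk) e) hne
  rw [M.fix_K hk hne] at h2
  rcases M.eps with ⟨a, b⟩ | ⟨a, b⟩ <;> omega

theorem c_dvd_kk : L.c ∣ L.kk := Subgroup.card_dvd_of_le M.c_le

theorem c_dvd_o : L.c ∣ L.oOrd :=
  L.card_Oc ▸ M.c_dvd_kk.trans (Subgroup.card_dvd_of_le inf_le_right)

theorem c_odd : Odd L.c := Odd.of_dvd_nat L.kk_odd M.c_dvd_kk

theorem card_C_eq : Nat.card L.C = 2 * L.oOrd * (q * ((q - 1) * (q + 1))) := by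
  rw [M.card_C, Invol.Core2.RankTwo.card_pgl]

theorem card_C_abs : Nat.card L.C = (2 * (L.oOrd : ℤ) * M.P * (M.P ^ 2 - 1)).natAbs := by
  have h : (2 * (L.oOrd : ℤ) * M.P * (M.P ^ 2 - 1)) = M.δ * (Nat.card L.C : ℤ) := by
    rw [M.card_C_eq, P]
    have h1 : 1 ≤ q := Fintype.card_pos
    push_cast [Nat.cast_sub h1]
    rcases M.δ_cases with ⟨hd, -, -⟩ | ⟨hd, -, -⟩ <;> rw [hd] <;> ring
  rw [h, Int.natAbs_mul, Int.natAbs_natCast]
  rcases M.δ_cases with ⟨hd, -, -⟩ | ⟨hd, -, -⟩ <;> simp [hd]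

end Mod

end Cfsg.Agent.Invol.AlmostCyclic
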