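import Cfsg.Agent.Lib.Invol.AlmostCyclic.Defs
import Cfsg.Agent.Lib.Grp.Cores

/-!
# Almost Sylow-cyclic groups: inheritance by subgroups and quotients (for S4069)
-/

set_option autoImplicit false

namespace Cfsg.Agent.Invol.AlmostCyclic

open Subgroup
open scoped commutatorElement

universe u v

theorem OddCyclic.subgroup {G : Type*} [Group G] [Finite G] (h : OddCyclic G) (H : Subgroup G) :
    OddCyclic ↥H := by
  intro p hp hp2 P
  haveI : Fact p.Prime := ⟨hp⟩
  obtain ⟨R, hR⟩ := (P.isPGroup'.map H.subtype).exists_le_sylow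
  haveI : IsCyclic ↥(R : Subgroup G) := h p hp hp2 R
  haveI := isCyclic_of_le hR
  exact isCyclic_of_surjective _ ((P : Subgroup ↥H).equivMapOfInjective H.subtype H.subtype_injective).symm.surjective

/-- A cyclic subgroup of index at most two, read in any 2-subgroup. -/
theorem TwoCyclic.pgroup {G : Type*} [Group G] [Finite G] (h : TwoCyclic G) {T : Subgroup G}
    (hT : IsPGroup 2 ↥T) : ∃ C : Subgroup ↥T, IsCyclic C ∧ C.index ∣ 2 := by
  obtain ⟨R, hR⟩ := hT.exists_le_sylow
  obtain ⟨C, hC, hi⟩ := h R
  haveI : C.Normal := by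
    rcases (Nat.dvd_prime Nat.prime_two).1 hi with h1 | h2
    · rw [index_eq_one.1 h1]; infer_instance
    · exact normal_of_index_eq_two h2
  refine ⟨C.comap (inclusion hR), ?_, ?_⟩
  · exact isCyclic_of_injective ((inclusion hR).subgroupComap C) fun a b hab =>
      Subtype.ext (inclusion_injective hR (congrArg Subtype.val hab))
  · rw [index_comap]
    exact (relIndex_dvd_index_of_normal _ _).trans hi

theorem TwoCyclic.subgroup {G : Type*} [Group G] [Finite G] (h : TwoCyclic G) (H : Subgroup G) :
    TwoCyclic ↥H := by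
  intro S
  let e := (S : Subgroup ↥H).equivMapOfInjective H.subtype H.subtype_injective
  obtain ⟨C, hC, hi⟩ := h.pgroup (S.isPGroup'.map H.subtype)
  refine ⟨C.comap e.toMonoidHom, ?_, ?_⟩
  · exact isCyclic_of_injective (e.toMonoidHom.subgroupComap C) fun a b hab =>
      Subtype.ext (e.injective (congrArg Subtype.val hab))
  · rw [index_comap_of_surjective _ e.surjective]
    exact hi

theorem OddCyclic.of_surjective {G : Type*} {Q : Type*} [Group G] [Group Q] [Finite G] (h : OddCyclic G)
    (f : G →* Q) (hf : Function.Surjective f) : OddCyclic Q := by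
  intro p hp hp2 P
  haveI : Fact p.Prime := ⟨hp⟩
  obtain ⟨R, rfl⟩ := Sylow.mapSurjective_surjective hf p P
  haveI : IsCyclic ↥(R : Subgroup G) := h p hp hp2 R
  exact isCyclic_of_surjective _ (MonoidHom.subgroupMap_surjective f (R : Subgroup G))

theorem TwoCyclic.of_surjective {G : Type*} {Q : Type*} [Group G] [Group Q] [Finite G] (h : TwoCyclic G)
    (f : G →* Q) (hf : Function.Surjective f) : TwoCyclic Q := by
  intro P
  obtain ⟨R, rfl⟩ := Sylow.mapSurjective_surjective hf 2 P
  obtain ⟨C, hC, hi⟩ := h R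
  refine ⟨C.map (f.subgroupMap (R : Subgroup G)), ?_, ?_⟩
  · exact isCyclic_of_surjective _ (MonoidHom.subgroupMap_surjective _ C)
  · exact (index_map_dvd C (MonoidHom.subgroupMap_surjective f _)).trans hi

/-- An odd-order group with cyclic Sylow subgroups of odd order has all Sylow subgroups cyclic. -/
theorem OddCyclic.isZGroup {G : Type*} [Group G] [Finite G] (h : OddCyclic G) (ho : Odd (Nat.card G)) :
    IsZGroup G := by
  refine ⟨fun p hp P => ?_⟩
  by_cases hp2 : p = 2
  · subst hp2
    haveI : Fact (Nat.Prime 2) := ⟨Nat.prime_two⟩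
    have hc : Nat.card ↥(P : Subgroup G) = 1 := by
      obtain ⟨k, hk⟩ := IsPGroup.iff_card.1 P.isPGroup'
      rcases Nat.eq_zero_or_pos k with rfl | hk0
      · rw [hk, pow_zero]
      · exact absurd ((dvd_pow_self 2 hk0.ne').trans (hk ▸ card_subgroup_dvd_card _))
          (Nat.not_even_iff_odd.2 ho ∘ even_iff_two_dvd.2)
    haveI := (Nat.card_eq_one_iff_unique.1 hc).1
    exact isCyclic_of_subsingleton
  · exact h p hp hp2 P

/-- Commutators act trivially on both layers of a normal subgroup all of whose Sylow subgroups are cyclic. -/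
theorem layers_of_isZGroup {H : Type*} [Group H] [Finite H] (R : Subgroup H) [R.Normal] [IsZGroup ↥R]
    {g : H} (hg : g ∈ commutator H) :
    (∀ c ∈ (commutator ↥R).map R.subtype, g * c * g⁻¹ = c) ∧
      ∀ r ∈ R, r⁻¹ * (g * r * g⁻¹) ∈ (commutator ↥R).map R.subtype := by
  haveI : IsCyclic ↥(commutator ↥R) := IsZGroup.isCyclic_commutator _
  haveI : IsCyclic (Abelianization ↥R) := IsZGroup.isCyclic_abelianization
  have hcent : ∀ {A : Type _} [Group A] [IsCyclic A] (φ : H →* MulAut A) (a : A), φ g a = a := by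
    intro A _ _ φ a
    have hle : commutator H ≤ φ.ker := by
      rw [_root_.commutator_def, commutator_le]
      intro x _ y _
      rw [MonoidHom.mem_ker, map_commutatorElement, commutatorElement_eq_one_iff_mul_comm]
      exact (IsCyclic.mulAutMulEquiv A).injective (by rw [map_mul, map_mul, mul_comm])
    rw [MonoidHom.mem_ker.1 (hle hg)]
    rfl
  constructor
  · intro c hc
    haveI : IsCyclic ↥((commutator ↥R).map R.subtype) :=
      isCyclic_of_surjective _ ((commutator ↥R).equivMapOfInjective R.subtype R.subtype_injective).surjective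
    exact congrArg Subtype.val (hcent (MulAut.conjNormal (H := (commutator ↥R).map R.subtype)) ⟨c, hc⟩)
  · intro r hr
    let ψ : H →* MulAut (Abelianization ↥R) := MonoidHom.mk'
      (fun x => (MulAut.conjNormal x : MulAut ↥R).abelianizationCongr)
      fun x y => MulEquiv.ext fun q => QuotientGroup.induction_on q fun s => by
        show Abelianization.of (MulAut.conjNormal (x * y) s) =
          Abelianization.of (MulAut.conjNormal x (MulAut.conjNormal y s))
        rw [map_mul, MulAut.mul_apply]
    have hq := hcent ψ (Abelianization.of ⟨r, hr⟩)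
    have hmem : (⟨r, hr⟩ : ↥R)⁻¹ * MulAut.conjNormal g ⟨r, hr⟩ ∈ commutator ↥R :=
      QuotientGroup.eq.1 (hq.symm.trans rfl)
    refine ⟨_, hmem, ?_⟩
    rw [coe_subtype, coe_mul, InvMemClass.coe_inv, MulAut.conjNormal_apply]

/-- A commutator of coprime order centralises a normal subgroup all of whose Sylow subgroups are cyclic. -/
theorem commute_of_isZGroup {H : Type*} [Group H] [Finite H] (R : Subgroup H) [R.Normal] [IsZGroup ↥R]
    {g : H} (hg : g ∈ commutator H) (hord : Nat.Coprime (orderOf g) (Nat.card ↥R)) {r : H} (hr : r ∈ R) :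
    Commute g r := by
  obtain ⟨hC, hD⟩ := layers_of_isZGroup R hg
  have hc := hD r hr
  generalize hcdef : r⁻¹ * (g * r * g⁻¹) = c at hc
  have h1 : g * r * g⁻¹ = r * c := by rw [← hcdef]; group
  have hit : ∀ k : ℕ, g ^ k * r * (g ^ k)⁻¹ = r * c ^ k := by
    intro k
    induction k with
    | zero => simp
    | succ k ih =>
      calc g ^ (k + 1) * r * (g ^ (k + 1))⁻¹ = g * (g ^ k * r * (g ^ k)⁻¹) * g⁻¹ := by
            rw [pow_succ']; group
        _ = (g * r * g⁻¹) * (g * c ^ k * g⁻¹) := by rw [ih]; group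
        _ = r * c ^ (k + 1) := by rw [h1, hC _ (pow_mem hc k), pow_succ', mul_assoc]
  have h3 := hit (orderOf g)
  rw [pow_orderOf_eq_one, one_mul, inv_one, mul_one, left_eq_mul] at h3
  have hcR : c ∈ R := map_subtype_le _ hc
  have h4 : c = 1 := orderOf_eq_one_iff.1 (Nat.eq_one_of_dvd_coprimes hord (orderOf_dvd_of_pow_eq_one h3)
    (by
      have h5 := orderOf_dvd_natCard (⟨c, hcR⟩ : ↥R)
      rwa [← orderOf_coe] at h5))
  rw [h4, mul_one] at h1
  exact mul_inv_eq_iff_eq_mul.1 h1

/-- In a perfect group a normal subgroup all of whose Sylow subgroups are cyclic is central. -/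
theorem le_center_of_isZGroup {H : Type*} [Group H] [Finite H] (hp : commutator H = ⊤) (R : Subgroup H)
    [R.Normal] [IsZGroup ↥R] : R ≤ center H := by
  intro r hr
  have hall : ∀ g : H, g ∈ commutator H := fun g => by rw [hp]; exact mem_top g
  let C := (commutator ↥R).map R.subtype
  haveI : IsCyclic ↥(commutator ↥R) := IsZGroup.isCyclic_commutator _
  haveI : IsCyclic ↥C :=
    isCyclic_of_surjective _ ((commutator ↥R).equivMapOfInjective R.subtype R.subtype_injective).surjective
  let φ : H →* ↥C := MonoidHom.mk' (fun g => ⟨_, (layers_of_isZGroup R (hall g)).2 r hr⟩) fun x y => by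
    refine Subtype.ext ?_
    show r⁻¹ * (x * y * r * (x * y)⁻¹) = r⁻¹ * (x * r * x⁻¹) * (r⁻¹ * (y * r * y⁻¹))
    have hx := (layers_of_isZGroup R (hall x)).1 _ ((layers_of_isZGroup R (hall y)).2 r hr)
    calc r⁻¹ * (x * y * r * (x * y)⁻¹) = r⁻¹ * (x * r * x⁻¹) * (x * (r⁻¹ * (y * r * y⁻¹)) * x⁻¹) := by group
      _ = _ := by rw [hx]
  have hle : commutator H ≤ φ.ker := by
    rw [_root_.commutator_def, commutator_le]
    intro x _ y _
    rw [MonoidHom.mem_ker, map_commutatorElement, commutatorElement_eq_one_iff_mul_comm]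
    letI := IsCyclic.commGroup (α := ↥C)
    exact mul_comm (φ x) (φ y)
  refine mem_center_iff.2 fun g => ?_
  have h1 : r⁻¹ * (g * r * g⁻¹) = 1 := congrArg Subtype.val (MonoidHom.mem_ker.1 (hle (hall g)))
  exact mul_inv_eq_iff_eq_mul.1 (inv_mul_eq_one.1 h1).symm

end Cfsg.Agent.Invol.AlmostCyclic
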