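import Cfsg.Agent.Lib.Invol.AlmostCyclic.Cent
import Cfsg.Agent.Lib.Invol.InvolAction

/-!
# Involutions inverting rotations (for S4069)
-/

set_option autoImplicit false

namespace Cfsg.Agent.Invol.AlmostCyclic

open Subgroup

universe u

variable {G : Type u} [Group G] [Fintype G] {t : ℕ}

namespace Loc

variable (L : Loc G t)
include L

theorem rot_mid : L.rot L.z = mid t := by
  rw [Loc.z, L.rot_pow L.r_mem_A, L.rot_r, nsmul_eq_mul, mul_one]
  rfl

theorem z_mem_A : L.z ∈ L.A := pow_mem L.r_mem_A _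

theorem decomp_sum (F : G → ℕ) (i : Rot t) :
    ∑ k ∈ elts L.K, F (k * L.r ^ i.val) = ∑ a ∈ (elts L.A).filter (fun a => L.rot a = i), F a := by
  refine Finset.sum_bij' (fun k _ => k * L.r ^ i.val) (fun a _ => a * (L.r ^ i.val)⁻¹) (fun k hk => ?_)
    (fun a ha => ?_) (fun k _ => mul_inv_cancel_right _ _) (fun a _ => inv_mul_cancel_right _ _) (fun k _ => rfl)
  · rw [mem_elts] at hk
    refine Finset.mem_filter.2 ⟨mem_elts.2 (mul_mem hk.1 (pow_mem L.r_mem_A _)), ?_⟩
    rw [L.rot_mul hk.1 (pow_mem L.r_mem_A _), hk.2, L.rot_r_pow, zero_add]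
  · rw [Finset.mem_filter, mem_elts] at ha
    refine mem_elts.2 ⟨mul_mem ha.1 (inv_mem (pow_mem L.r_mem_A _)), ?_⟩
    rw [L.rot_mul ha.1 (inv_mem (pow_mem L.r_mem_A _)), L.rot_inv (pow_mem L.r_mem_A _), L.rot_r_pow, ha.2,
      add_neg_cancel]

theorem inverters_odd (i : Rot t) (hi : i.val % 2 = 1) {k : G} (hk : k ∈ L.K) :
    inverters (k * L.r ^ i.val) = ∅ := by
  classical
  rw [Finset.eq_empty_iff_forall_notMem]
  intro u hu
  obtain ⟨-, -, hinv⟩ := Finset.mem_filter.1 hu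
  have hr : L.rot (k * L.r ^ i.val) = i := by
    rw [L.rot_mul hk.1 (pow_mem L.r_mem_A _), hk.2, L.rot_r_pow, zero_add]
  have h := (L.inv_even (mul_mem hk.1 (pow_mem L.r_mem_A _))
    (by rw [hr]; intro e; rw [e, ZMod.val_zero] at hi; omega)
    (by
      rw [hr]; intro e; rw [e, val_mid] at hi
      have : 2 ∣ 2 ^ t := dvd_pow_self 2 (by have := L.ht; omega)
      omega) hinv).2
  rw [hr] at h
  omega

theorem exists_conj_s {u : G} (hu : orderOf u = 2) (hus : u * L.s ∈ L.A) :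
    ∃ b ∈ L.A, u = b * L.s * b⁻¹ := by
  haveI : Fact (Nat.Prime 2) := ⟨Nat.prime_two⟩
  have huC : u ∈ L.C := by
    have := L.C.mul_mem (L.A_le_C hus) L.s_mem_C
    rwa [mul_assoc, L.sd.s_sq, mul_one] at this
  have hz : u ≠ L.z := fun e => L.s_not_A (by
    have := L.A.mul_mem (inv_mem L.z_mem_A) (e ▸ hus)
    rwa [inv_mul_cancel_left] at this)
  set N : Subgroup G := Subgroup.normalizer (Subgroup.zpowers L.y : Set G) with hN
  have hAN : L.A ≤ N := by
    refine le_trans (le_of_eq ?_) (Subgroup.centralizer_le_normalizer _)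
    ext g
    rw [L.mem_A, Subgroup.mem_centralizer_iff]
    constructor
    · rintro h w hw
      obtain ⟨j, rfl⟩ := Subgroup.mem_zpowers_iff.1 hw
      exact ((show Commute g L.y from h).zpow_right j).eq.symm
    · intro h; exact (h L.y (Subgroup.mem_zpowers _)).symm
  have hsN : L.s ∈ N := by
    refine Subgroup.mem_normalizer_fintype fun w hw => ?_
    obtain ⟨j, rfl⟩ := Subgroup.mem_zpowers_iff.1 hw
    rw [← conj_zpow, L.s_y, inv_zpow]
    exact inv_mem (Subgroup.zpow_mem _ (Subgroup.mem_zpowers _) j)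
  have hNA : ∀ g ∈ N, g ∈ L.A ∨ g * L.s ∈ L.A := by
    intro g hg
    refine L.normalizer_four (L.four_in_A ?_ ?_)
    · obtain ⟨j, hj⟩ := Subgroup.mem_zpowers_iff.1 ((Subgroup.mem_normalizer_iff.1 hg L.y).1 (Subgroup.mem_zpowers _))
      rw [← hj]
      exact Subgroup.zpow_mem _ L.y_mem_A j
    · rw [← MulAut.conj_apply, MulEquiv.orderOf_eq, L.order_y]
  have hSN : (L.S : Subgroup G) ≤ N := fun w hw => by
    by_cases hwr : w ∈ Subgroup.zpowers L.r
    · exact hAN (Subgroup.zpowers_le.2 L.r_mem_A hwr)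
    · obtain ⟨i, -, rfl⟩ := L.sd.exists_rep hw hwr
      exact mul_mem (hAN (pow_mem L.r_mem_A _)) hsN
  have huN : u ∈ N := by
    have := N.mul_mem (hAN hus) hsN
    rwa [mul_assoc, L.sd.s_sq, mul_one] at this
  obtain ⟨c, hcN, hc⟩ := Invol.exists_conj_into_sylow (S := L.S) hSN (Subgroup.zpowers_le.2 huN)
    (IsPGroup.of_card (n := 1) (by rw [Nat.card_zpowers, hu, pow_one]))
  have hcS := hc u (Subgroup.mem_zpowers u)
  have h2 : c * u * c⁻¹ * (c * u * c⁻¹) = 1 := by
    rw [show c * u * c⁻¹ * (c * u * c⁻¹) = c * (u * u) * c⁻¹ by group, Invol.mul_self_of_orderOf_two hu, mul_one,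
      mul_inv_cancel]
  have hnr : c * u * c⁻¹ ∉ Subgroup.zpowers L.r := by
    intro h
    rcases L.sd.rot_sq h h2 with e | e
    · rw [conj_eq_one_iff] at e; rw [e, orderOf_one] at hu; omega
    · have hcC : c ∈ L.C := by
        rcases hNA c hcN with h' | h'
        · exact L.A_le_C h'
        · have := L.C.mul_mem (L.A_le_C h') L.s_mem_C
          rwa [mul_assoc, L.sd.s_sq, mul_one] at this
      refine hz ?_
      rw [show u = c⁻¹ * (c * u * c⁻¹) * c by group, e, mul_assoc]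
      show c⁻¹ * (L.z * c) = L.z
      rw [← L.mem_C.1 hcC, inv_mul_cancel_left]
  obtain ⟨i, -, hi⟩ := L.sd.exists_rep hcS hnr
  set xS : ↥(L.S : Subgroup G) := ⟨L.r, L.sd.mem⟩
  set yS : ↥(L.S : Subgroup G) := ⟨L.s, L.sd.smem⟩
  have hval : ((xS ^ (i : ℤ) * yS : ↥(L.S : Subgroup G)) : G) = c * u * c⁻¹ := by
    rw [zpow_natCast, Subgroup.coe_mul, SubgroupClass.coe_pow, hi]
  have hie : (2 : ℤ) ∣ (i : ℤ) := L.qd.two_dvd_of_orderOf_eq_two (by
    rw [← Subgroup.orderOf_coe, hval, ← MulAut.conj_apply, MulEquiv.orderOf_eq, hu])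
  obtain ⟨j, hj⟩ := L.qd.conj_mul_y (i := (i : ℤ)) (j := 0) (by rw [zero_sub]; exact hie.neg_right)
  have hj' := congrArg Subtype.val hj
  rw [Subgroup.coe_mul, Subgroup.coe_mul, hval, zpow_zero, one_mul, Subgroup.coe_inv] at hj'
  set e := ((xS ^ j : ↥(L.S : Subgroup G)) : G) with he
  have heA : e ∈ L.A := by
    rw [he, Subgroup.coe_zpow]
    exact Subgroup.zpow_mem _ L.r_mem_A j
  have hfin : e * c * u * (e * c)⁻¹ = L.s := Eq.trans (by group) hj'
  rcases hNA (e * c) (mul_mem (hAN heA) hcN) with h | h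
  · exact ⟨(e * c)⁻¹, inv_mem h, by rw [← hfin]; group⟩
  · refine ⟨(L.s * (e * c))⁻¹, inv_mem ?_, ?_⟩
    · have := L.conj_A h
      rwa [L.s_inv, ← mul_assoc, mul_assoc _ L.s L.s, L.sd.s_sq, mul_one] at this
    · calc u = (e * c)⁻¹ * (e * c * u * (e * c)⁻¹) * (e * c) := by group
        _ = (e * c)⁻¹ * (L.s⁻¹ * L.s * L.s) * (e * c) := by rw [hfin, inv_mul_cancel, one_mul]
        _ = _ := by group

open scoped Classical in
theorem card_refl : (Finset.univ.filter fun u : G => orderOf u = 2 ∧ u * L.s ∈ L.A).card * L.c =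
    2 ^ t * Nat.card L.K := by
  set U := Finset.univ.filter fun u : G => orderOf u = 2 ∧ u * L.s ∈ L.A with hU
  have hs2 : orderOf L.s = 2 := orderOf_eq_prime (by rw [pow_two, L.sd.s_sq]) fun e => L.s_not_A (e ▸ one_mem _)
  have hmaps : ∀ b ∈ elts L.A, b * L.s * b⁻¹ ∈ U := fun b hb => by
    rw [mem_elts] at hb
    refine Finset.mem_filter.2 ⟨Finset.mem_univ _, by rw [← MulAut.conj_apply, MulEquiv.orderOf_eq, hs2], ?_⟩
    rw [show b * L.s * b⁻¹ * L.s = b * (L.s * b⁻¹ * L.s⁻¹) * (L.s * L.s) by group, L.sd.s_sq, mul_one]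
    exact mul_mem hb (L.conj_A (inv_mem hb))
  -- the centraliser of the reflection in `A`
  have hcent : ((elts L.A).filter fun a => a * L.s * a⁻¹ = L.s).card = 2 * L.c := by
    have hcK : L.c = ((elts L.K).filter fun k => k * L.s = L.s * k).card := by
      rw [Loc.c, ← card_elts]
      congr 1
      ext g
      rw [mem_elts, Finset.mem_filter, mem_elts, Subgroup.mem_inf, Subgroup.mem_centralizer_singleton_iff]
    have hzs : L.s * L.z = L.z * L.s := L.mem_C.1 L.s_mem_C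
    have hsplit : ((elts L.A).filter fun a => a * L.s * a⁻¹ = L.s) =
        ((elts L.K).filter fun k => k * L.s = L.s * k) ∪
          ((elts L.K).filter fun k => k * L.s = L.s * k).image (· * L.z) := by
      ext a
      simp only [Finset.mem_union, Finset.mem_image, Finset.mem_filter, mem_elts, mul_inv_eq_iff_eq_mul]
      constructor
      · rintro ⟨ha, hc⟩
        have hrot : L.rot a = sig t * L.rot a := by
          conv_lhs => rw [show a = L.s * a * L.s⁻¹ by rw [← hc]; group]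
          exact L.s_rot ha
        rcases (fixed_sig L.ht).1 hrot.symm with h | h
        · exact Or.inl ⟨⟨ha, h⟩, hc⟩
        · refine Or.inr ⟨a * L.z, ⟨⟨mul_mem ha L.z_mem_A, ?_⟩, ?_⟩, ?_⟩
          · rw [L.rot_mul ha L.z_mem_A, h, L.rot_mid, ← two_mul, two_mul_mid]
          · rw [mul_assoc, ← hzs, ← mul_assoc, hc, mul_assoc]
          · rw [mul_assoc, L.z_sq, mul_one]
      · rintro (⟨hk, hc⟩ | ⟨k, ⟨hk, hc⟩, rfl⟩)
        · exact ⟨hk.1, hc⟩
        · exact ⟨mul_mem hk.1 L.z_mem_A, by rw [mul_assoc, ← hzs, ← mul_assoc, hc, mul_assoc]⟩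
    rw [hsplit, Finset.card_union_of_disjoint, Finset.card_image_of_injective _ (mul_left_injective _), ← hcK]
    · ring
    · rw [Finset.disjoint_left]
      intro a ha ha'
      obtain ⟨k, hk, rfl⟩ := Finset.mem_image.1 ha'
      rw [Finset.mem_filter, mem_elts] at ha hk
      have := ha.1.2
      rw [L.rot_mul hk.1.1 L.z_mem_A, hk.1.2, L.rot_mid, zero_add] at this
      exact mid_ne_zero this
  have hA : (elts L.A).card = 2 ^ (t + 1) * Nat.card L.K := by
    have h := Finset.card_eq_sum_card_fiberwise (s := elts L.A) (f := L.rot) (t := Finset.univ)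
      (fun _ _ => Finset.mem_univ _)
    rw [h, Finset.sum_congr rfl (g := fun _ => Nat.card L.K) fun i _ => ?_, Finset.sum_const, Finset.card_univ,
      ZMod.card, smul_eq_mul]
    have h' := L.decomp_sum (fun _ => 1) i
    rw [Finset.sum_const, Finset.sum_const, smul_eq_mul, smul_eq_mul, mul_one, mul_one, card_elts] at h'
    exact h'.symm
  have h := Finset.card_eq_sum_card_fiberwise (s := elts L.A) (f := fun b => b * L.s * b⁻¹) (t := U)
    (fun b hb => hmaps b hb)
  rw [Finset.sum_congr rfl (g := fun _ => 2 * L.c) fun u hu => ?_, Finset.sum_const, smul_eq_mul, hA] at h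
  swap
  · obtain ⟨-, huo, hus⟩ := Finset.mem_filter.1 hu
    obtain ⟨b, hb, rfl⟩ := L.exists_conj_s huo hus
    rw [← hcent]
    refine Finset.card_bij' (fun a _ => b⁻¹ * a) (fun a _ => b * a) (fun a ha => ?_) (fun a ha => ?_)
      (fun a _ => mul_inv_cancel_left _ _) (fun a _ => inv_mul_cancel_left _ _)
    · rw [Finset.mem_filter, mem_elts] at ha ⊢
      refine ⟨mul_mem (inv_mem hb) ha.1, ?_⟩
      calc b⁻¹ * a * L.s * (b⁻¹ * a)⁻¹ = b⁻¹ * (a * L.s * a⁻¹) * b := by group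
        _ = L.s := by rw [ha.2]; group
    · rw [Finset.mem_filter, mem_elts] at ha ⊢
      refine ⟨mul_mem hb ha.1, ?_⟩
      calc b * a * L.s * (b * a)⁻¹ = b * (a * L.s * a⁻¹) * b⁻¹ := by group
        _ = b * L.s * b⁻¹ := by rw [ha.2]
  rw [pow_succ] at h
  nlinarith [h]

open scoped Classical in
theorem card_inverted (i : Rot t) (hi : i.val % 2 = 0) :
    ((elts L.A).filter fun a => L.rot a = i ∧ L.s * a * L.s⁻¹ = a⁻¹).card * L.c = Nat.card L.K := by
  set w := L.r ^ i.val * L.s with hw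
  have hsr : L.s * L.r ^ i.val * L.s⁻¹ = (L.r ^ i.val)⁻¹ :=
    L.sd.refl_pow_even L.sd.smem L.sd.s_not (Nat.dvd_of_mod_eq_zero hi)
  have hw2 : w * w = 1 := by
    calc w * w = L.r ^ i.val * (L.s * L.r ^ i.val * L.s⁻¹) * (L.s * L.s) := by rw [hw]; group
      _ = 1 := by rw [hsr, L.sd.s_sq, mul_inv_cancel, one_mul]
  have hwN : w ∈ Subgroup.normalizer (L.K : Set G) :=
    mul_mem (L.norm_K _ (Or.inl (pow_mem L.r_mem_A _))) (L.norm_K _ (Or.inr rfl))
  have h := Invol.card_fixed_mul_inverted hw2 L.K L.odd_card_K hwN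
  obtain ⟨d, hd, hdw⟩ : ∃ d ∈ L.A, d * L.s * d⁻¹ = w := by
    obtain ⟨b, hb, e⟩ := L.exists_conj_s (u := w) (orderOf_eq_prime (by rw [pow_two, hw2]) fun e =>
      L.s_not_A (by
        have := L.A.mul_mem (inv_mem (pow_mem L.r_mem_A i.val)) (e ▸ one_mem L.A : w ∈ L.A)
        rwa [hw, inv_mul_cancel_left] at this)) (by
        rw [hw, mul_assoc, L.sd.s_sq, mul_one]; exact pow_mem L.r_mem_A _)
    exact ⟨b, hb, e.symm⟩
  have hc : Nat.card ↥(L.K ⊓ centralizer ({w} : Set G)) = L.c := by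
    refine Nat.card_congr
      { toFun := fun k => ⟨d⁻¹ * k * d, ?_⟩
        invFun := fun k => ⟨d * k * d⁻¹, ?_⟩
        left_inv := fun k => Subtype.ext (by simp [mul_assoc])
        right_inv := fun k => Subtype.ext (by simp [mul_assoc]) }
    · refine ⟨((Subgroup.mem_normalizer_iff''.1 (L.norm_K d (Or.inl hd))) _).1 k.2.1, ?_⟩
      show d⁻¹ * (k : G) * d ∈ centralizer ({L.s} : Set G)
      rw [Subgroup.mem_centralizer_singleton_iff]
      have h2 := Subgroup.mem_centralizer_singleton_iff.1 k.2.2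
      have : (k : G) * (d * L.s * d⁻¹) = d * L.s * d⁻¹ * (k : G) := by rw [hdw]; exact h2
      calc d⁻¹ * (k : G) * d * L.s = d⁻¹ * ((k : G) * (d * L.s * d⁻¹)) * d := by group
        _ = d⁻¹ * ((d * L.s * d⁻¹) * (k : G)) * d := by rw [this]
        _ = _ := by group
    · refine ⟨((Subgroup.mem_normalizer_iff.1 (L.norm_K d (Or.inl hd))) _).1 k.2.1, ?_⟩
      show d * (k : G) * d⁻¹ ∈ centralizer ({w} : Set G)
      rw [Subgroup.mem_centralizer_singleton_iff, ← hdw]
      have := Subgroup.mem_centralizer_singleton_iff.1 k.2.2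
      calc d * (k : G) * d⁻¹ * (d * L.s * d⁻¹) = d * ((k : G) * L.s) * d⁻¹ := by group
        _ = _ := by rw [this]; group
  have hinv : Nat.card {x : G // x ∈ L.K ∧ w * x * w⁻¹ = x⁻¹} =
      ((elts L.A).filter fun a => L.rot a = i ∧ L.s * a * L.s⁻¹ = a⁻¹).card := by
    rw [Nat.card_eq_fintype_card, Fintype.card_subtype]
    have key : ∀ k : G, (w * k * w⁻¹ = k⁻¹ ↔ L.s * (k * L.r ^ i.val) * L.s⁻¹ = (k * L.r ^ i.val)⁻¹) := by
      intro k
      rw [show L.s * (k * L.r ^ i.val) * L.s⁻¹ = L.s * k * L.s⁻¹ * (L.s * L.r ^ i.val * L.s⁻¹) by group, hsr,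
        show w * k * w⁻¹ = L.r ^ i.val * (L.s * k * L.s⁻¹) * (L.r ^ i.val)⁻¹ by rw [hw]; group,
        mul_inv_rev]
      constructor
      · intro h'
        rw [← h']; group
      · intro h'
        rw [mul_assoc, h']; group
    refine Finset.card_bij' (fun k _ => k * L.r ^ i.val) (fun a _ => a * (L.r ^ i.val)⁻¹) (fun k hk => ?_)
      (fun a ha => ?_) (fun k _ => mul_inv_cancel_right _ _) (fun a _ => inv_mul_cancel_right _ _)
    · simp only [Finset.mem_filter, Finset.mem_univ, true_and] at hk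
      refine Finset.mem_filter.2 ⟨mem_elts.2 (mul_mem hk.1.1 (pow_mem L.r_mem_A _)), ?_, (key k).1 hk.2⟩
      rw [L.rot_mul hk.1.1 (pow_mem L.r_mem_A _), hk.1.2, L.rot_r_pow, zero_add]
    · rw [Finset.mem_filter, mem_elts] at ha
      simp only [Finset.mem_filter, Finset.mem_univ, true_and]
      refine ⟨⟨mul_mem ha.1 (inv_mem (pow_mem L.r_mem_A _)), ?_⟩, (key _).2 ?_⟩
      · rw [L.rot_mul ha.1 (inv_mem (pow_mem L.r_mem_A _)), L.rot_inv (pow_mem L.r_mem_A _), L.rot_r_pow, ha.2.1,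
          add_neg_cancel]
      · rw [inv_mul_cancel_right]; exact ha.2.2
  rw [hc, hinv] at h
  rw [h, mul_comm]

theorem inverters_two (i : Rot t) (hi : i.val % 4 = 2) :
    L.c ^ 2 * ∑ k ∈ elts L.K, (inverters (k * L.r ^ i.val)).card = 2 ^ t * Nat.card L.K ^ 2 := by
  classical
  set U := Finset.univ.filter fun u : G => orderOf u = 2 ∧ u * L.s ∈ L.A with hU
  set N0 := ((elts L.A).filter fun a => L.rot a = i ∧ L.s * a * L.s⁻¹ = a⁻¹).card with hN0
  have hne : i ≠ 0 ∧ i ≠ mid t := by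
    refine ⟨fun e => by rw [e, ZMod.val_zero] at hi; omega, fun e => ?_⟩
    rw [e, val_mid] at hi
    have : 4 ∣ 2 ^ t := pow_dvd_pow 2 L.ht
    omega
  have hsum : ∑ k ∈ elts L.K, (inverters (k * L.r ^ i.val)).card = U.card * N0 := by
    rw [L.decomp_sum (fun a => (inverters a).card) i]
    have e1 : ∀ a ∈ (elts L.A).filter (fun a => L.rot a = i),
        (inverters a).card = ∑ u ∈ U, if u * a * u⁻¹ = a⁻¹ then 1 else 0 := by
      intro a ha
      rw [Finset.mem_filter, mem_elts] at ha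
      rw [← Finset.card_filter]
      congr 1
      ext u
      simp only [inverters, hU, Finset.mem_filter, Finset.mem_univ, true_and]
      constructor
      · rintro ⟨h1, h2⟩
        exact ⟨⟨h1, (L.inv_even ha.1 (ha.2 ▸ hne.1) (ha.2 ▸ hne.2) h2).1⟩, h2⟩
      · rintro ⟨⟨h1, -⟩, h2⟩; exact ⟨h1, h2⟩
    rw [Finset.sum_congr rfl e1, Finset.sum_comm, Finset.sum_congr rfl (g := fun _ => N0) fun u hu => ?_,
      Finset.sum_const, smul_eq_mul]
    obtain ⟨-, huo, hus⟩ := Finset.mem_filter.1 hu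
    obtain ⟨b, hb, rfl⟩ := L.exists_conj_s huo hus
    rw [← Finset.card_filter, Finset.filter_filter, hN0]
    refine Finset.card_bij' (fun a _ => b⁻¹ * a * b) (fun a _ => b * a * b⁻¹) (fun a ha => ?_) (fun a ha => ?_)
      (fun a _ => by group) (fun a _ => by group)
    · rw [Finset.mem_filter, mem_elts] at ha ⊢
      refine ⟨mul_mem (mul_mem (inv_mem hb) ha.1) hb, ?_, ?_⟩
      · have := L.conj_rot ha.1 (inv_mem hb)
        rw [inv_inv] at this
        rw [this, ha.2.1]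
      · calc L.s * (b⁻¹ * a * b) * L.s⁻¹ = b⁻¹ * (b * L.s * b⁻¹ * a * (b * L.s * b⁻¹)⁻¹) * b := by group
          _ = (b⁻¹ * a * b)⁻¹ := by rw [ha.2.2]; group
    · rw [Finset.mem_filter, mem_elts] at ha ⊢
      refine ⟨mul_mem (mul_mem hb ha.1) (inv_mem hb), by rw [L.conj_rot ha.1 hb, ha.2.1], ?_⟩
      calc b * L.s * b⁻¹ * (b * a * b⁻¹) * (b * L.s * b⁻¹)⁻¹ = b * (L.s * a * L.s⁻¹) * b⁻¹ := by group
        _ = (b * a * b⁻¹)⁻¹ := by rw [ha.2.2]; group
  rw [hsum]
  calc L.c ^ 2 * (U.card * N0) = (U.card * L.c) * (N0 * L.c) := by ring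
    _ = 2 ^ t * Nat.card L.K * Nat.card L.K := by rw [L.card_refl, L.card_inverted i (by omega)]
    _ = _ := by ring

end Loc

end Cfsg.Agent.Invol.AlmostCyclic
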