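import Cfsg.Agent.Lib.Invol.AlmostCyclic.Vectors
import Cfsg.Agent.Lib.Invol.AlmostCyclic.Comb
import Cfsg.Agent.Lib.Block.Central

/-!
# The lattice of the lifts (for S4069)
-/

set_option autoImplicit false

open scoped ComplexConjugate

namespace Cfsg.Agent.Invol.AlmostCyclic

open Cfsg Cfsg.Agent.Char

universe u

variable {G : Type u} [Group G] [Fintype G] {t : ℕ}

/-- A quarter of the middle. -/
def xq (t : ℕ) : ℕ := 2 ^ (t - 2)

/-- The labels other than the three special ones. -/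
abbrev Lab (t : ℕ) := Fin (2 * xq t - 2) ⊕ Fin (2 * xq t)

/-- The exponent of a label. -/
def lab (t : ℕ) : Lab t → ℕ
  | Sum.inl j => if j.val + 1 < xq t then 2 * (j.val + 1) else 2 * (j.val + 2)
  | Sum.inr j => if j.val < xq t then 2 * j.val + 1 else 2 * j.val + 1 + 2 * xq t

theorem xq_eq (ht : 2 ≤ t) :
    2 ^ t = 4 * xq t ∧ 2 ^ (t + 1) = 8 * xq t ∧ 2 ^ (t - 1) = 2 * xq t ∧ 1 ≤ xq t := by
  obtain ⟨d, rfl⟩ : ∃ d, t = d + 2 := ⟨t - 2, by omega⟩
  simp only [xq, Nat.add_sub_cancel, show d + 2 - 1 = d + 1 by omega, pow_succ]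
  have : 0 < 2 ^ d := by positivity
  omega

theorem zz_natCast {a b : ℕ} (ha : a < 2 ^ (t + 1)) (hb : b < 2 ^ (t + 1)) :
    zz (a : Rot t) (b : Rot t) = (if a = b then 1 else 0) +
      (if b + a = b % 2 * 2 ^ t ∨ b + a = b % 2 * 2 ^ t + 2 ^ (t + 1) then 1 else 0) := by
  rw [zz]
  congr 1
  · exact if_congr (natCast_inj_lt ha hb) rfl rfl
  · exact if_congr (eq_comm.trans (sig_mul_natCast_eq_iff hb ha)) rfl rfl

theorem sgd_natCast {a b : ℕ} (ha : a < 2 ^ (t + 1)) (hb : b < 2 ^ (t + 1)) :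
    sgd (a : Rot t) (b : Rot t) = (-1) ^ a - (-1) ^ b := by
  rw [sgd, ZMod.val_natCast, ZMod.val_natCast, Nat.mod_eq_of_lt ha, Nat.mod_eq_of_lt hb]

/-- The facts about a label. -/
theorem lab_facts (ht : 2 ≤ t) (l : Lab t) : lab t l < 8 * xq t ∧ lab t l ≠ 0 ∧ lab t l ≠ 2 * xq t ∧
    lab t l ≠ 4 * xq t ∧ lab t l ≠ 6 * xq t := by
  have := (xq_eq ht).2.2.2
  rcases l with j | j <;> have := j.isLt <;> simp only [lab] <;> split_ifs <;> omega

theorem lab_lt (ht : 2 ≤ t) (l : Lab t) : lab t l < 2 ^ (t + 1) := by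
  rw [(xq_eq ht).2.1]; exact (lab_facts ht l).1

theorem lab_inl (j : Fin (2 * xq t - 2)) : lab t (Sum.inl j) % 2 = 0 := by
  simp only [lab]; split_ifs <;> omega

theorem lab_inr (j : Fin (2 * xq t)) : lab t (Sum.inr j) % 2 = 1 := by
  simp only [lab]; split_ifs <;> omega

theorem lab_pair (ht : 2 ≤ t) {l m : Lab t} (h : l ≠ m) : lab t l ≠ lab t m ∧
    lab t m + lab t l ≠ lab t m % 2 * (4 * xq t) ∧
    lab t m + lab t l ≠ lab t m % 2 * (4 * xq t) + 8 * xq t := by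
  have := (xq_eq ht).2.2.2
  rcases l with i | i <;> rcases m with j | j
  · have hij : i.val ≠ j.val := fun e => h (congrArg Sum.inl (Fin.ext e))
    rw [lab_inl]
    simp only [lab]; split_ifs <;> omega
  · rw [lab_inr]
    simp only [lab]; split_ifs <;> omega
  · rw [lab_inl]
    simp only [lab]; split_ifs <;> omega
  · have hij : i.val ≠ j.val := fun e => h (congrArg Sum.inr (Fin.ext e))
    rw [lab_inr]
    simp only [lab]; split_ifs <;> omega

theorem zero_cast : (0 : Rot t) = ((0 : ℕ) : Rot t) := Nat.cast_zero.symm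

theorem qua_lt (ht : 2 ≤ t) : 2 * xq t < 2 ^ (t + 1) := by
  have := xq_eq ht; omega

theorem mid_cast (ht : 2 ≤ t) : mid t = ((4 * xq t : ℕ) : Rot t) := by rw [mid, (xq_eq ht).1]

theorem qua_cast (ht : 2 ≤ t) : qua t = ((2 * xq t : ℕ) : Rot t) := by rw [qua, (xq_eq ht).2.2.1]

theorem sgd_even {a b : ℕ} (ha : a < 2 ^ (t + 1)) (hb : b < 2 ^ (t + 1)) (ea : Even a) (eb : Even b) :
    sgd (a : Rot t) (b : Rot t) = 0 := by
  rw [sgd_natCast ha hb, ea.neg_one_pow, eb.neg_one_pow, sub_self]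

theorem sgd_zero_qua (ht : 2 ≤ t) : sgd (0 : Rot t) (qua t) = 0 := by
  rw [zero_cast, qua_cast ht]
  exact sgd_even (by positivity) (qua_lt ht) Even.zero (even_two_mul _)

theorem sgd_zero_mid (ht : 2 ≤ t) : sgd (0 : Rot t) (mid t) = 0 := by
  rw [zero_cast, mid_cast ht]
  exact sgd_even (by positivity) (by have := xq_eq ht; omega) Even.zero ⟨2 * xq t, by ring⟩

theorem sgd_lab (ht : 2 ≤ t) (l : Lab t) :
    sgd ((lab t l : ℕ) : Rot t) (qua t) = -2 * ((lab t l % 2 : ℕ) : ℤ) := by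
  rw [qua_cast ht, sgd_natCast (lab_lt ht l) (qua_lt ht), (even_two_mul _).neg_one_pow]
  rcases Nat.even_or_odd (lab t l) with h | h
  · rw [h.neg_one_pow, Nat.even_iff.1 h]; norm_num
  · rw [h.neg_one_pow, Nat.odd_iff.1 h]; norm_num

namespace Cfg

variable (S : Cfg G t)

/-- The first vector. -/
noncomputable def v3 : G → ℂ := S.vec 1 0 (qua t) 0 0
/-- The second vector. -/
noncomputable def v4 : G → ℂ := S.vec 1 0 (mid t) 0 0
/-- The vector mixing rotations and the central section. -/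
noncomputable def v' : G → ℂ := S.vec (-1 / 2) 0 (mid t) (-4) (-2)
/-- The second column of the central section. -/
noncomputable def vu : G → ℂ := S.vec 0 0 0 4 (2 ^ t + 2)
/-- The vector of a label. -/
noncomputable def vh (l : Lab t) : G → ℂ := S.vec 1 ((lab t l : ℕ) : Rot t) (qua t) 0 (2 * ((lab t l % 2 : ℕ) : ℤ))

/-- An integral vector for a function. -/
def IsRep (v : G → ℂ) (f : IrrCharacter G → ℤ) : Prop :=
  ∀ χ : IrrCharacter G, classInner v (χ : G → ℂ) = f χ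

theorem row_or_null' (χ : IrrCharacter G) :
    ∃ i3 i4 i' iu : ℤ, ∃ ih : Lab t → ℤ, classInner S.v3 (χ : G → ℂ) = i3 ∧
      classInner S.v4 (χ : G → ℂ) = i4 ∧ classInner S.v' (χ : G → ℂ) = i' ∧
      classInner S.vu (χ : G → ℂ) = iu ∧ ∀ l, classInner (S.vh l) (χ : G → ℂ) = ih l := by
  rcases S.row_or_null χ with ⟨m, d0, d1, R⟩ | h
  · obtain ⟨q, hq⟩ := even_value_mid S.ht m R.sym
    rw [← R.value_mid] at hq
    obtain ⟨w, hw⟩ : ∃ w, d0 + (m 0 - m (mid t)) = w + w := by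
      obtain ⟨d, hd⟩ : ∃ d, (2 : ℤ) ^ t = 2 * d := ⟨2 ^ (t - 1), by
        rw [← pow_succ', Nat.sub_add_cancel S.one_le]⟩
      exact ⟨q + m 0 + d1 - d1 * S.η * d, by rw [hd] at hq; linarith⟩
    refine ⟨m 0 - m (qua t), m 0 - m (mid t), -w, d1,
      fun l => m ((lab t l : ℕ) : Rot t) - m (qua t) + ((lab t l % 2 : ℕ) : ℤ) * (S.η * d1), ?_, ?_, ?_, ?_, ?_⟩
    · rw [v3, R.inner_vec, sgd_zero_qua S.ht]; push_cast; ring
    · rw [v4, R.inner_vec, sgd_zero_mid S.ht]; push_cast; ring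
    · have hwC : (d0 : ℂ) + ((m 0 : ℂ) - m (mid t)) = (w : ℂ) + w := by exact_mod_cast hw
      rw [v', R.inner_vec, sgd_zero_mid S.ht]
      push_cast
      field_simp
      linear_combination (-(2 ^ t : ℂ) * 16) * hwC
    · rw [vu, R.inner_vec]
      push_cast
      field_simp
      ring
    · intro l
      rw [vh, R.inner_vec, sgd_lab S.ht]
      push_cast
      field_simp
      ring
  · exact ⟨0, 0, 0, 0, fun _ => 0, by rw [v3, h]; simp, by rw [v4, h]; simp, by rw [v', h]; simp,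
      by rw [vu, h]; simp, fun l => by rw [vh, h]; simp⟩

/-- The vectors. -/
theorem exists_reps : ∃ e3 e4 e' iu : IrrCharacter G → ℤ, ∃ ih : Lab t → IrrCharacter G → ℤ,
    IsRep S.v3 e3 ∧ IsRep S.v4 e4 ∧ IsRep S.v' e' ∧ IsRep S.vu iu ∧ ∀ l, IsRep (S.vh l) (ih l) := by
  choose a b c d h ha hb hc hd hh using S.row_or_null'
  exact ⟨a, b, c, d, fun l χ => h χ l, ha, hb, hc, hd, fun l χ => hh χ l⟩

theorem ip_rep {v w : G → ℂ} (hv : IsClassFunction G v) (hw : IsClassFunction G w)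
    {f g : IrrCharacter G → ℤ} (hf : IsRep v f) (hg : IsRep w g) {n : ℤ} (h : classInner v w = n) :
    ip f g = n := by
  have h' : classInner v w = ∑ φ : IrrCharacter G, (f φ : ℂ) * (g φ : ℂ) := by
    conv_lhs => rw [classFunction_expansion hv, classFunction_expansion hw]
    rw [classInner_sum_sum]
    exact Finset.sum_congr rfl fun φ _ => by rw [hf, hg, map_intCast]
  rw [h] at h'
  exact_mod_cast h'.symm

theorem zz_values (ht : 2 ≤ t) :
    zz (0 : Rot t) 0 = 2 ∧ zz (0 : Rot t) (qua t) = 0 ∧ zz (0 : Rot t) (mid t) = 0 ∧ zz (qua t) 0 = 0 ∧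
      zz (qua t) (qua t) = 1 ∧ zz (qua t) (mid t) = 0 ∧ zz (mid t) 0 = 0 ∧ zz (mid t) (qua t) = 0 ∧
      zz (mid t) (mid t) = 2 := by
  obtain ⟨h1, h2, -, hX⟩ := xq_eq ht
  have e0 : (0 : ℕ) < 2 ^ (t + 1) := by positivity
  have eg : 2 * xq t < 2 ^ (t + 1) := by omega
  have em : 4 * xq t < 2 ^ (t + 1) := by omega
  have p1 : 2 * xq t % 2 = 0 := by omega
  have p2 : 4 * xq t % 2 = 0 := by omega
  rw [zero_cast, qua_cast ht, mid_cast ht, zz_natCast e0 e0, zz_natCast e0 eg, zz_natCast e0 em,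
    zz_natCast eg e0, zz_natCast eg eg, zz_natCast eg em, zz_natCast em e0, zz_natCast em eg, zz_natCast em em,
    p1, p2]
  simp only [Nat.zero_mod, zero_mul, h2]
  refine ⟨?_, ?_, ?_, ?_, ?_, ?_, ?_, ?_, ?_⟩ <;> split_ifs <;> omega

theorem zz_lab (ht : 2 ≤ t) (l : Lab t) :
    zz ((lab t l : ℕ) : Rot t) 0 = 0 ∧ zz ((lab t l : ℕ) : Rot t) (qua t) = 0 ∧
      zz ((lab t l : ℕ) : Rot t) (mid t) = 0 ∧ zz 0 ((lab t l : ℕ) : Rot t) = 0 ∧
      zz (qua t) ((lab t l : ℕ) : Rot t) = 0 ∧ zz (mid t) ((lab t l : ℕ) : Rot t) = 0 ∧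
      zz ((lab t l : ℕ) : Rot t) ((lab t l : ℕ) : Rot t) = 1 := by
  obtain ⟨h1, h2, -, hX⟩ := xq_eq ht
  obtain ⟨f1, f2, f3, f4, f5⟩ := lab_facts ht l
  have el := lab_lt ht l
  have e0 : (0 : ℕ) < 2 ^ (t + 1) := by positivity
  have eg : 2 * xq t < 2 ^ (t + 1) := by omega
  have em : 4 * xq t < 2 ^ (t + 1) := by omega
  have p1 : 2 * xq t % 2 = 0 := by omega
  have p2 : 4 * xq t % 2 = 0 := by omega
  rw [zero_cast, qua_cast ht, mid_cast ht, zz_natCast el e0, zz_natCast el eg, zz_natCast el em,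
    zz_natCast e0 el, zz_natCast eg el, zz_natCast em el, zz_natCast el el, p1, p2]
  simp only [Nat.zero_mod, zero_mul, h1, h2]
  rcases Nat.mod_two_eq_zero_or_one (lab t l) with p | p <;> rw [p] <;>
    refine ⟨?_, ?_, ?_, ?_, ?_, ?_, ?_⟩ <;> split_ifs <;> omega

theorem zz_lab_lab (ht : 2 ≤ t) {l m : Lab t} (h : l ≠ m) :
    zz ((lab t l : ℕ) : Rot t) ((lab t m : ℕ) : Rot t) = 0 := by
  obtain ⟨f1, f2, f3⟩ := lab_pair ht h
  obtain ⟨h1, h2, -, -⟩ := xq_eq ht
  rw [zz_natCast (lab_lt ht l) (lab_lt ht m), h1, h2, if_neg f1, if_neg (by tauto), add_zero]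

/-- The row of the trivial character. -/
theorem row_one :
    S.Row (Block.trivialIrr G) (fun l => if l = 0 then 1 else 0) 1 0 := by
  refine ⟨fun l => ?_, fun l => ?_, fun k _ => by simp [Block.trivialIrr]⟩
  · have hav : ∀ i, S.avg ((Block.trivialIrr G : IrrCharacter G) : G → ℂ) i = 1 := fun i => by
      rw [avg]
      simp [Block.trivialIrr, card_elts, Nat.card_pos.ne']
    rw [coef, Finset.sum_congr rfl fun i _ => by rw [hav i, one_mul, show -(l * i) = i * -l by ring],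
      sum_ev]
    simp only [neg_eq_zero]
    split_ifs <;> simp
  · refine if_congr ⟨fun h => ?_, fun h => ?_⟩ rfl rfl
    · rw [(sig_mul_eq_comm S.one_le).1 h, mul_zero]
    · rw [h, mul_zero]

theorem rep_one {v : G → ℂ} {f : IrrCharacter G → ℤ} (hf : IsRep v f) {n : ℤ}
    (h : classInner v ((Block.trivialIrr G : IrrCharacter G) : G → ℂ) = n) :
    f (Block.trivialIrr G) = n := by
  rw [hf] at h
  exact_mod_cast h

/-- The Gram data of the configuration. -/
theorem exists_liftData : ∃ (e3 e4 e' iu : IrrCharacter G → ℤ) (ih : Lab t → IrrCharacter G → ℤ)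
    (E O : Finset (Lab t)), IsRep S.v3 e3 ∧ IsRep S.v4 e4 ∧ IsRep S.v' e' ∧ IsRep S.vu iu ∧
      LiftData (Block.trivialIrr G) E O e3 e4 e' iu ih (2 ^ t) := by
  classical
  obtain ⟨e3, e4, e', iu, ih, r3, r4, r', ru, rh⟩ := S.exists_reps
  refine ⟨e3, e4, e', iu, ih, (Finset.univ.map Function.Embedding.inl),
    (Finset.univ.map Function.Embedding.inr), r3, r4, r', ru, ?_⟩
  have ht := S.ht
  obtain ⟨z00, z0g, z0m, zg0, zgg, zgm, zm0, zmg, zmm⟩ := zz_values ht
  obtain ⟨h1, -, -, hX⟩ := xq_eq ht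
  have c3 : IsClassFunction G S.v3 := S.vec_classFun _ _ _ _ _
  have c4 : IsClassFunction G S.v4 := S.vec_classFun _ _ _ _ _
  have c' : IsClassFunction G S.v' := S.vec_classFun _ _ _ _ _
  have cu : IsClassFunction G S.vu := S.vec_classFun _ _ _ _ _
  have ch : ∀ l, IsClassFunction G (S.vh l) := fun l => S.vec_classFun _ _ _ _ _
  have R := S.row_one
  have hq0 : qua t ≠ 0 := fun e => by rw [e, z00] at zgg; norm_num at zgg
  have hm0 : mid t ≠ 0 := mid_ne_zero
  have hl0 : ∀ l, ((lab t l : ℕ) : Rot t) ≠ 0 := fun l e => by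
    have := (zz_lab ht l).2.2.2.2.2.2
    rw [e, z00] at this
    norm_num at this
  refine
    { o3 := rep_one r3 ?_, o4 := rep_one r4 ?_, o' := rep_one r' ?_, ou := rep_one ru ?_,
      oh := fun l => rep_one (rh l) ?_,
      n3 := ip_rep c3 c3 r3 r3 ?_, n4 := ip_rep c4 c4 r4 r4 ?_, n' := ip_rep c' c' r' r' ?_,
      nu := ip_rep cu cu ru ru ?_, i34 := ip_rep c3 c4 r3 r4 ?_, i3' := ip_rep c3 c' r3 r' ?_,
      i4' := ip_rep c4 c' r4 r' ?_, i3h := fun l => ip_rep c3 (ch l) r3 (rh l) ?_,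
      i4h := fun l => ip_rep c4 (ch l) r4 (rh l) ?_, i'h := fun l => ip_rep c' (ch l) r' (rh l) ?_,
      nh := fun l => ip_rep (ch l) (ch l) (rh l) (rh l) ?_,
      ihh := fun l m hlm => ip_rep (ch l) (ch m) (rh l) (rh m) ?_,
      i3u := ip_rep c3 cu r3 ru ?_, i4u := ip_rep c4 cu r4 ru ?_, i'u := ip_rep c' cu r' ru ?_,
      ihE := fun l hl => ip_rep (ch l) cu (rh l) ru ?_, ihO := fun l hl => ip_rep (ch l) cu (rh l) ru ?_,
      disj := ?_, cardO := ?_, cardE := ?_, four_le := ?_ }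
  · rw [v3, R.inner_vec, sgd_zero_qua ht]; simp [hq0]
  · rw [v4, R.inner_vec, sgd_zero_mid ht]; simp [hm0]
  · rw [v', R.inner_vec, sgd_zero_mid ht]; simp [hm0]; field_simp; ring
  · rw [vu, R.inner_vec]; simp
  · rw [vh, R.inner_vec, sgd_lab ht]; simp [hl0, hq0]; field_simp; ring
  · simp only [v3, S.inner_vec, zzd, sgd_zero_qua ht, z00, z0g, zg0, zgg]; push_cast; ring
  · simp only [v4, S.inner_vec, zzd, sgd_zero_mid ht, z00, z0m, zm0, zmm]; push_cast; ring
  · simp only [v', S.inner_vec, zzd, sgd_zero_mid ht, z00, z0m, zm0, zmm]; push_cast; field_simp; ring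
  · simp only [vu, S.inner_vec]; push_cast; field_simp; ring
  · simp only [v3, v4, S.inner_vec, zzd, sgd_zero_qua ht, z00, z0m, zg0, zgm]; push_cast; ring
  · simp only [v3, v', S.inner_vec, zzd, sgd_zero_qua ht, z00, z0m, zg0, zgm]; push_cast; ring
  · simp only [v4, v', S.inner_vec, zzd, sgd_zero_mid ht, z00, z0m, zm0, zmm]; push_cast; ring
  · obtain ⟨a1, a2, a3, a4, a5, a6, a7⟩ := zz_lab ht l
    simp only [v3, vh, S.inner_vec, zzd, sgd_zero_qua ht, a4, a5, z0g, zgg]; push_cast; ring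
  · obtain ⟨a1, a2, a3, a4, a5, a6, a7⟩ := zz_lab ht l
    simp only [v4, vh, S.inner_vec, zzd, sgd_zero_mid ht, a4, a6, z0g, zmg]; push_cast; ring
  · obtain ⟨a1, a2, a3, a4, a5, a6, a7⟩ := zz_lab ht l
    simp only [v', vh, S.inner_vec, zzd, sgd_zero_mid ht, a4, a6, z0g, zmg]; push_cast; ring
  · obtain ⟨a1, a2, a3, a4, a5, a6, a7⟩ := zz_lab ht l
    simp only [vh, S.inner_vec, zzd, sgd_lab ht, a2, a5, a7, zgg]
    rcases Nat.mod_two_eq_zero_or_one (lab t l) with p | p <;> rw [p] <;> push_cast <;> field_simp <;> ring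
  · obtain ⟨a1, a2, -, -, -, -, -⟩ := zz_lab ht l
    obtain ⟨-, -, -, -, b5, -, -⟩ := zz_lab ht m
    simp only [vh, S.inner_vec, zzd, sgd_lab ht, zz_lab_lab ht hlm, a2, b5, zgg]
    rcases Nat.mod_two_eq_zero_or_one (lab t l) with p | p <;>
      rcases Nat.mod_two_eq_zero_or_one (lab t m) with p' | p' <;>
      rw [p, p'] <;> push_cast <;> field_simp <;> ring
  · simp only [v3, vu, S.inner_vec, sgd_zero_qua ht]; push_cast; ring
  · simp only [v4, vu, S.inner_vec, sgd_zero_mid ht]; push_cast; ring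
  · simp only [v', vu, S.inner_vec, sgd_zero_mid ht]; push_cast; field_simp; ring
  · obtain ⟨j, -, rfl⟩ := Finset.mem_map.1 hl
    simp only [vh, vu, S.inner_vec, Function.Embedding.inl_apply, lab_inl]; push_cast; ring
  · obtain ⟨j, -, rfl⟩ := Finset.mem_map.1 hl
    simp only [vh, vu, S.inner_vec, Function.Embedding.inr_apply, lab_inr]; push_cast; field_simp; ring
  · rw [Finset.disjoint_left]
    intro x hx hx'
    obtain ⟨a, -, rfl⟩ := Finset.mem_map.1 hx
    obtain ⟨b, -, hb⟩ := Finset.mem_map.1 hx'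
    exact Sum.inr_ne_inl hb
  · rw [Finset.card_map, Finset.card_univ, Fintype.card_fin]
    have : ((2 : ℤ) ^ t) = ((4 * xq t : ℕ) : ℤ) := by rw [← h1]; norm_num
    rw [this]; push_cast; ring
  · rw [Finset.card_map, Finset.card_univ, Fintype.card_fin]
    have : ((2 : ℤ) ^ t) = ((4 * xq t : ℕ) : ℤ) := by rw [← h1]; norm_num
    rw [this, Nat.cast_sub (by omega)]; push_cast; ring
  · have : ((2 : ℤ) ^ t) = ((4 * xq t : ℕ) : ℤ) := by rw [← h1]; norm_num
    rw [this]; push_cast; linarith [show (1 : ℤ) ≤ xq t by exact_mod_cast hX]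

end Cfg

end Cfsg.Agent.Invol.AlmostCyclic
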