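import Cfsg.Agent.Lib.Invol.AlmostCyclic.Roots
import Cfsg.Agent.Lib.Char.Induce

/-!
# Lifted class functions (for S4069)

`Cfg` records what the semidihedral configuration gives locally; functions on the rotations and on the
central section are lifted to the group.
-/

set_option autoImplicit false

open scoped ComplexConjugate

namespace Cfsg.Agent.Invol.AlmostCyclic

open Cfsg Cfsg.Agent.Char

universe u

variable {G : Type u} [Group G] [Fintype G] {t : ℕ}

open scoped Classical in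
/-- The elements of a subgroup. -/
noncomputable def elts (H : Subgroup G) : Finset G := Finset.univ.filter (· ∈ H)

theorem mem_elts {H : Subgroup G} {g : G} : g ∈ elts H ↔ g ∈ H := by simp [elts]

theorem card_elts (H : Subgroup G) : (elts H).card = Nat.card H := by
  classical
  rw [Nat.card_eq_fintype_card, Fintype.card_subtype, elts]

theorem sum_subgroup {H : Subgroup G} [Fintype H] (F : G → ℂ) : ∑ h : H, F h = ∑ g ∈ elts H, F g :=
  (Finset.sum_subtype (elts H) (fun _ => mem_elts) F).symm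

open scoped Classical in
/-- The elements of odd order of a subgroup. -/
noncomputable def regElts (H : Subgroup G) : Finset G :=
  Finset.univ.filter fun g => g ∈ H ∧ Odd (orderOf g)

theorem mem_regElts {H : Subgroup G} {g : G} : g ∈ regElts H ↔ g ∈ H ∧ Odd (orderOf g) := by
  simp [regElts]

open scoped Classical in
/-- The involutions inverting an element. -/
noncomputable def inverters (a : G) : Finset G :=
  Finset.univ.filter fun u => orderOf u = 2 ∧ u * a * u⁻¹ = a⁻¹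

/-- The local data of the semidihedral configuration. -/
structure Cfg (G : Type u) [Group G] [Fintype G] (t : ℕ) where
  P : ℤ
  η : ℤ
  c : ℕ
  z : G
  s : G
  r : G
  A : Subgroup G
  K : Subgroup G
  C : Subgroup G
  rot : G → Rot t
  φ : G → ℤ
  ht : 2 ≤ t
  perfect : Group.IsPerfect G
  r_mem : r ∈ A
  rot_r : rot r = 1
  rot_mul : ∀ a ∈ A, ∀ b ∈ A, rot (a * b) = rot a + rot b
  K_iff : ∀ a, a ∈ K ↔ a ∈ A ∧ rot a = 0
  order_r : orderOf r = 2 ^ (t + 1)
  z_eq : z = r ^ 2 ^ t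
  K_odd : Odd (Nat.card K)
  C_iff : ∀ g, g ∈ C ↔ g * z = z * g
  A_le : A ≤ C
  s_sq : s * s = 1
  s_not : s ∉ A
  s_conj : ∀ a ∈ A, s * a * s⁻¹ ∈ A ∧ rot (s * a * s⁻¹) = sig t * rot a
  ti : ∀ a ∈ A, rot a ≠ 0 → rot a ≠ mid t → ∀ x, x * a * x⁻¹ ∈ A → x ∈ A ∨ x * s ∈ A
  one_class : ∀ u : G, orderOf u = 2 → IsConj z u
  φ_class : ∀ g ∈ C, ∀ h ∈ C, φ (g * h * g⁻¹) = φ h
  φ_one : φ 1 = P - 1
  m00 : 8 * 2 ^ t * ((regElts C).card : ℤ) = (2 ^ t + 2) * (Nat.card C : ℤ)
  m01 : 2 * 2 ^ t * ∑ k ∈ regElts C, φ k = -(Nat.card C : ℤ)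
  m11 : 2 ^ t * ∑ k ∈ regElts C, φ k * φ k = (Nat.card C : ℤ)
  φ_K : ∑ k ∈ elts K, φ k = (Nat.card K : ℤ) * (η * 2 ^ t - 2)
  block : ∀ χ : IrrCharacter G,
    (∃ d0 d1 : ℤ, ∀ k ∈ regElts C, (χ : G → ℂ) (z * k) = d0 + d1 * φ k) ∨
      ((∀ i : Rot t, i ≠ 0 → i ≠ mid t → ∑ k ∈ elts K, (χ : G → ℂ) (k * r ^ i.val) = 0) ∧
        ∑ k ∈ regElts C, (χ : G → ℂ) (z * k) = 0 ∧
        ∑ k ∈ regElts C, (χ : G → ℂ) (z * k) * φ k = 0)
  inv_odd : ∀ i : Rot t, i.val % 2 = 1 → ∀ k ∈ K, inverters (k * r ^ i.val) = ∅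
  inv_two : ∀ i : Rot t, i.val % 4 = 2 →
    c ^ 2 * ∑ k ∈ elts K, (inverters (k * r ^ i.val)).card = 2 ^ t * Nat.card K ^ 2

theorem two_mul_eq_zero_iff (ht : 1 ≤ t) {i : Rot t} : i + i = 0 ↔ i = 0 ∨ i = mid t := by
  constructor
  · intro h
    obtain ⟨k, hk, rfl⟩ : ∃ k : ℕ, k < 2 ^ (t + 1) ∧ (k : Rot t) = i :=
      ⟨i.val, i.val_lt, ZMod.natCast_zmod_val i⟩
    rw [← Nat.cast_add, ZMod.natCast_eq_zero_iff] at h
    obtain ⟨q, hq⟩ := h
    have hn : 2 ^ (t + 1) = 2 * 2 ^ t := pow_succ' 2 t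
    rw [← Nat.cast_zero, natCast_inj_lt hk (by positivity), mid, natCast_inj_lt hk (by omega)]
    rcases q with _ | _ | q
    · omega
    · omega
    · exfalso
      rw [Nat.mul_add, Nat.mul_add] at hq
      omega
  · rintro (rfl | rfl)
    · exact add_zero 0
    · rw [← two_mul, two_mul_mid]

theorem mid_ne_zero : mid t ≠ 0 := fun h => by
  rw [mid, ZMod.natCast_eq_zero_iff] at h
  have := Nat.le_of_dvd (by positivity) h
  rw [pow_succ] at this
  have : 0 < 2 ^ t := by positivity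
  omega

theorem val_mid : (mid t).val = 2 ^ t := by
  rw [mid, ZMod.val_natCast, Nat.mod_eq_of_lt (Nat.pow_lt_pow_succ one_lt_two)]

/-- A sum over the rotations outside the centre. -/
noncomputable def rotSum (F : Rot t → ℂ) : ℂ :=
  ∑ i ∈ (Finset.univ.erase (0 : Rot t)).erase (mid t), F i

theorem rotSum_eq (F : Rot t → ℂ) : rotSum F = ∑ i, F i - F 0 - F (mid t) := by
  rw [rotSum, Finset.sum_erase_eq_sub (Finset.mem_erase.2 ⟨mid_ne_zero, Finset.mem_univ _⟩),
    Finset.sum_erase_eq_sub (Finset.mem_univ _)]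

namespace Cfg

variable (S : Cfg G t)

theorem rot_one : S.rot 1 = 0 := by
  have h := S.rot_mul 1 (one_mem _) 1 (one_mem _)
  rw [one_mul] at h
  simpa using h

theorem rot_inv {a : G} (ha : a ∈ S.A) : S.rot a⁻¹ = -S.rot a := by
  have h := S.rot_mul a ha a⁻¹ (inv_mem ha)
  rw [mul_inv_cancel, S.rot_one] at h
  exact eq_neg_of_add_eq_zero_right h.symm

theorem rot_pow {a : G} (ha : a ∈ S.A) (n : ℕ) : S.rot (a ^ n) = n • S.rot a := by
  induction n with
  | zero => rw [pow_zero, S.rot_one, zero_smul]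
  | succ n ih => rw [pow_succ, S.rot_mul _ (pow_mem ha n) _ ha, ih, succ_nsmul]

theorem rot_conj {a b : G} (ha : a ∈ S.A) (hb : b ∈ S.A) : S.rot (b * a * b⁻¹) = S.rot a := by
  rw [S.rot_mul _ (mul_mem hb ha) _ (inv_mem hb), S.rot_mul _ hb _ ha, S.rot_inv hb]
  abel

theorem rot_r_pow (i : Rot t) : S.rot (S.r ^ i.val) = i := by
  rw [S.rot_pow S.r_mem, S.rot_r, nsmul_eq_mul, mul_one, ZMod.natCast_zmod_val]

theorem z_sq : S.z * S.z = 1 := by
  rw [S.z_eq, ← pow_add, ← two_mul, ← pow_succ', ← S.order_r, pow_orderOf_eq_one]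

theorem z_inv : S.z⁻¹ = S.z := inv_eq_of_mul_eq_one_right S.z_sq

theorem z_mem : S.z ∈ S.A := S.z_eq ▸ pow_mem S.r_mem _

theorem z_memC : S.z ∈ S.C := S.A_le S.z_mem

theorem comm_z {g : G} (hg : g ∈ S.C) : g * S.z = S.z * g := (S.C_iff g).1 hg

theorem r_pow_mid : S.r ^ (mid t).val = S.z := by rw [val_mid, S.z_eq]

theorem K_le : S.K ≤ S.A := fun a ha => ((S.K_iff a).1 ha).1

theorem odd_of_mem_K {k : G} (hk : k ∈ S.K) : Odd (orderOf k) :=
  Odd.of_dvd_nat S.K_odd (Subgroup.orderOf_dvd_natCard S.K hk)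

/-- The decomposition of the subgroup `A`. -/
theorem sum_A (F : G → ℂ) : ∑ a ∈ elts S.A, F a = ∑ i : Rot t, ∑ k ∈ elts S.K, F (k * S.r ^ i.val) := by
  rw [Finset.sum_comm (s := (Finset.univ : Finset (Rot t))), ← Finset.sum_product']
  refine Finset.sum_nbij' (fun a : G => ((a * (S.r ^ (S.rot a).val)⁻¹, S.rot a) : G × Rot t))
    (fun q : G × Rot t => q.1 * S.r ^ q.2.val) (fun a ha => ?_) (fun q hq => ?_) (fun a _ => ?_) (fun q hq => ?_)
    (fun a _ => ?_)
  · rw [mem_elts] at ha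
    rw [Finset.mem_product]
    refine ⟨mem_elts.2 ((S.K_iff _).2 ⟨mul_mem ha (inv_mem (pow_mem S.r_mem _)), ?_⟩), Finset.mem_univ _⟩
    rw [S.rot_mul _ ha _ (inv_mem (pow_mem S.r_mem _)), S.rot_inv (pow_mem S.r_mem _), S.rot_r_pow,
      add_neg_cancel]
  · rw [Finset.mem_product, mem_elts] at hq
    exact mem_elts.2 (mul_mem (S.K_le hq.1) (pow_mem S.r_mem _))
  · exact inv_mul_cancel_right _ _
  · rw [Finset.mem_product, mem_elts] at hq
    have h : S.rot (q.1 * S.r ^ q.2.val) = q.2 := by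
      rw [S.rot_mul _ (S.K_le hq.1) _ (pow_mem S.r_mem _), S.rot_r_pow, ((S.K_iff _).1 hq.1).2, zero_add]
    simp only [h, mul_inv_cancel_right, Prod.mk.eta]
  · rw [inv_mul_cancel_right]

theorem rot_eq_of_mem {i : Rot t} {k : G} (hk : k ∈ S.K) : S.rot (k * S.r ^ i.val) = i := by
  rw [S.rot_mul _ (S.K_le hk) _ (pow_mem S.r_mem _), S.rot_r_pow, ((S.K_iff _).1 hk).2, zero_add]

theorem card_A : Nat.card S.A = 2 ^ (t + 1) * Nat.card S.K := by
  have h := S.sum_A fun _ => (1 : ℂ)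
  simp only [Finset.sum_const, Finset.card_univ, ZMod.card, card_elts, nsmul_eq_mul, mul_one] at h
  exact_mod_cast h

theorem rot_of_sq_odd {a : G} (ha : a ∈ S.A) (h : Odd (orderOf (a * a))) :
    S.rot a = 0 ∨ S.rot a = mid t := by
  refine (two_mul_eq_zero_iff (by linarith [S.ht])).1 ?_
  have h1 := S.rot_pow (mul_mem ha ha) (orderOf (a * a))
  rw [pow_orderOf_eq_one, S.rot_one, nsmul_eq_mul, S.rot_mul a ha a ha] at h1
  refine (IsUnit.mul_right_eq_zero ((ZMod.isUnit_iff_coprime _ _).2 ?_)).1 h1.symm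
  exact Nat.Coprime.pow_right _ ((Nat.prime_two.coprime_iff_not_dvd.2 fun h2 => by
    rw [Nat.odd_iff] at h; omega).symm)

theorem zk_sq {k : G} (hk : k ∈ S.C) : S.z * k * (S.z * k) = k * k := by
  calc S.z * k * (S.z * k) = S.z * (k * S.z) * k := by group
    _ = S.z * (S.z * k) * k := by rw [S.comm_z hk]
    _ = k * k := by rw [← mul_assoc S.z, S.z_sq, one_mul]

theorem odd_sq {k : G} (hk : Odd (orderOf k)) : Odd (orderOf (k * k)) := by
  rw [← pow_two]
  exact Odd.of_dvd_nat hk (orderOf_pow_dvd 2)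

open scoped Classical in
/-- The function on `A` supported outside the centre. -/
noncomputable def rotG (θ : Rot t → ℂ) (a : G) : ℂ :=
  if S.rot a = 0 ∨ S.rot a = mid t then 0 else θ (S.rot a) / 2

open scoped Classical in
/-- The function on `C` supported on the central section. -/
noncomputable def cenG (h : G → ℂ) (g : G) : ℂ :=
  if Odd (orderOf (S.z * g)) then h (S.z * g) else 0

/-- The lift of a function on the rotations and one on the central section. -/
noncomputable def lift (θ : Rot t → ℂ) (h : G → ℂ) : G → ℂ :=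
  indFun S.A (fun a : S.A => S.rotG θ a) + indFun S.C (fun g : S.C => S.cenG h g)

theorem lift_classFun (θ : Rot t → ℂ) (h : G → ℂ) : IsClassFunction G (S.lift θ h) := by
  intro g y
  simp only [lift, Pi.add_apply]
  rw [indFun_classFun S.A _ g y, indFun_classFun S.C _ g y]

theorem lift_one (θ : Rot t → ℂ) (h : G → ℂ) : S.lift θ h 1 = 0 := by
  have hz : ¬ Odd (orderOf S.z) := by
    have hne : S.z ≠ 1 := fun e => by
      have h1 := congrArg S.rot e
      rw [← S.r_pow_mid, S.rot_r_pow, S.rot_one] at h1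
      exact mid_ne_zero h1
    rw [orderOf_eq_prime (by rw [pow_two, S.z_sq]) hne]
    exact fun h2 => by rw [Nat.odd_iff] at h2; omega
  simp only [lift, Pi.add_apply, indFun_one_eq]
  simp [rotG, cenG, S.rot_one, hz]

/-- The value of a lift on a rotation. -/
theorem lift_rot {θ : Rot t → ℂ} (hθ : ∀ i, θ (sig t * i) = θ i) (h : G → ℂ) {a : G} (ha : a ∈ S.A)
    (h0 : S.rot a ≠ 0) (h1 : S.rot a ≠ mid t) : S.lift θ h a = θ (S.rot a) := by
  classical
  have hcen : indFun S.C (fun g : S.C => S.cenG h g) a = 0 := by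
    refine indFun_eq_zero_of_not_conj _ _ fun x hx => ?_
    simp only [cenG]
    rw [if_neg]
    intro hodd
    have h2 : Odd (orderOf (a * a)) := by
      have h3 := odd_sq hodd
      rw [S.zk_sq hx, show x⁻¹ * a * x * (x⁻¹ * a * x) = x⁻¹ * (a * a) * (x⁻¹)⁻¹ by group] at h3
      rwa [← MulAut.conj_apply, MulEquiv.orderOf_eq] at h3
    exact (S.rot_of_sq_odd ha h2).elim h0 h1
  rw [lift, Pi.add_apply, hcen, add_zero, indFun]
  have hext : ∀ x : G, extendByZero S.A (fun b : S.A => S.rotG θ b) (x⁻¹ * a * x) =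
      (if x ∈ S.A then θ (S.rot a) / 2 else 0) + if x⁻¹ * S.s ∈ S.A then θ (S.rot a) / 2 else 0 := by
    intro x
    by_cases hx : x ∈ S.A
    · have hx' : ¬ x⁻¹ * S.s ∈ S.A := fun e => S.s_not (by simpa using mul_mem hx e)
      rw [extendByZero_of_mem _ (mul_mem (mul_mem (inv_mem hx) ha) hx), if_pos hx, if_neg hx', add_zero]
      have := S.rot_conj ha (inv_mem hx)
      rw [inv_inv] at this
      simp only [rotG]
      rw [this, if_neg (by tauto)]
    · by_cases hs : x⁻¹ * S.s ∈ S.A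
      · rw [if_neg hx, if_pos hs, zero_add]
        obtain ⟨hb, hrb⟩ := S.s_conj a ha
        have e : x⁻¹ * a * x = x⁻¹ * S.s * (S.s * a * S.s⁻¹) * (x⁻¹ * S.s)⁻¹ := by
          calc x⁻¹ * a * x = x⁻¹ * (S.s * S.s) * a * (S.s * S.s)⁻¹ * x := by rw [S.s_sq]; group
            _ = _ := by group
        have hmem : x⁻¹ * a * x ∈ S.A := e ▸ mul_mem (mul_mem hs hb) (inv_mem hs)
        rw [extendByZero_of_mem _ hmem]
        have hr : S.rot (x⁻¹ * a * x) = sig t * S.rot a := by rw [e, S.rot_conj hb hs, hrb]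
        have ht1 : 1 ≤ t := by linarith [S.ht]
        simp only [rotG]
        rw [hr, hθ, if_neg]
        rw [sig_mul_eq_comm ht1, sig_mul_eq_comm ht1, mul_zero, sig_mul_mid ht1]
        tauto
      · rw [if_neg hx, if_neg hs, add_zero, extendByZero_not_mem]
        intro hmem
        rcases S.ti a ha h0 h1 x⁻¹ (by rwa [inv_inv]) with h2 | h2
        · exact hx (inv_inv x ▸ inv_mem h2)
        · exact hs h2
  rw [Finset.sum_congr rfl fun x _ => hext x, Finset.sum_add_distrib, ← Finset.sum_filter, ← Finset.sum_filter,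
    Finset.sum_const, Finset.sum_const]
  have hc1 : (Finset.univ.filter fun x => x ∈ S.A).card = Nat.card S.A := card_elts S.A
  have hc2 : (Finset.univ.filter fun x => x⁻¹ * S.s ∈ S.A).card = Nat.card S.A := by
    rw [← hc1]
    refine Finset.card_bij' (fun x _ => x⁻¹ * S.s) (fun x _ => S.s * x⁻¹) (fun x hx => ?_) (fun x hx => ?_)
      (fun x _ => ?_) (fun x _ => ?_)
    · simpa using hx
    · simp only [Finset.mem_filter, Finset.mem_univ, true_and] at hx ⊢
      rwa [mul_inv_rev, inv_inv, mul_assoc, inv_mul_cancel, mul_one]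
    · group
    · group
  rw [hc1, hc2, nsmul_eq_mul, ← mul_add, add_halves, ← mul_assoc,
    inv_mul_cancel₀ (Nat.cast_ne_zero.2 Nat.card_pos.ne'), one_mul]

/-- The value of a lift on the central section. -/
theorem lift_cen (θ : Rot t → ℂ) {h : G → ℂ} (hh : ∀ g ∈ S.C, ∀ k ∈ S.C, h (g * k * g⁻¹) = h k) {k : G}
    (hk : k ∈ regElts S.C) : S.lift θ h (S.z * k) = h k := by
  classical
  obtain ⟨hkC, hko⟩ := mem_regElts.1 hk
  have hrot : indFun S.A (fun a : S.A => S.rotG θ a) (S.z * k) = 0 := by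
    refine indFun_eq_zero_of_not_conj _ _ fun x hx => ?_
    simp only [rotG]
    rw [if_pos]
    refine S.rot_of_sq_odd hx ?_
    rw [show x⁻¹ * (S.z * k) * x * (x⁻¹ * (S.z * k) * x) = x⁻¹ * (S.z * k * (S.z * k)) * (x⁻¹)⁻¹ by group,
      S.zk_sq hkC, ← MulAut.conj_apply, MulEquiv.orderOf_eq]
    exact odd_sq hko
  rw [lift, Pi.add_apply, hrot, zero_add, indFun]
  have hext : ∀ x : G, extendByZero S.C (fun g : S.C => S.cenG h g) (x⁻¹ * (S.z * k) * x) =
      if x ∈ S.C then h k else 0 := by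
    intro x
    by_cases hx : x ∈ S.C
    · have hm : x⁻¹ * (S.z * k) * x ∈ S.C := mul_mem (mul_mem (inv_mem hx) (mul_mem S.z_memC hkC)) hx
      rw [extendByZero_of_mem _ hm, if_pos hx]
      have e : S.z * (x⁻¹ * (S.z * k) * x) = x⁻¹ * k * (x⁻¹)⁻¹ := by
        rw [inv_inv, ← mul_assoc, ← mul_assoc, ← mul_assoc, ← S.comm_z (inv_mem hx), mul_assoc x⁻¹ S.z S.z,
          S.z_sq, mul_one]
      have hodd : Odd (orderOf (S.z * (x⁻¹ * (S.z * k) * x))) := by
        rw [e, ← MulAut.conj_apply, MulEquiv.orderOf_eq]; exact hko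
      simp only [cenG]
      rw [if_pos hodd, e, hh _ (inv_mem hx) _ hkC]
    · rw [if_neg hx]
      by_cases hm : x⁻¹ * (S.z * k) * x ∈ S.C
      · rw [extendByZero_of_mem _ hm]
        simp only [cenG]
        rw [if_neg]
        intro hodd
        refine hx ((S.C_iff x).2 ?_)
        set w := S.z * (x⁻¹ * (S.z * k) * x) with hw
        obtain ⟨j, hj⟩ := hko.mul hodd
        have hpow : ∀ v ∈ S.C, orderOf v ∣ orderOf k * orderOf w →
            (S.z * v) ^ (orderOf k * orderOf w) = S.z := by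
          intro v hv hd
          rw [(show Commute S.z v from (S.comm_z hv).symm).mul_pow, orderOf_dvd_iff_pow_eq_one.1 hd, mul_one,
            hj, pow_succ, pow_mul, pow_two, S.z_sq, one_pow, one_mul]
        have h1 := hpow k hkC (dvd_mul_right _ _)
        have h2 := hpow w (mul_mem S.z_memC hm) (dvd_mul_left _ _)
        rw [hw, ← mul_assoc, S.z_sq, one_mul, ← hw,
          show x⁻¹ * (S.z * k) * x = x⁻¹ * (S.z * k) * (x⁻¹)⁻¹ by rw [inv_inv], conj_pow, h1, inv_inv] at h2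
        calc x * S.z = x * (x⁻¹ * S.z * x) := by rw [h2]
          _ = S.z * x := by group
      · exact extendByZero_not_mem _ hm
  rw [Finset.sum_congr rfl fun x _ => hext x, ← Finset.sum_filter, Finset.sum_const, nsmul_eq_mul,
    show (Finset.univ.filter fun x => x ∈ S.C).card = Nat.card S.C from card_elts S.C, ← mul_assoc,
    inv_mul_cancel₀ (Nat.cast_ne_zero.2 Nat.card_pos.ne'), one_mul]

/-- The average over the kernel. -/
noncomputable def avg (ψ : G → ℂ) (i : Rot t) : ℂ :=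
  (Nat.card S.K : ℂ)⁻¹ * ∑ k ∈ elts S.K, ψ (k * S.r ^ i.val)

/-- The product of a lift with a class function. -/
theorem inner_lift (θ : Rot t → ℂ) (h : G → ℂ) {ψ : G → ℂ} (hψ : IsClassFunction G ψ) :
    classInner (S.lift θ h) ψ = (2 * (2 ^ (t + 1) : ℂ))⁻¹ * rotSum (fun i => θ i * conj (S.avg ψ i)) +
      (Nat.card S.C : ℂ)⁻¹ * ∑ k ∈ regElts S.C, h k * conj (ψ (S.z * k)) := by
  classical
  haveI := Fintype.ofFinite S.A
  haveI := Fintype.ofFinite S.C
  rw [lift, classInner_add_left, classInner_indFun _ _ hψ, classInner_indFun _ _ hψ]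
  simp only [classInner]
  rw [sum_subgroup fun a => S.rotG θ a * conj (ψ a), sum_subgroup fun g => S.cenG h g * conj (ψ g)]
  congr 1
  · rw [S.sum_A, rotSum,
      ← Finset.sum_subset (s₁ := ((Finset.univ.erase (0 : Rot t)).erase (mid t)))
        (Finset.subset_univ _) fun i _ hi => Finset.sum_eq_zero fun k hk => ?_]
    swap
    · rw [rotG, S.rot_eq_of_mem (mem_elts.1 hk), if_pos, zero_mul]
      simp only [Finset.mem_erase, Finset.mem_univ, and_true] at hi
      tauto
    rw [Finset.mul_sum, Finset.mul_sum]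
    refine Finset.sum_congr rfl fun i hi => ?_
    simp only [Finset.mem_erase, Finset.mem_univ, and_true] at hi
    rw [Finset.sum_congr rfl fun k hk => show S.rotG θ (k * S.r ^ i.val) * conj (ψ (k * S.r ^ i.val)) =
      θ i / 2 * conj (ψ (k * S.r ^ i.val)) by
      rw [rotG, S.rot_eq_of_mem (mem_elts.1 hk), if_neg (by tauto)], ← Finset.mul_sum, avg, map_mul,
      map_inv₀, Complex.conj_natCast, map_sum, S.card_A]
    push_cast
    rw [mul_inv, mul_inv]
    ring
  · congr 1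
    rw [← Finset.sum_filter_add_sum_filter_not (elts S.C) (fun g => Odd (orderOf (S.z * g))),
      Finset.sum_eq_zero (s := (elts S.C).filter fun g => ¬ Odd (orderOf (S.z * g))) (fun g hg => by
        rw [cenG, if_neg (Finset.mem_filter.1 hg).2, zero_mul]), add_zero]
    have e : ∀ g, S.z * (S.z * g) = g := fun g => by rw [← mul_assoc, S.z_sq, one_mul]
    refine Finset.sum_bij' (fun g _ => S.z * g) (fun k _ => S.z * k) (fun g hg => ?_) (fun k hk => ?_)
      (fun g _ => e g) (fun k _ => e k) (fun g hg => ?_)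
    · rw [Finset.mem_filter, mem_elts] at hg
      exact mem_regElts.2 ⟨mul_mem S.z_memC hg.1, hg.2⟩
    · rw [mem_regElts] at hk
      exact Finset.mem_filter.2 ⟨mem_elts.2 (mul_mem S.z_memC hk.1), by rw [e]; exact hk.2⟩
    · rw [cenG, if_pos (Finset.mem_filter.1 hg).2, e]

theorem avg_lift {θ : Rot t → ℂ} (hθ : ∀ i, θ (sig t * i) = θ i) (h : G → ℂ) {i : Rot t} (h0 : i ≠ 0)
    (h1 : i ≠ mid t) : S.avg (S.lift θ h) i = θ i := by
  rw [avg, Finset.sum_congr rfl fun k hk => by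
      rw [S.lift_rot hθ h (mul_mem (S.K_le (mem_elts.1 hk)) (pow_mem S.r_mem _))
        (by rwa [S.rot_eq_of_mem (mem_elts.1 hk)]) (by rwa [S.rot_eq_of_mem (mem_elts.1 hk)]),
        S.rot_eq_of_mem (mem_elts.1 hk)],
    Finset.sum_const, card_elts, nsmul_eq_mul, ← mul_assoc,
    inv_mul_cancel₀ (Nat.cast_ne_zero.2 Nat.card_pos.ne'), one_mul]

/-- The product of two lifts. -/
theorem inner_lift_lift (θ : Rot t → ℂ) (h : G → ℂ) {θ' : Rot t → ℂ} (hθ : ∀ i, θ' (sig t * i) = θ' i)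
    {h' : G → ℂ} (hh : ∀ g ∈ S.C, ∀ k ∈ S.C, h' (g * k * g⁻¹) = h' k) :
    classInner (S.lift θ h) (S.lift θ' h') =
      (2 * (2 ^ (t + 1) : ℂ))⁻¹ * rotSum (fun i => θ i * conj (θ' i)) +
        (Nat.card S.C : ℂ)⁻¹ * ∑ k ∈ regElts S.C, h k * conj (h' k) := by
  rw [S.inner_lift θ h (S.lift_classFun θ' h')]
  congr 1
  · rw [rotSum, rotSum]
    congr 1
    refine Finset.sum_congr rfl fun i hi => ?_
    simp only [Finset.mem_erase, Finset.mem_univ, and_true] at hi
    rw [S.avg_lift hθ h' hi.2 hi.1]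
  · congr 1
    exact Finset.sum_congr rfl fun k hk => by rw [S.lift_cen θ' hh hk]

end Cfg

end Cfsg.Agent.Invol.AlmostCyclic
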