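import Cfsg.Agent.Lib.Invol.AlmostCyclic.Defs
import Cfsg.Agent.Lib.Invol.BrauerSuzuki
import Cfsg.Agent.Lib.Invol.GW.Consumers.CommutingOuter

/-!
# Quaternion subgroups of 2-groups with a large cyclic subgroup, and their absence in `PGL₂` (for S4069)
-/

set_option autoImplicit false

namespace Cfsg.Agent.Invol.AlmostCyclic

open Subgroup
open scoped commutatorElement

universe u

/-- Two elements of square `z`, an involution, with commutator `z`. -/
structure QFrame {X : Type*} [Group X] (z i j : X) : Prop where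
  ii : i * i = z
  jj : j * j = z
  zz : z * z = 1
  z_ne : z ≠ 1
  ji : j * i = i * j * z

namespace QFrame

variable {X : Type*} [Group X] {z i j : X}

theorem zi (h : QFrame z i j) : Commute z i := by rw [← h.ii]; exact (Commute.refl i).mul_left (Commute.refl i)

theorem zj (h : QFrame z i j) : Commute z j := by rw [← h.jj]; exact (Commute.refl j).mul_left (Commute.refl j)

theorem not_comm (h : QFrame z i j) : i * j ≠ j * i := fun e => h.z_ne (by
  have h1 := h.ji
  rw [← e] at h1
  exact left_eq_mul.1 h1)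

theorem map {Y : Type*} [Group Y] (h : QFrame z i j) (f : X →* Y) (hz : f z ≠ 1) :
    QFrame (f z) (f i) (f j) :=
  ⟨by rw [← map_mul, h.ii], by rw [← map_mul, h.jj], by rw [← map_mul, h.zz, map_one], hz,
    by rw [← map_mul, h.ji, map_mul, map_mul]⟩

/-- The frame `i, i * j`. -/
theorem rot (h : QFrame z i j) : QFrame z i (i * j) := by
  have hij : i * j * (i * j) = z := by
    calc i * j * (i * j) = i * (j * i) * j := by group
      _ = i * (i * j * z) * j := by rw [h.ji]
      _ = (i * i) * (j * (z * j)) := by group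
      _ = (i * i) * ((j * j) * z) := by rw [h.zj.eq, ← mul_assoc j j z]
      _ = z := by rw [h.ii, h.jj, h.zz, mul_one]
  refine ⟨h.ii, hij, h.zz, h.z_ne, ?_⟩
  calc i * j * i = i * (i * j * z) := by rw [mul_assoc, h.ji]
    _ = i * (i * j) * z := by group

theorem commutator_mem (h : QFrame z i j) : z ∈ _root_.commutator X := by
  have h1 : z = (i * j)⁻¹ * (j * i) := by rw [h.ji]; group
  rw [h1, show (i * j)⁻¹ * (j * i) = ⁅j⁻¹, i⁻¹⁆ by rw [commutatorElement_def]; group]
  exact Subgroup.commutator_mem_commutator (mem_top _) (mem_top _)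

end QFrame

/-- A quaternion group of order a power of two contains a frame on its involution. -/
theorem exists_qframe {G : Type*} [Group G] [Finite G] {m : ℕ} (hm : 2 ≤ m) {Q : Subgroup G}
    (e : ↥Q ≃* QuaternionGroup m) (hQ2 : IsPGroup 2 ↥Q) {z : G} (hz : z ∈ Q) (hz2 : orderOf z = 2) :
    ∃ i ∈ Q, ∃ j ∈ Q, QFrame z i j := by
  haveI : Fact (Nat.Prime 2) := ⟨Nat.prime_two⟩
  haveI : NeZero m := ⟨by omega⟩
  obtain ⟨k, hk⟩ := IsPGroup.iff_card.1 hQ2
  rw [Nat.card_congr e.toEquiv, Nat.card_eq_fintype_card, QuaternionGroup.card] at hk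
  obtain ⟨d, rfl⟩ : ∃ d, m = 2 * d := by
    have hk3 : 3 ≤ k := by
      by_contra hc
      have := Nat.pow_le_pow_right two_pos (show k ≤ 2 by omega)
      omega
    refine ⟨2 ^ (k - 3), ?_⟩
    have : 2 ^ k = 2 ^ (k - 3) * 8 := by rw [show (8 : ℕ) = 2 ^ 3 from rfl, ← pow_add, Nat.sub_add_cancel hk3]
    omega
  let n : ZMod (2 * (2 * d)) := ((2 * d : ℕ) : ZMod (2 * (2 * d)))
  have hnn : n + n = 0 := by
    show (_ : ZMod (2 * (2 * d))) = 0
    rw [← Nat.cast_add, ← two_mul, ZMod.natCast_self]
  have hn0 : n ≠ 0 := fun h => by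
    rw [ZMod.natCast_eq_zero_iff] at h
    exact absurd (Nat.le_of_dvd (by omega) h) (by omega)
  have hq : QFrame (QuaternionGroup.a n) (QuaternionGroup.a (d : ZMod (2 * (2 * d))))
      (QuaternionGroup.xa (0 : ZMod (2 * (2 * d)))) := by
    refine ⟨?_, ?_, ?_, ?_, ?_⟩
    · rw [QuaternionGroup.a_mul_a, ← Nat.cast_add, ← two_mul]
    · rw [QuaternionGroup.xa_mul_xa, sub_zero, add_zero]
    · rw [QuaternionGroup.a_mul_a, hnn, QuaternionGroup.one_def]
    · rw [QuaternionGroup.one_def]
      exact fun h => hn0 (QuaternionGroup.a.inj h)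
    · rw [QuaternionGroup.xa_mul_a, QuaternionGroup.a_mul_xa, QuaternionGroup.xa_mul_a]
      congr 1
      have h2 : (d : ZMod (2 * (2 * d))) + d = n := by rw [← Nat.cast_add, ← two_mul]
      rw [zero_add, zero_sub, ← h2, ← add_assoc, neg_add_cancel, zero_add]
  have hzn : e ⟨z, hz⟩ = QuaternionGroup.a n := by
    refine (BS.quaternion_sq_one ?_).resolve_left fun h => ?_
    · rw [← map_pow]
      refine (map_eq_one_iff e e.injective).2 (Subtype.ext ?_)
      rw [SubmonoidClass.coe_pow, ← hz2, pow_orderOf_eq_one, coe_one]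
    · have h1 : z = 1 := congrArg Subtype.val ((map_eq_one_iff e e.injective).1 h)
      rw [h1, orderOf_one] at hz2
      omega
  have hq' := hq.map (Q.subtype.comp e.symm.toMonoidHom) (by
    intro h
    refine hq.z_ne ((map_eq_one_iff e.symm e.symm.injective).1 (Subtype.ext h)))
  have hzz : (Q.subtype.comp e.symm.toMonoidHom) (QuaternionGroup.a n) = z := by
    rw [← hzn]
    exact congrArg Subtype.val (e.symm_apply_apply ⟨z, hz⟩)
  rw [hzz] at hq'
  exact ⟨_, SetLike.coe_mem _, _, SetLike.coe_mem _, hq'⟩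

/-- In a group with a cyclic subgroup of index at most two and a frame, an involution commuting with its
conjugates is the involution of the frame. -/
theorem QFrame.eq_of_commute_conj {T : Type*} [Group T] [Finite T] {C : Subgroup T} [IsCyclic ↥C]
    (hC : C.index ∣ 2) {z i j w : T} (h : QFrame z i j) (hw : w * w = 1) (hw1 : w ≠ 1) (hwz : Commute w z)
    (hconj : ∀ t : T, Commute w (t * w * t⁻¹)) : w = z := by
  classical
  have hmul : ∀ {a b : T}, a ∉ C → b ∉ C → a * b ∈ C := by
    intro a b ha hb
    rcases (Nat.dvd_prime Nat.prime_two).1 hC with h1 | h2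
    · exact absurd (index_eq_one.1 h1 ▸ mem_top a) ha
    · exact (mul_mem_iff_of_index_two h2).2 (iff_of_false ha hb)
  have hsq : ∀ a : T, a * a ∈ C := fun a =>
    if ha : a ∈ C then mul_mem ha ha else hmul ha ha
  have hzC : z ∈ C := h.ii ▸ hsq i
  have huniq : ∀ a ∈ C, a * a = 1 → a = 1 ∨ a = z := by
    intro a ha h2
    by_cases ha1 : a = 1
    · exact Or.inl ha1
    · refine Or.inr (congrArg Subtype.val (GW.cyclic_invol_unique (x := (⟨a, ha⟩ : ↥C)) (y := ⟨z, hzC⟩) ?_ ?_))
      · rw [← orderOf_coe]; exact orderOf_eq_prime (by rw [pow_two]; exact h2) ha1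
      · rw [← orderOf_coe]; exact orderOf_eq_prime (by rw [pow_two]; exact h.zz) h.z_ne
  have hcommC : ∀ a ∈ C, ∀ b ∈ C, a * b = b * a := fun a ha b hb => by
    letI := IsCyclic.commGroup (α := ↥C)
    exact congrArg Subtype.val (mul_comm (⟨a, ha⟩ : ↥C) ⟨b, hb⟩)
  by_contra hne
  have hwC : w ∉ C := fun hc => (huniq w hc hw).elim hw1 hne
  have hcases : ∀ t : T, t * w * t⁻¹ = w ∨ t * w * t⁻¹ = z * w := by
    intro t
    generalize hu : t * w * t⁻¹ = u
    have hu2 : u * u = 1 := by rw [← hu, show t * w * t⁻¹ * (t * w * t⁻¹) = t * (w * w) * t⁻¹ by group, hw]; group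
    have hcu : Commute w u := hu ▸ hconj t
    by_cases huC : u ∈ C
    · rcases huniq u huC hu2 with e | e
      · rw [e] at hu; exact absurd (conj_eq_one_iff.1 hu) hw1
      · refine absurd ?_ hne
        rw [e] at hu
        -- `z` commutes with `i`, `j` and `t`
        have htz : t * z * t⁻¹ = z := by
          have hC' : C.Normal := by
            rcases (Nat.dvd_prime Nat.prime_two).1 hC with h1 | h2
            · rw [index_eq_one.1 h1]; infer_instance
            · exact normal_of_index_eq_two h2
          refine (huniq _ (hC'.conj_mem _ hzC t) ?_).resolve_left fun e' => h.z_ne (conj_eq_one_iff.1 e')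
          rw [show t * z * t⁻¹ * (t * z * t⁻¹) = t * (z * z) * t⁻¹ by group, h.zz]; group
        exact mul_left_cancel (mul_right_cancel (hu.trans htz.symm))
    · have huw : u * w ∈ C := hmul huC hwC
      have h2 : u * w * (u * w) = 1 := by
        rw [show u * w * (u * w) = u * (w * u) * w by group, hcu.eq, show u * (u * w) * w = u * u * (w * w) by group,
          hu2, hw, mul_one]
      have hu' : u = u * w * w := by rw [mul_assoc, hw, mul_one]
      rcases huniq _ huw h2 with e | e <;> rw [e] at hu'
      · exact Or.inl (hu'.trans (one_mul w))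
      · exact Or.inr hu'
  have key : ∀ {k l : T}, QFrame z k l → Commute k w → False := by
    intro k l hf hkw
    have hkl := hf.not_comm
    by_cases hlw : Commute l w
    · have hk' : ∃ a : T, (a = k ∨ a = k * w) ∧ a ∈ C :=
        if hk : k ∈ C then ⟨k, Or.inl rfl, hk⟩ else ⟨k * w, Or.inr rfl, hmul hk hwC⟩
      have hl' : ∃ a : T, (a = l ∨ a = l * w) ∧ a ∈ C :=
        if hl : l ∈ C then ⟨l, Or.inl rfl, hl⟩ else ⟨l * w, Or.inr rfl, hmul hl hwC⟩
      obtain ⟨a, ha, haC⟩ := hk'
      obtain ⟨b, hb, hbC⟩ := hl'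
      refine hkl ?_
      have hab := hcommC a haC b hbC
      rcases ha with rfl | rfl <;> rcases hb with rfl | rfl
      · exact hab
      · rw [← mul_assoc, mul_assoc l, ← hkw.eq, ← mul_assoc] at hab
        exact mul_right_cancel hab
      · rw [mul_assoc k, ← hlw.eq, ← mul_assoc, ← mul_assoc] at hab
        exact mul_right_cancel hab
      · rw [show k * w * (l * w) = k * (w * l) * w by group, ← hlw.eq,
          show l * w * (k * w) = l * (w * k) * w by group, ← hkw.eq] at hab
        simpa [mul_assoc, hw] using hab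
    · have hlw' : l * w = z * w * l := by
        have := (hcases l).resolve_left fun e => hlw (mul_inv_eq_iff_eq_mul.1 e)
        exact mul_inv_eq_iff_eq_mul.1 this
      by_cases hlC : l ∈ C
      · -- `l` and `k` or `k * w` in `C`, both of square `z`
        by_cases hkC : k ∈ C
        · exact hkl (hcommC k hkC l hlC)
        · have hkwC : k * w ∈ C := hmul hkC hwC
          have h2 : l * (k * w) * (l * (k * w)) = 1 := by
            have hc := hcommC l hlC (k * w) hkwC
            rw [show l * (k * w) * (l * (k * w)) = l * ((k * w) * l) * (k * w) by group, ← hc,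
              show l * (l * (k * w)) * (k * w) = l * l * (k * (w * k) * w) by group, hf.jj, ← hkw.eq,
              show k * (k * w) * w = k * k * (w * w) by group, hf.ii, hw, mul_one, hf.zz]
          have hkw' : k * w = l⁻¹ * (l * (k * w)) := by group
          rcases huniq _ (mul_mem hlC hkwC) h2 with e | e <;> rw [e] at hkw'
          · rw [mul_one] at hkw'
            have hc : Commute l (k * w) := hkw' ▸ (Commute.refl l).inv_right
            have hc2 : Commute w (k * w) := hkw.symm.mul_right (Commute.refl w)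
            have : Commute l w := by
              have hwk : Commute (k * w) w := hc2.symm
              have hl : l = (k * w)⁻¹ := by rw [hkw', inv_inv]
              rw [hl]
              exact hwk.inv_left
            exact hlw this
          · have hl : l = z * (k * w)⁻¹ := by rw [hkw']; group
            apply hlw
            rw [hl]
            exact hwz.symm.mul_left (hkw.mul_left (Commute.refl w)).inv_left
      · have hlwC : l * w ∈ C := hmul hlC hwC
        have h2 : l * w * (l * w) = 1 := by
          rw [show l * w * (l * w) = l * w * l * w by group, hlw', show z * w * l * l * w = z * w * (l * l) * w by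
            group, hf.jj, mul_assoc z, hwz.eq, show z * (z * w) * w = z * z * (w * w) by group, hf.zz, hw, mul_one]
        apply hkl
        have hl : l = l * w * w := by rw [mul_assoc, hw, mul_one]
        rcases huniq _ hlwC h2 with e | e <;> rw [e] at hl <;> rw [hl]
        · exact ((Commute.one_right k).mul_right hkw).eq
        · exact (hf.zi.symm.mul_right hkw).eq
  by_cases hi : Commute i w
  · exact key h hi
  · by_cases hj : Commute j w
    · exact key (k := j) (l := i) ⟨h.jj, h.ii, h.zz, h.z_ne, by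
        rw [h.ji, mul_assoc (i * j), h.zz, mul_one]⟩ hj
    · have hij : Commute (i * j) w := by
        have h1 := mul_inv_eq_iff_eq_mul.1 ((hcases i).resolve_left fun e => hi (mul_inv_eq_iff_eq_mul.1 e))
        have h2 := mul_inv_eq_iff_eq_mul.1 ((hcases j).resolve_left fun e => hj (mul_inv_eq_iff_eq_mul.1 e))
        show i * j * w = w * (i * j)
        rw [mul_assoc, h2, ← mul_assoc, ← mul_assoc, h.zi.symm.eq, mul_assoc z, h1,
          show z * (z * w * i) * j = z * z * (w * (i * j)) by group, h.zz, one_mul]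
      exact key (k := i * j) (l := i) ⟨h.rot.jj, h.ii, h.zz, h.z_ne, by
        rw [h.rot.ji, mul_assoc (i * (i * j)), h.zz, mul_one]⟩ hij

/-- `2 × 2` matrices commuting with the same non-scalar matrix commute. -/
theorem commute_of_nonscalar {F : Type*} [Field F] {A B C : Matrix (Fin 2) (Fin 2) F}
    (hA : A * C = C * A) (hB : B * C = C * B) (hC : ∀ c : F, C ≠ c • (1 : Matrix (Fin 2) (Fin 2) F)) :
    A * B = B * A := by
  have ext2 : ∀ {M N : Matrix (Fin 2) (Fin 2) F}, M * N = N * M → M 0 1 * N 1 0 = N 0 1 * M 1 0 ∧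
      M 0 1 * (N 1 1 - N 0 0) = N 0 1 * (M 1 1 - M 0 0) ∧
      M 1 0 * (N 1 1 - N 0 0) = N 1 0 * (M 1 1 - M 0 0) := by
    intro M N h
    have e00 := congrFun (congrFun h 0) 0
    have e01 := congrFun (congrFun h 0) 1
    have e10 := congrFun (congrFun h 1) 0
    simp only [Matrix.mul_apply, Fin.sum_univ_two] at e00 e01 e10
    exact ⟨by linear_combination e00, by linear_combination e01, by linear_combination -e10⟩
  obtain ⟨a1, a2, a3⟩ := ext2 hA
  obtain ⟨b1, b2, b3⟩ := ext2 hB
  have key : A 0 1 * B 1 0 = B 0 1 * A 1 0 ∧ A 0 1 * (B 1 1 - B 0 0) = B 0 1 * (A 1 1 - A 0 0) ∧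
      A 1 0 * (B 1 1 - B 0 0) = B 1 0 * (A 1 1 - A 0 0) := by
    by_cases h1 : C 0 1 = 0
    · by_cases h2 : C 1 0 = 0
      · have h3 : C 1 1 - C 0 0 ≠ 0 := fun h3 => hC (C 0 0) (by
          rw [sub_eq_zero] at h3
          ext x y
          fin_cases x <;> fin_cases y <;> simp [h1, h2, h3])
        have p1 : A 0 1 = 0 := (mul_eq_zero.1 (by rw [a2, h1, zero_mul])).resolve_right h3
        have p2 : A 1 0 = 0 := (mul_eq_zero.1 (by rw [a3, h2, zero_mul])).resolve_right h3
        have p3 : B 0 1 = 0 := (mul_eq_zero.1 (by rw [b2, h1, zero_mul])).resolve_right h3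
        have p4 : B 1 0 = 0 := (mul_eq_zero.1 (by rw [b3, h2, zero_mul])).resolve_right h3
        simp [p1, p2, p3, p4]
      · refine ⟨mul_left_cancel₀ h2 ?_, mul_left_cancel₀ h2 ?_, mul_left_cancel₀ h2 ?_⟩
        · linear_combination B 1 0 * a1 - A 1 0 * b1
        · linear_combination (B 1 1 - B 0 0) * a1 - A 1 0 * b2 + B 0 1 * a3
        · linear_combination B 1 0 * a3 - A 1 0 * b3
    · have k2 : A 0 1 * (B 1 1 - B 0 0) = B 0 1 * (A 1 1 - A 0 0) :=
        mul_left_cancel₀ h1 (by linear_combination B 0 1 * a2 - A 0 1 * b2)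
      refine ⟨mul_left_cancel₀ h1 ?_, k2, mul_left_cancel₀ h1 ?_⟩
      · linear_combination B 0 1 * a1 - A 0 1 * b1
      · linear_combination -(B 1 1 - B 0 0) * a1 + (A 1 1 - A 0 0) * b1 + C 1 0 * k2
  obtain ⟨k1, k2, k3⟩ := key
  ext x y
  fin_cases x <;> fin_cases y <;>
    simp only [Fin.zero_eta, Fin.mk_one, Matrix.mul_apply, Fin.sum_univ_two]
  · linear_combination k1
  · linear_combination k2
  · linear_combination -k3
  · linear_combination -k1

/-- `PGL₂` has no quaternion subgroup of order eight. -/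
theorem no_qframe_pgl {F : Type*} [Field F] {z i j : Matrix.ProjGenLinGroup (Fin 2) F} (h : QFrame z i j) :
    False := by
  obtain ⟨I, rfl⟩ := Matrix.ProjGenLinGroup.mk_surjective i
  obtain ⟨J, rfl⟩ := Matrix.ProjGenLinGroup.mk_surjective j
  have hs : Matrix.ProjGenLinGroup.mk (I * I) = Matrix.ProjGenLinGroup.mk (J * J) := by
    rw [map_mul, map_mul, h.ii, h.jj]
  have hd : (I * I)⁻¹ * (J * J) ∈ center (GL (Fin 2) F) := Matrix.ProjGenLinGroup.mk_eq_one.1 (by
    rw [map_mul, map_inv, hs, inv_mul_cancel])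
  have hIJ : Commute (I * I) J := by
    have h1 : Commute (J * J) J := (Commute.refl J).mul_left (Commute.refl J)
    have h2 : Commute ((I * I)⁻¹ * (J * J)) J := (mem_center_iff.1 hd J).symm
    have h3 : I * I = (J * J) * ((I * I)⁻¹ * (J * J))⁻¹ := by rw [mul_inv_rev, inv_inv, mul_inv_cancel_left]
    rw [h3]
    exact h1.mul_left h2.inv_left
  have hII : Commute (I * I) I := (Commute.refl I).mul_left (Commute.refl I)
  have hns : ∀ c : F, ((I * I : GL (Fin 2) F) : Matrix (Fin 2) (Fin 2) F) ≠ c • 1 := by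
    intro c hc
    refine h.z_ne ?_
    rw [← h.ii, ← map_mul]
    refine Matrix.ProjGenLinGroup.mk_eq_one.2 (mem_center_iff.2 fun g => Units.ext ?_)
    rw [Units.val_mul (α := Matrix (Fin 2) (Fin 2) F) g, Units.val_mul (α := Matrix (Fin 2) (Fin 2) F) (I * I) g,
      hc, Matrix.smul_mul, Matrix.mul_smul, Matrix.one_mul, Matrix.mul_one]
  have hm : Commute I J := Units.ext (by
    rw [Units.val_mul, Units.val_mul]
    refine commute_of_nonscalar ?_ ?_ hns
    · rw [← Units.val_mul, ← Units.val_mul, hII.eq]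
    · rw [← Units.val_mul, ← Units.val_mul, hIJ.eq])
  exact h.not_comm (by rw [← map_mul, ← map_mul, hm.eq])

end Cfsg.Agent.Invol.AlmostCyclic
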