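import Cfsg.Agent.Lib.Invol.AlmostCyclic.Inherit
import Cfsg.Agent.Lib.Invol.AlmostCyclic.QuatFrame
import Cfsg.Agent.Lib.Invol.Core2.RankTwoPSL
import Cfsg.Agent.Lib.Invol.GW.Consumers.OutAdjust
import Cfsg.Agent.Lib.Grp.Pyramidal.CentCase
import Cfsg.Agent.Lib.Transfer.ThreeSizes.Orbit
import Cfsg.Agent.Lib.Fus.GN.Transport

/-!
# Quaternion subgroups of proper subgroups centralise their involution (for S4069)
-/

set_option autoImplicit false
set_option linter.unusedVariables false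

namespace Cfsg.Agent.Invol.AlmostCyclic

open Subgroup
open scoped commutatorElement

universe u

/-- A perfect simple group has trivial centre. -/
theorem center_eq_bot_of_perfect {K : Type*} [Group K] [IsSimpleGroup K] (hp : commutator K = ⊤) :
    center K = ⊥ := by
  refine (inferInstance : (center K).Normal).eq_bot_or_eq_top.resolve_right fun h => ?_
  have h1 : commutator K = ⊥ := by
    rw [_root_.commutator_def, ← le_bot_iff, Subgroup.commutator_le]
    intro x _ y _
    rw [mem_bot, commutatorElement_eq_one_iff_mul_comm]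
    exact mem_center_iff.1 (h ▸ mem_top y) x
  exact bot_ne_top (h1.symm.trans hp)

/-- A nontrivial normal subgroup of a 2-group over a frame contains the involution of the frame. -/
theorem mem_of_normal_pgroup {T : Type*} [Group T] [Finite T] (hT : IsPGroup 2 T) {C : Subgroup T}
    [IsCyclic ↥C] (hC : C.index ∣ 2) {z i j : T} (h : QFrame z i j) (N : Subgroup T) [N.Normal] (hN : N ≠ ⊥) :
    z ∈ N := by
  haveI : Fact (Nat.Prime 2) := ⟨Nat.prime_two⟩
  obtain ⟨k, hk⟩ := IsPGroup.iff_card.1 (hT.to_subgroup (N ⊓ center T))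
  have hk0 : k ≠ 0 := fun e => Fus.GN.inf_center_ne_bot hT hN (eq_bot_of_card_eq _ (by rw [hk, e, pow_zero]))
  obtain ⟨w, hw⟩ := exists_prime_orderOf_dvd_card' (G := ↥(N ⊓ center T)) 2 (hk ▸ dvd_pow_self 2 hk0)
  rw [← orderOf_coe] at hw
  have hwc : ∀ t : T, Commute (w : T) t := fun t => (mem_center_iff.1 w.2.2 t).symm
  rw [← h.eq_of_commute_conj hC (w := (w : T)) (by rw [← pow_two, ← hw, pow_orderOf_eq_one])
    (fun e => by rw [e, orderOf_one] at hw; omega) (hwc z) (fun t => hwc _)]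
  exact w.2.1

section

variable {K : Type u} [Group K] [Finite K] {z i j : K} {T : Subgroup K}

/-- A normal subgroup meeting the 2-group of a frame contains its involution. -/
theorem mem_of_normal_meet (h2 : TwoCyclic K) (hT : IsPGroup 2 ↥T) (hi : i ∈ T) (hj : j ∈ T)
    (h : QFrame z i j) (N : Subgroup K) [N.Normal] (hN : N ⊓ T ≠ ⊥) : z ∈ N := by
  obtain ⟨C, hC, hCi⟩ := h2.pgroup hT
  have hzT : z ∈ T := h.ii ▸ mul_mem hi hi
  have hT' : QFrame (⟨z, hzT⟩ : ↥T) ⟨i, hi⟩ ⟨j, hj⟩ :=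
    ⟨Subtype.ext h.ii, Subtype.ext h.jj, Subtype.ext h.zz, fun e => h.z_ne (congrArg Subtype.val e),
      Subtype.ext h.ji⟩
  haveI : (N.subgroupOf T).Normal := (inferInstance : N.Normal).subgroupOf T
  refine mem_subgroupOf.1 (mem_of_normal_pgroup hT hCi hT' (N.subgroupOf T) fun e => hN ?_)
  rw [subgroupOf_eq_bot] at e
  exact e.eq_bot

/-- The centre of a normal 2-subgroup over a frame has only the involution of the frame. -/
theorem eq_of_mem_center (h2 : TwoCyclic K) (hT : IsPGroup 2 ↥T) (hi : i ∈ T) (hj : j ∈ T)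
    (h : QFrame z i j) (N : Subgroup K) [N.Normal] (hNT : N ≤ T) (hz : z ∈ N) {w : K} (hw : w ∈ N)
    (hwc : ∀ n ∈ N, Commute w n) (hw2 : w * w = 1) (hw1 : w ≠ 1) : w = z := by
  obtain ⟨C, hC, hCi⟩ := h2.pgroup hT
  have hzT : z ∈ T := h.ii ▸ mul_mem hi hi
  have hT' : QFrame (⟨z, hzT⟩ : ↥T) ⟨i, hi⟩ ⟨j, hj⟩ :=
    ⟨Subtype.ext h.ii, Subtype.ext h.jj, Subtype.ext h.zz, fun e => h.z_ne (congrArg Subtype.val e),
      Subtype.ext h.ji⟩
  exact congrArg Subtype.val (hT'.eq_of_commute_conj hCi (w := ⟨w, hNT hw⟩) (Subtype.ext hw2)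
    (fun e => hw1 (congrArg Subtype.val e)) (Subtype.ext (hwc z hz).eq)
    fun t => Subtype.ext (hwc _ ((inferInstance : N.Normal).conj_mem w hw (t : K))).eq)

end

/-- A perfect normal two-dimensional linear subgroup forces the involution of a frame to be central. -/
theorem frame_central_of_linear {K : Type u} [Group K] [Finite K] (h2 : TwoCyclic K) {z i j : K}
    (h : QFrame z i j) (T : Sylow 2 K) (hi : i ∈ (T : Subgroup K)) (hj : j ∈ (T : Subgroup K))
    (L : Subgroup K) [L.Normal] (hL : IsTwoLinear ↥L) : z ∈ center K := by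
  haveI : Fact (Nat.Prime 2) := ⟨Nat.prime_two⟩
  obtain ⟨p, hp, h5, hL⟩ := hL
  have hcard : Fintype.card (ZMod p) = p := ZMod.card p
  have hodd : Odd (Fintype.card (ZMod p)) := by rw [hcard]; exact hp.out.odd_of_ne_two (by omega)
  have h2L : 2 ∣ Nat.card ↥L := by
    rcases hL with ⟨⟨f⟩⟩ | ⟨⟨f⟩⟩ <;> rw [Nat.card_congr f.toEquiv]
    · exact GW.psl_two_dvd hodd
    · exact (GW.psl_two_dvd hodd).trans (card_dvd_of_surjective _ (QuotientGroup.mk'_surjective _))
  -- `L` meets the Sylow subgroup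
  obtain ⟨u, hu⟩ := exists_prime_orderOf_dvd_card' (G := ↥L) 2 h2L
  rw [← orderOf_coe] at hu
  have hmeet : L ⊓ (T : Subgroup K) ≠ ⊥ := by
    obtain ⟨T', hT'⟩ := (IsPGroup.of_card (n := 1) (by rw [Nat.card_zpowers, hu, pow_one]) :
      IsPGroup 2 (zpowers (u : K))).exists_le_sylow
    obtain ⟨g, hg⟩ := MulAction.exists_smul_eq K T' T
    intro hbot
    have hmem : g * u * g⁻¹ ∈ L ⊓ (T : Subgroup K) := by
      refine ⟨(inferInstance : L.Normal).conj_mem _ u.2 g, ?_⟩
      rw [← hg, Sylow.coe_subgroup_smul]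
      exact smul_mem_pointwise_smul (u : K) (MulAut.conj g) _ (hT' (mem_zpowers _))
    rw [hbot, mem_bot, conj_eq_one_iff] at hmem
    rw [hmem, orderOf_one] at hu
    omega
  have hzL : z ∈ L := mem_of_normal_meet h2 T.isPGroup' hi hj h L hmeet
  have hz2 : orderOf z = 2 := orderOf_eq_prime (by rw [pow_two]; exact h.zz) h.z_ne
  rcases hL with ⟨⟨f⟩⟩ | ⟨⟨f⟩⟩
  · exfalso
    -- the action on `L` would put a quaternion group into `PGL₂`
    let ψ : K →* MulAut (Matrix.ProjectiveSpecialLinearGroup (Fin 2) (ZMod p)) :=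
      (MulAut.congr f).toMonoidHom.comp MulAut.conjNormal
    have hψz : ψ z ≠ 1 := by
      intro e
      have e1 : MulAut.conjNormal (H := L) z = 1 :=
        (MulAut.congr f).injective (e.trans (map_one _).symm)
      haveI : IsSimpleGroup (Matrix.ProjectiveSpecialLinearGroup (Fin 2) (ZMod p)) :=
        Classical.PSL_isSimple le_rfl fun _ => by omega
      have hc : f ⟨z, hzL⟩ ∈ center (Matrix.ProjectiveSpecialLinearGroup (Fin 2) (ZMod p)) := by
        refine mem_center_iff.2 fun y => ?_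
        obtain ⟨l, rfl⟩ := f.surjective y
        rw [← map_mul, ← map_mul]
        refine congrArg f (Subtype.ext ?_)
        have h1 : z * (l : K) * z⁻¹ = l := (MulAut.conjNormal_apply z l).symm.trans
          (congrArg Subtype.val (DFunLike.congr_fun e1 l))
        exact (mul_inv_eq_iff_eq_mul.1 h1).symm
      rw [center_eq_bot_of_perfect (GW.psl_commutator_top (by omega)), mem_bot,
        map_eq_one_iff f f.injective] at hc
      exact h.z_ne (congrArg Subtype.val hc)
    have hfr := h.map ψ hψz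
    obtain ⟨I, hI⟩ := Core2.RankTwo.pglAut_surjective_of_prime (F := ZMod p) (by rw [hcard]; exact hp.out) (ψ i)
    obtain ⟨J, hJ⟩ := Core2.RankTwo.pglAut_surjective_of_prime (F := ZMod p) (by rw [hcard]; exact hp.out) (ψ j)
    have inj := GW.pglAut_injective (F := ZMod p)
    refine no_qframe_pgl (z := I * I) (i := I) (j := J)
      ⟨rfl, inj ?_, inj ?_, fun e => hfr.z_ne ?_, inj ?_⟩
    · rw [map_mul, map_mul, hI, hJ, hfr.ii, hfr.jj]
    · rw [map_mul, map_mul, map_one, hI, hfr.ii, hfr.zz]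
    · rw [← hfr.ii, ← hI, ← map_mul, e, map_one]
    · rw [map_mul, map_mul, map_mul, map_mul, hI, hJ, hfr.ii, hfr.ji]
  · -- the unique involution of `SL₂`
    have huniq : ∀ a : ↥L, orderOf a = 2 → a = ⟨z, hzL⟩ := by
      have key : ∀ a : ↥L, orderOf a = 2 → (f a : Matrix.SpecialLinearGroup (Fin 2) (ZMod p)) = -1 := by
        intro a ha
        have h1 := Core2.RankTwo.sl_invol hodd (f a) (by
          rw [← map_mul, show a * a = 1 by
            have h := pow_orderOf_eq_one a
            rwa [ha, pow_two] at h, map_one])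
        obtain ⟨r, hr, he⟩ := Matrix.SpecialLinearGroup.mem_center_iff.1 h1
        rw [Fintype.card_fin, pow_two] at hr
        rcases mul_self_eq_one_iff.1 hr with rfl | rfl
        · exfalso
          have : f a = 1 := Subtype.ext (by rw [← he, Matrix.SpecialLinearGroup.coe_one, map_one])
          rw [(map_eq_one_iff f f.injective).1 this, orderOf_one] at ha
          omega
        · refine Subtype.ext ?_
          rw [← he, Matrix.SpecialLinearGroup.coe_neg, Matrix.SpecialLinearGroup.coe_one, map_neg, map_one]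
      intro a ha
      exact f.injective ((key a ha).trans (key _ (by rw [← orderOf_coe]; exact hz2)).symm)
    refine mem_center_iff.2 fun g => ?_
    have hc : (⟨g * z * g⁻¹, (inferInstance : L.Normal).conj_mem z hzL g⟩ : ↥L) = ⟨z, hzL⟩ := huniq _ (by
      rw [← orderOf_coe, show ((⟨g * z * g⁻¹, _⟩ : ↥L) : K) = MulAut.conj g z from rfl,
        MulEquiv.orderOf_eq (MulAut.conj g) z, hz2])
    exact mul_inv_eq_iff_eq_mul.1 (congrArg Subtype.val hc)

/-- In a solvable group the involution of a frame is central. -/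
theorem frame_central_of_solvable {K : Type u} [Group K] [Finite K] [Group.IsSolvable K] (hodd : OddCyclic K)
    (h2 : TwoCyclic K) {z i j : K} (h : QFrame z i j) (T : Sylow 2 K) (hi : i ∈ (T : Subgroup K))
    (hj : j ∈ (T : Subgroup K)) : z ∈ center K := by
  haveI : Fact (Nat.Prime 2) := ⟨Nat.prime_two⟩
  set R := Cfsg.pPrimeCore 2 K with hR
  haveI : R.Normal := Grp.pPrimeCore_isNormal
  have hcop : (Nat.card ↥R).Coprime 2 := Grp.pPrimeCore_coprime
  have hRodd : Odd (Nat.card ↥R) := Nat.coprime_two_right.1 hcop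
  have hzmem : z ∈ commutator K := h.commutator_mem
  have hz2 : orderOf z = 2 := orderOf_eq_prime (by rw [pow_two]; exact h.zz) h.z_ne
  have hzR : ∀ r ∈ R, Commute z r := fun r hr => by
    haveI := (hodd.subgroup R).isZGroup hRodd
    exact commute_of_isZGroup R hzmem (by rw [hz2]; exact hcop.symm) hr
  -- the quotient by the core
  let π := QuotientGroup.mk' R
  have hπ : Function.Surjective π := QuotientGroup.mk'_surjective R
  haveI : Group.IsSolvable (K ⧸ R) := Group.isSolvable_of_surjective hπ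
  have hzne : π z ≠ 1 := by
    intro e
    have hzR' : z ∈ R := (QuotientGroup.eq_one_iff z).1 e
    have h1 := orderOf_dvd_natCard (⟨z, hzR'⟩ : ↥R)
    rw [← orderOf_coe, hz2] at h1
    exact (Nat.prime_two.coprime_iff_not_dvd.1 hcop.symm) h1
  let T' : Sylow 2 (K ⧸ R) := T.mapSurjective hπ
  have hiT : π i ∈ (T' : Subgroup (K ⧸ R)) := mem_map_of_mem π hi
  have hjT : π j ∈ (T' : Subgroup (K ⧸ R)) := mem_map_of_mem π hj
  have hf := h.map π hzne
  have h2' := h2.of_surjective π hπ
  -- the 2-core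
  have hO : Cfsg.pPrimeCore 2 (K ⧸ R) = ⊥ := Grp.pPrimeCore_quotient_eq_bot
  obtain ⟨q, hq, -, hne⟩ := Transfer.ThreeSizes.exists_pCore_ne_bot (W := K ⧸ R) fun e => by
    haveI := (Nat.card_eq_one_iff_unique.1 e).1
    exact hzne (Subsingleton.elim _ _)
  haveI : Fact q.Prime := ⟨hq⟩
  have hq2 : q = 2 := by
    by_contra hq2
    refine hne (le_bot_iff.1 (hO ▸ Grp.le_pPrimeCore Grp.pCore_isNormal ?_))
    obtain ⟨k, hk⟩ := IsPGroup.iff_card.1 (Grp.pCore_isPGroup (p := q) (G := K ⧸ R))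
    rw [hk]
    exact Nat.Coprime.pow_left k ((Nat.coprime_primes hq Nat.prime_two).2 hq2)
  subst hq2
  set N := Cfsg.pCore 2 (K ⧸ R) with hN
  haveI : N.Normal := Grp.pCore_isNormal
  have hNT : N ≤ (T' : Subgroup (K ⧸ R)) := Grp.pCore_le_sylow T'
  have hzN : π z ∈ N := mem_of_normal_meet h2' T'.isPGroup' hiT hjT hf N (by
    rwa [inf_eq_left.2 hNT])
  -- the centre of the core
  have hNp : IsPGroup 2 ↥N := Grp.pCore_isPGroup
  haveI : Nontrivial ↥N := (Subgroup.nontrivial_iff_ne_bot N).2 hne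
  haveI := hNp.center_nontrivial
  obtain ⟨k, hk⟩ := IsPGroup.iff_card.1 (hNp.to_subgroup (center ↥N))
  have hk0 : k ≠ 0 := fun e => by
    have := Finite.one_lt_card (α := ↥(center ↥N))
    rw [hk, e, pow_zero] at this
    omega
  obtain ⟨w, hw⟩ := exists_prime_orderOf_dvd_card' (G := ↥(center ↥N)) 2 (hk ▸ dvd_pow_self 2 hk0)
  rw [← orderOf_coe, ← orderOf_coe] at hw
  set w' : K ⧸ R := ((w : ↥N) : K ⧸ R) with hw'
  have hwc : ∀ n ∈ N, Commute w' n := fun n hn =>
    (congrArg Subtype.val (mem_center_iff.1 w.2 ⟨n, hn⟩)).symm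
  have hwz : w' = π z := eq_of_mem_center h2' T'.isPGroup' hiT hjT hf N hNT hzN (w : ↥N).2 hwc
    (by rw [← pow_two, ← hw, pow_orderOf_eq_one]) (fun e => by rw [e, orderOf_one] at hw; omega)
  have hzconj : ∀ y : K ⧸ R, y * π z * y⁻¹ = π z := by
    intro y
    refine eq_of_mem_center h2' T'.isPGroup' hiT hjT hf N hNT hzN ((inferInstance : N.Normal).conj_mem _ hzN y)
      (fun n hn => ?_) ?_ ?_
    · have h1 := hwc (y⁻¹ * n * y) (by simpa using (inferInstance : N.Normal).conj_mem n hn y⁻¹)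
      rw [hwz] at h1
      have h2 := (h1.map (MulAut.conj y).toMonoidHom)
      simpa [mul_assoc] using h2
    · rw [show y * π z * y⁻¹ * (y * π z * y⁻¹) = y * (π z * π z) * y⁻¹ by group, hf.zz, mul_one,
        mul_inv_cancel]
    · exact fun e => hzne (conj_eq_one_iff.1 e)
  -- lifting
  refine mem_center_iff.2 fun g => ?_
  have hr : z⁻¹ * (g * z * g⁻¹) ∈ R := QuotientGroup.eq.1 (by
    show π z = π (g * z * g⁻¹)
    rw [map_mul, map_mul, map_inv, hzconj])
  generalize hrdef : z⁻¹ * (g * z * g⁻¹) = r at hr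
  have hzr : z * r = g * z * g⁻¹ := by rw [← hrdef]; group
  have hr2 : r * r = 1 := by
    have h1 : z * r * (z * r) = 1 := by
      rw [hzr, show g * z * g⁻¹ * (g * z * g⁻¹) = g * (z * z) * g⁻¹ by group, h.zz, mul_one, mul_inv_cancel]
    rw [show z * r * (z * r) = z * (r * z) * r by group, ← (hzR r hr).eq, ← mul_assoc, h.zz, one_mul] at h1
    exact h1
  have hr1 : r = 1 := orderOf_eq_one_iff.1 (Nat.eq_one_of_dvd_coprimes hcop (by
    have h5 := orderOf_dvd_natCard (⟨r, hr⟩ : ↥R)
    rwa [← orderOf_coe] at h5) (orderOf_dvd_of_pow_eq_one (by rw [pow_two]; exact hr2)))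
  rw [hr1, mul_one] at hzr
  exact (mul_inv_eq_iff_eq_mul.1 hzr.symm)

/-- In a proper subgroup the involution of a quaternion 2-subgroup is central. -/
theorem le_centralizer_of_quaternion {G : Type u} [Group G] [Finite G] (IH : SmallerLinear G) (hodd : OddCyclic G)
    (h2 : TwoCyclic G) (S : Sylow 2 G) (hS : Cfsg.IsQuasiDihedral ↥(S : Subgroup G)) {H : Subgroup G}
    (hH : H ≠ ⊤) {m : ℕ} (hm : 2 ≤ m) {Q : Subgroup G} (e : Nonempty (↥Q ≃* QuaternionGroup m))
    (hQ2 : IsPGroup 2 ↥Q) (hQ : Q ≤ H) {z : G} (hz : z ∈ Q) (hz2 : orderOf z = 2) :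
    H ≤ Subgroup.centralizer {z} := by
  haveI : Fact (Nat.Prime 2) := ⟨Nat.prime_two⟩
  obtain ⟨e⟩ := e
  obtain ⟨i, hi, j, hj, hf⟩ := exists_qframe hm e hQ2 hz hz2
  have hoddH := hodd.subgroup H
  have h2H := h2.subgroup H
  have hfH : QFrame (⟨z, hQ hz⟩ : ↥H) ⟨i, hQ hi⟩ ⟨j, hQ hj⟩ :=
    ⟨Subtype.ext hf.ii, Subtype.ext hf.jj, Subtype.ext hf.zz, fun h => hf.z_ne (congrArg Subtype.val h),
      Subtype.ext hf.ji⟩
  obtain ⟨T, hT⟩ := (hQ2.of_equiv (subgroupOfEquivOfLe hQ).symm :
    IsPGroup 2 ↥(Q.subgroupOf H)).exists_le_sylow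
  have hiT : (⟨i, hQ hi⟩ : ↥H) ∈ (T : Subgroup ↥H) := hT (mem_subgroupOf.2 hi)
  have hjT : (⟨j, hQ hj⟩ : ↥H) ∈ (T : Subgroup ↥H) := hT (mem_subgroupOf.2 hj)
  have hc : (⟨z, hQ hz⟩ : ↥H) ∈ center ↥H := by
    by_cases hs : Group.IsSolvable ↥H
    · exact frame_central_of_solvable hoddH h2H hfH T hiT hjT
    · obtain ⟨L, hLn, -, hLns, hLp⟩ := Grp.Pyramidal.exists_perfect_normal (G := ↥H) (C := ⊤) fun h => by
        haveI := h
        exact hs (Group.isSolvable_of_surjective (f := (Subgroup.topEquiv (G := ↥H)).toMonoidHom)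
          (Subgroup.topEquiv (G := ↥H)).surjective)
      haveI := hLn
      have hperf : Group.IsPerfect ↥L := ⟨Subgroup.map_injective L.subtype_injective (by
        rw [Subgroup.map_subtype_commutator, hLp, ← MonoidHom.range_eq_map, Subgroup.range_subtype])⟩
      have hnt : Nontrivial ↥L := by
        by_contra hn
        rw [not_nontrivial_iff_subsingleton] at hn
        exact hLns inferInstance
      have hlt : Nat.card ↥L < Nat.card G :=
        lt_of_le_of_lt (card_le_card_group L) (lt_of_le_of_ne (card_le_card_group H)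
          fun h => hH (eq_top_of_card_eq H h))
      exact frame_central_of_linear h2H hfH T hiT hjT L
        (IH ↥L hlt hnt hperf (hoddH.subgroup L) (h2H.subgroup L))
  intro g hg
  exact mem_centralizer_singleton_iff.2 (congrArg Subtype.val (mem_center_iff.1 hc ⟨g, hg⟩))

end Cfsg.Agent.Invol.AlmostCyclic
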