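import Cfsg.Agent.Lib.Invol.AlmostCyclic.Span
import Cfsg.Agent.Lib.Invol.AlmostCyclic.Small
import Cfsg.Agent.Lib.Grp.AmbivalentSolvable
import Cfsg.Agent.Lib.Grp.Coprime

/-!
# The Sylow subgroups meeting the involution centraliser (for S4069)
-/

set_option autoImplicit false

namespace Cfsg.Agent.Invol.AlmostCyclic

open Subgroup
open scoped Pointwise

universe u

variable {G : Type u} [Group G] [Fintype G] {t : ℕ}

theorem mem_zpowers_of_orderOf_dvd {X : Subgroup G} [IsCyclic X] {a b : G} (ha : a ∈ X) (hb : b ∈ X)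
    (h : orderOf a ∣ orderOf b) : a ∈ zpowers b := by
  classical
  haveI : Fintype X := Fintype.ofFinite _
  have hs : (Finset.univ.filter fun x : X => x ∈ zpowers (⟨b, hb⟩ : X)) =
      Finset.univ.filter fun x : X => x ^ orderOf b = 1 := by
    refine Finset.eq_of_subset_of_card_le (fun x hx => ?_) ?_
    · rw [Finset.mem_filter] at hx ⊢
      refine ⟨Finset.mem_univ _, orderOf_dvd_iff_pow_eq_one.1 ?_⟩
      rw [← Subgroup.orderOf_mk b hb]
      exact orderOf_dvd_of_mem_zpowers hx.2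
    · refine le_trans (IsCyclic.card_pow_eq_one_le (orderOf_pos b)) ?_
      rw [← Fintype.card_subtype, ← Nat.card_eq_fintype_card]
      exact ((Nat.card_zpowers _).trans (Subgroup.orderOf_mk b hb)).ge
  have hm : (⟨a, ha⟩ : X) ∈ Finset.univ.filter fun x : X => x ∈ zpowers (⟨b, hb⟩ : X) := by
    rw [hs, Finset.mem_filter]
    exact ⟨Finset.mem_univ _, Subtype.ext (by rw [SubmonoidClass.coe_pow]; exact orderOf_dvd_iff_pow_eq_one.1 h)⟩
  obtain ⟨j, hj⟩ := mem_zpowers_iff.1 (Finset.mem_filter.1 hm).2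
  exact mem_zpowers_iff.2 ⟨j, by simpa using congrArg Subtype.val hj⟩

theorem frame_le_centralizer (IH : SmallerLinear G) (hodd : OddCyclic G) (h2 : TwoCyclic G) {H : Subgroup G}
    (hH : H ≠ ⊤) {P : Subgroup G} (hP2 : IsPGroup 2 ↥P) (hP : P ≤ H) {z i j : G} (hz : z ∈ P) (hi : i ∈ P)
    (hj : j ∈ P) (hf : QFrame z i j) : H ≤ centralizer {z} := by
  haveI : Fact (Nat.Prime 2) := ⟨Nat.prime_two⟩
  have hoddH := hodd.subgroup H
  have h2H := h2.subgroup H
  have hfH : QFrame (⟨z, hP hz⟩ : ↥H) ⟨i, hP hi⟩ ⟨j, hP hj⟩ :=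
    ⟨Subtype.ext hf.ii, Subtype.ext hf.jj, Subtype.ext hf.zz, fun h => hf.z_ne (congrArg Subtype.val h),
      Subtype.ext hf.ji⟩
  obtain ⟨T, hT⟩ := (hP2.of_equiv (subgroupOfEquivOfLe hP).symm :
    IsPGroup 2 ↥(P.subgroupOf H)).exists_le_sylow
  have hiT : (⟨i, hP hi⟩ : ↥H) ∈ (T : Subgroup ↥H) := hT (mem_subgroupOf.2 hi)
  have hjT : (⟨j, hP hj⟩ : ↥H) ∈ (T : Subgroup ↥H) := hT (mem_subgroupOf.2 hj)
  have hc : (⟨z, hP hz⟩ : ↥H) ∈ center ↥H := by
    by_cases hs : Group.IsSolvable ↥H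
    · exact frame_central_of_solvable hoddH h2H hfH T hiT hjT
    · obtain ⟨K, hKn, -, hKns, hKp⟩ := Grp.Pyramidal.exists_perfect_normal (G := ↥H) (C := ⊤) fun h => by
        haveI := h
        exact hs (Group.isSolvable_of_surjective (f := (Subgroup.topEquiv (G := ↥H)).toMonoidHom)
          (Subgroup.topEquiv (G := ↥H)).surjective)
      haveI := hKn
      have hperf : Group.IsPerfect ↥K := ⟨Subgroup.map_injective K.subtype_injective (by
        rw [Subgroup.map_subtype_commutator, hKp, ← MonoidHom.range_eq_map, Subgroup.range_subtype])⟩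
      have hnt : Nontrivial ↥K := by
        by_contra hn
        rw [not_nontrivial_iff_subsingleton] at hn
        exact hKns inferInstance
      have hlt : Nat.card ↥K < Nat.card G :=
        lt_of_le_of_lt (card_le_card_group K) (lt_of_le_of_ne (card_le_card_group H)
          fun h => hH (eq_top_of_card_eq H h))
      exact frame_central_of_linear h2H hfH T hiT hjT K
        (IH ↥K hlt hnt hperf (hoddH.subgroup K) (h2H.subgroup K))
  intro g hg
  exact mem_centralizer_singleton_iff.2 (congrArg Subtype.val (mem_center_iff.1 hc ⟨g, hg⟩))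

/-- The normal complement of a cyclic Sylow 2-subgroup. -/
theorem exists_odd_complement {X : Subgroup G} (P : Sylow 2 ↥X) (hcyc : IsCyclic ↥(P : Subgroup ↥X))
    (hev : 2 ∣ Nat.card ↥X) :
    ∃ N : Subgroup G, Nat.card N * Nat.card ↥(P : Subgroup ↥X) = Nat.card X ∧ Odd (Nat.card N) ∧
      X ≤ normalizer (N : Set G) ∧ ∀ g ∈ X, Odd (orderOf g) → g ∈ N := by
  haveI : Fact (Nat.Prime 2) := ⟨Nat.prime_two⟩
  have hN := IsCyclic.normalizer_le_centralizer (P := P) (hP := hcyc) ((Nat.minFac_eq_two_iff _).2 hev)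
  generalize hf : MonoidHom.transferSylow P hN = f
  have hcompl : Subgroup.IsComplement' f.ker (P : Subgroup ↥X) :=
    hf ▸ MonoidHom.ker_transferSylow_isComplement' P hN
  have hcard : Nat.card f.ker * Nat.card ↥(P : Subgroup ↥X) = Nat.card ↥X := hcompl.card_mul
  have hodd : Odd (Nat.card f.ker) := by
    rw [← Nat.not_even_iff_odd, even_iff_two_dvd]
    rintro ⟨d, hd⟩
    refine P.not_dvd_index ⟨d, ?_⟩
    have h := (P : Subgroup ↥X).card_mul_index
    rw [← hcard, hd, mul_comm (2 * d)] at h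
    exact Nat.eq_of_mul_eq_mul_left Nat.card_pos h
  refine ⟨f.ker.map X.subtype, by rw [Subgroup.card_subtype]; exact hcard,
    by rw [Subgroup.card_subtype]; exact hodd, fun g hg => ?_, fun g hg ho => ?_⟩
  · refine Subgroup.mem_normalizer_fintype fun x hx => ?_
    obtain ⟨v, hv, rfl⟩ := Subgroup.mem_map.1 hx
    refine Subgroup.mem_map.2 ⟨⟨g, hg⟩ * v * ⟨g, hg⟩⁻¹, ?_, rfl⟩
    rw [MonoidHom.mem_ker] at hv ⊢
    rw [map_mul, map_mul, map_inv, hv, mul_one, mul_inv_cancel]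
  · refine Subgroup.mem_map.2 ⟨⟨g, hg⟩, MonoidHom.mem_ker.2 (orderOf_eq_one_iff.1 ?_), rfl⟩
    obtain ⟨a, ha⟩ := IsPGroup.iff_orderOf.1 P.isPGroup' (f ⟨g, hg⟩)
    refine Nat.Coprime.eq_one_of_dvd (ha ▸ Nat.Coprime.pow_left a ho.coprime_two_left) ?_
    rw [← Subgroup.orderOf_mk g hg]
    exact orderOf_map_dvd f _

namespace Loc

variable (L : Loc G t)
include L

theorem card_S : Nat.card ↥(L.S : Subgroup G) = 2 ^ (t + 2) := L.sd.card

theorem v2_card : padicValNat 2 (Nat.card G) = t + 2 := by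
  have h := Sylow.card_eq_multiplicity L.S
  rw [L.card_S] at h
  rw [← Nat.factorization_def _ Nat.prime_two]
  exact ((Nat.pow_right_injective le_rfl) h).symm

theorem Oc_le_C : L.Oc ≤ L.C := Subgroup.map_subtype_le _

theorem C_le_normalizer_Oc : L.C ≤ normalizer (L.Oc : Set G) := by
  haveI : (Cfsg.oddCore ↥L.C).Normal := Grp.pPrimeCore_isNormal
  intro g hg
  refine Subgroup.mem_normalizer_fintype fun x hx => ?_
  obtain ⟨v, hv, rfl⟩ := Subgroup.mem_map.1 hx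
  exact Subgroup.mem_map.2 ⟨⟨g, hg⟩ * v * ⟨g, hg⟩⁻¹, Subgroup.Normal.conj_mem inferInstance v hv _, rfl⟩

/-- The frame of the quaternion subgroup. -/
theorem rs_frame : QFrame L.z L.y (L.r * L.s) := by
  refine ⟨L.y_sq, L.sd.rs_sq, L.z_sq, fun e => L.z_not_odd (by rw [e, orderOf_one]; exact odd_one), ?_⟩
  have h1 : L.r * L.s * L.y * (L.r * L.s)⁻¹ = L.y⁻¹ :=
    L.sd.refl_pow_even L.sd.rs_mem L.sd.rs_not (dvd_pow_self 2 (by have := L.ht; omega))
  have hinv : L.y⁻¹ = L.y * L.z := by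
    refine inv_eq_of_mul_eq_one_right ?_
    rw [← mul_assoc, L.y_sq, L.z_sq]
  have h2 : L.r * L.s * L.y = L.y⁻¹ * (L.r * L.s) := by rw [← h1]; group
  have hzc : Commute L.z (L.r * L.s) :=
    (L.sd.z_central L.sd.rs_mem).symm
  rw [h2, hinv, mul_assoc L.y L.z, hzc.eq, ← mul_assoc]

theorem rs_conj_y : ∃ g ∈ L.C, g * (L.r * L.s) * g⁻¹ = L.y := by
  set xS : ↥(L.S : Subgroup G) := ⟨L.r, L.sd.mem⟩
  set yS : ↥(L.S : Subgroup G) := ⟨L.s, L.sd.smem⟩
  obtain ⟨-, hQ⟩ := L.qd.fus_of_no_index_two L.no_index_two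
  have hval : ((xS ^ (((1 : ℕ) : ℤ)) * yS : ↥(L.S : Subgroup G)) : G) = L.r * L.s := by
    rw [Nat.cast_one, zpow_one, Subgroup.coe_mul]
  have h1 := (Invol.QD.isConj_odd L.qd (i := (((1 : ℕ) : ℤ))) (by norm_num)).trans hQ
  rw [hval, L.coe_q] at h1
  obtain ⟨g, hg⟩ := isConj_iff.1 h1
  refine ⟨g, L.mem_C.2 (mul_inv_eq_iff_eq_mul.1 ?_), hg⟩
  calc g * L.z * g⁻¹ = g * (L.r * L.s) * g⁻¹ * (g * (L.r * L.s) * g⁻¹) := by
        rw [show L.z = L.r * L.s * (L.r * L.s) from L.sd.rs_sq.symm]; group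
    _ = L.z := by rw [hg, L.y_sq]

/-- The normaliser of a Sylow subgroup of the core of `C` lies in `C`. -/
theorem exists_core_sylow (IH : SmallerLinear G) (h2 : TwoCyclic G) (hcore : Cfsg.oddCore G = ⊥) {r : ℕ}
    (hr : r.Prime) (hro : r ∣ L.oOrd) :
    ∃ R : Subgroup G, Grp.IsSylowIn r R L.Oc ∧ R ≠ ⊥ ∧ normalizer (R : Set G) ≤ L.C ∧
      (L.S : Subgroup G) ≤ normalizer (R : Set G) ∧ L.y ∈ centralizer (R : Set G) ∧
      L.r * L.s ∈ centralizer (R : Set G) := by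
  haveI : Fact (Nat.Prime 2) := ⟨Nat.prime_two⟩
  haveI : Fact r.Prime := ⟨hr⟩
  have hr2 : r ≠ 2 := fun e => by
    have := Odd.of_dvd_nat L.oOrd_odd (e ▸ hro)
    exact absurd this (by decide)
  have hcop : (Nat.card ↥(L.S : Subgroup G)).Coprime (Nat.card L.Oc) := by
    rw [L.card_S, L.card_Oc]
    exact Nat.Coprime.pow_left _ (L.oOrd_odd.coprime_two_left)
  obtain ⟨R, hR, hSR⟩ := Grp.exists_invariant_sylow (L.S : Subgroup G) L.Oc
    (L.S_le_C.trans L.C_le_normalizer_Oc) hcop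
    (Or.inl (haveI := L.S.isPGroup'.isNilpotent; inferInstance)) r
  have hRC : R ≤ L.C := hR.1.trans L.Oc_le_C
  have hRbot : R ≠ ⊥ := by
    intro e
    have h := hR.2.2
    rw [e, Subgroup.relIndex_bot_left, L.card_Oc] at h
    exact h hro
  haveI : IsCyclic R := L.hodd.isCyclic_of_isPGroup hr hr2 hR.2.1
  set N := normalizer (R : Set G) with hN
  let θ := R.normalizerMonoidHom
  have hcom : ∀ a b : MulAut R, a * b = b * a := fun a b =>
    (IsCyclic.mulAutMulEquiv R).injective (a₁ := a * b) (a₂ := b * a) (by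
      rw [map_mul (IsCyclic.mulAutMulEquiv R) a b, map_mul (IsCyclic.mulAutMulEquiv R) b a]
      exact mul_comm _ _)
  have hrN : L.r ∈ N := hSR L.sd.mem
  have hsN : L.s ∈ N := hSR L.sd.smem
  -- the even rotations act trivially
  have heven : θ ⟨L.r, hrN⟩ ^ (2 : ℕ) = 1 := by
    have hconj : L.s * L.r * L.s⁻¹ = L.r ^ (2 ^ t - 1) := L.sd.conj' _ L.sd.smem L.sd.s_not
    have h1 : θ ⟨L.r, hrN⟩ = θ ⟨L.r, hrN⟩ ^ (2 ^ t - 1) := by
      conv_lhs => rw [← mul_inv_cancel_right (θ ⟨L.r, hrN⟩) (θ ⟨L.s, hsN⟩), hcom (θ ⟨L.r, hrN⟩)]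
      rw [← map_mul, ← map_inv, ← map_mul, ← map_pow]
      exact congrArg θ (Subtype.ext hconj)
    have h2' : θ ⟨L.r, hrN⟩ ^ 2 ^ t = θ ⟨L.r, hrN⟩ * θ ⟨L.r, hrN⟩ := by
      conv_rhs => arg 1; rw [h1]
      rw [← pow_succ, Nat.sub_add_cancel Nat.one_le_two_pow]
    have h3 : θ ⟨L.r, hrN⟩ ^ 2 ^ (t + 1) = 1 := by
      rw [← map_pow, show (⟨L.r, hrN⟩ : N) ^ 2 ^ (t + 1) = 1 from
        Subtype.ext (by rw [SubmonoidClass.coe_pow, ← L.sd.order, pow_orderOf_eq_one]; rfl), map_one]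
    generalize θ ⟨L.r, hrN⟩ = a at h2' h3 ⊢
    rw [← pow_two] at h2'
    have h4 : a ^ 2 * a ^ 2 = 1 := by rw [← h2', ← pow_add, ← two_mul, ← pow_succ', h3]
    obtain ⟨d, hd⟩ : ∃ d, t = d + 2 := ⟨t - 2, by have := L.ht; omega⟩
    have h5 : a ^ (2 ^ t) = 1 := by
      rw [hd, pow_add, mul_comm, pow_mul, show (2 : ℕ) ^ 2 = 2 + 2 from rfl, pow_add, h4, one_pow]
    rw [← h2', h5]
  have hyN : L.y ∈ N := pow_mem hrN _
  have hθy : θ ⟨L.y, hyN⟩ = 1 := by
    rw [show (⟨L.y, hyN⟩ : N) = ⟨L.r, hrN⟩ ^ 2 ^ (t - 1) from Subtype.ext rfl, map_pow]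
    obtain ⟨d, hd⟩ : ∃ d, t - 1 = d + 1 := ⟨t - 2, by have := L.ht; omega⟩
    rw [hd, pow_succ', pow_mul, heven, one_pow]
  have hrsN : L.r * L.s ∈ N := mul_mem hrN hsN
  have hθrs : θ ⟨L.r * L.s, hrsN⟩ = 1 := by
    obtain ⟨g, hgC, hg⟩ := L.rs_conj_y
    have hgO : MulAut.conj g • L.Oc = L.Oc := by
      exact Grp.mem_normalizer_iff_smul.1 (L.C_le_normalizer_Oc hgC)
    obtain ⟨k, hk, hkR⟩ := (hR.smul hgO).conj hR
    have hnN : k * g ∈ N := by
      refine Grp.mem_normalizer_iff_smul.2 ?_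
      rw [map_mul, mul_smul, hkR]
    set c := L.y⁻¹ * (k * L.y * k⁻¹) with hc
    have hcO : c ∈ L.Oc := by
      rw [hc, ← mul_assoc, ← mul_assoc]
      refine mul_mem ?_ (inv_mem hk)
      have := (Subgroup.mem_normalizer_iff.1 (inv_mem (L.C_le_normalizer_Oc (L.A_le_C L.y_mem_A))) k).1 hk
      rwa [inv_inv] at this
    have hkyN : k * L.y * k⁻¹ ∈ N := by
      rw [← hg, show k * (g * (L.r * L.s) * g⁻¹) * k⁻¹ = k * g * (L.r * L.s) * (k * g)⁻¹ by group]
      exact mul_mem (mul_mem hnN hrsN) (inv_mem hnN)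
    have hcN : c ∈ N := mul_mem (inv_mem hyN) hkyN
    have hθc : θ ⟨L.r * L.s, hrsN⟩ = θ ⟨c, hcN⟩ := by
      have e1 : θ (⟨k * g, hnN⟩ * ⟨L.r * L.s, hrsN⟩ * ⟨k * g, hnN⟩⁻¹) = θ ⟨L.r * L.s, hrsN⟩ := by
        rw [map_mul, map_mul, hcom (θ ⟨k * g, hnN⟩), map_inv, mul_inv_cancel_right]
      rw [← e1, show (⟨k * g, hnN⟩ * ⟨L.r * L.s, hrsN⟩ * ⟨k * g, hnN⟩⁻¹ : N) = ⟨L.y, hyN⟩ * ⟨c, hcN⟩ from
        Subtype.ext (by
          show k * g * (L.r * L.s) * (k * g)⁻¹ = L.y * c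
          rw [hc, mul_inv_cancel_left, ← hg]; group), map_mul, hθy, one_mul]
    have ho : Odd (orderOf (θ ⟨c, hcN⟩)) := by
      refine Odd.of_dvd_nat (L.odd_of_mem_Oc hcO) ((orderOf_map_dvd θ _).trans ?_)
      rw [Subgroup.orderOf_mk]
    refine eq_one_of_odd_of_pow (hθc ▸ ho) (j := 2) ?_
    rw [← map_pow, show (⟨L.r * L.s, hrsN⟩ : N) ^ 2 ^ 2 = 1 from Subtype.ext (by
      rw [SubmonoidClass.coe_pow, show (2 : ℕ) ^ 2 = 2 * 2 from rfl, pow_mul, pow_two, pow_two, L.sd.rs_sq]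
      exact L.z_sq), map_one]
  have hcent : ∀ {v : G} (hv : v ∈ N), θ ⟨v, hv⟩ = 1 → v ∈ centralizer (R : Set G) := by
    intro v hv h
    refine Subgroup.mem_centralizer_iff.2 fun w hw => ?_
    have := congrArg (fun f : MulAut R => ((f ⟨w, hw⟩ : R) : G)) h
    simp [θ] at this
    rw [← mul_inv_eq_iff_eq_mul.1 this]
  have hyC := hcent hyN hθy
  have hrsC := hcent hrsN hθrs
  refine ⟨R, hR, hRbot, ?_, hSR, hyC, hrsC⟩
  have hne : N ≠ ⊤ := by
    intro e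
    haveI : R.Normal := Subgroup.normalizer_eq_top_iff.1 e
    refine hRbot (le_bot_iff.1 (hcore ▸ Grp.le_pPrimeCore inferInstance ?_))
    obtain ⟨m, hm⟩ := IsPGroup.iff_card.1 hR.2.1
    rw [hm]
    exact Nat.Coprime.pow_left _ ((Nat.coprime_primes hr Nat.prime_two).2 hr2)
  set P := (L.S : Subgroup G) ⊓ N with hP
  exact frame_le_centralizer IH L.hodd h2 hne (L.S.isPGroup'.to_le inf_le_left) inf_le_right
    (show L.z ∈ P from ⟨L.sd.pow_mem' _, L.y_sq ▸ mul_mem hyN hyN⟩)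
    (show L.y ∈ P from ⟨L.sd.pow_mem' _, hyN⟩) (show L.r * L.s ∈ P from ⟨L.sd.rs_mem, hrsN⟩) L.rs_frame

end Loc

namespace Mod

variable {L : Loc G t} {F : Type} [Field F] [Fintype F] (M : Mod L F)
include M

local notation "q" => Fintype.card F

theorem sylow_cyclic_le (hodd : OddCyclic G) {r : ℕ} [Fact r.Prime] (hr2 : r ≠ 2) {U : Subgroup G}
    {W : Sylow r G} (hU : U ≤ (W : Subgroup G)) : (W : Subgroup G) ≤ centralizer (U : Set G) := by
  haveI := hodd r Fact.out hr2 W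
  intro w hw
  refine Subgroup.mem_centralizer_iff.2 fun v hv => ?_
  letI : CommGroup ↥(W : Subgroup G) := IsCyclic.commGroup
  exact congrArg Subtype.val (mul_comm (⟨v, hU hv⟩ : ↥(W : Subgroup G)) ⟨w, hw⟩)

/-- An element of prime order whose image is not an involution and fixes another number of lines than the
reflection. -/
theorem exists_omega {r : ℕ} (hr : r.Prime) (hr2 : r ≠ 2) (hrel : r = q ∨ r ∣ L.tau') (hro : ¬ r ∣ L.oOrd) :
    ∃ ω ∈ L.C, orderOf ω = r ∧ (∀ h : ω ∈ L.C, M.π ⟨ω, h⟩ ≠ 1) ∧ M.fix ω ≠ M.ε' := by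
  haveI : Fact r.Prime := ⟨hr⟩
  rcases hrel with rfl | hrτ
  · obtain ⟨u, hu, e, he⟩ := M.exists_unipotent
    have hne : M.π u ≠ 1 := fun e' => M.hp.ne_one (by rw [← hu, e', orderOf_one])
    refine ⟨u, u.2, ?_, fun _ => hne, by
      rw [M.fix_one_of_order hu]; rcases M.ε'_cases with h | h <;> rw [h] <;> norm_num⟩
    set w : ↥L.C := u ^ q with hw
    have hwπ : M.π w = 1 := by rw [hw, map_pow, ← hu, pow_orderOf_eq_one]
    have hwo : Odd (orderOf (w : G)) := Odd.of_dvd_nat (he ▸ M.hq.pow) (by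
      rw [hw, SubmonoidClass.coe_pow]; exact orderOf_pow_dvd q)
    have hwO : (w : G) ∈ L.Oc := M.mem_Oc_of_π w.2 hwo hwπ
    have h1 : orderOf (w : G) ∣ L.oOrd := L.card_Oc ▸ Subgroup.orderOf_dvd_natCard _ hwO
    have hw1 : (u : G) ^ q = 1 := by
      rw [← SubmonoidClass.coe_pow, ← hw, ← orderOf_eq_one_iff]
      refine Nat.Coprime.eq_one_of_dvd (Nat.Coprime.coprime_dvd_left ?_ (Nat.Coprime.pow_left e
        (M.hp.coprime_iff_not_dvd.2 hro))) h1
      rw [hw, SubmonoidClass.coe_pow, ← he]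
      exact orderOf_pow_dvd q
    exact orderOf_eq_prime hw1 fun e' => hne (by rw [show u = 1 from Subtype.ext e', map_one])
  · obtain ⟨k, hk⟩ := exists_prime_orderOf_dvd_card' (G := L.K) r (L.card_K ▸ hrτ.mul_left _)
    rw [← Subgroup.orderOf_coe] at hk
    have hkC := L.A_le_C k.2.1
    have hne : M.π ⟨k, hkC⟩ ≠ 1 := fun e => hro (by
      have h := M.mem_Oc_of_π hkC ((L.odd_iff k.2.1).2 k.2) e
      rw [← hk, ← L.card_Oc]
      exact Subgroup.orderOf_dvd_natCard _ h)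
    refine ⟨k, hkC, hk, fun _ => hne, ?_⟩
    rw [M.fix_K k.2 hne]
    rcases M.eps with ⟨a, b⟩ | ⟨a, b⟩ <;> omega

/-- The involutions of the centraliser of such an element in `C`. -/
theorem unique_involution {ω u : G} (hω : ω ∈ L.C) (ho : Odd (orderOf ω)) (hπ : M.π ⟨ω, hω⟩ ≠ 1)
    (hfix : M.fix ω ≠ M.ε') (hu : u ∈ L.C) (huω : ω * u = u * ω) (h2 : orderOf u = 2) : u = L.z := by
  rcases L.two_cases hu (k := 1) (by rw [h2, pow_one]) with e | e | ⟨c, hc, e⟩ | ⟨c, hc, hA, h0, h1⟩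
  · rw [e, orderOf_one] at h2; omega
  · exact e
  · exfalso
    refine hfix ?_
    set k := c * ω * c⁻¹ with hk
    have hkC : k ∈ L.C := mul_mem (mul_mem hc hω) (inv_mem hc)
    have hks : k * L.s = L.s * k := by
      rw [← e, hk]
      exact ((show Commute ω u from huω).map (MulAut.conj c).toMonoidHom).eq
    rw [← M.fix_conj hω hc]
    refine M.fix_commute hkC L.s_mem_C hks M.π_s_ne fun e' => absurd (M.π_odd_sq (k := ⟨k, hkC⟩) ?_ e') ?_
    · show Odd (orderOf (c * ω * c⁻¹))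
      rwa [← MulAut.conj_apply, MulEquiv.orderOf_eq]
    · rw [show (⟨k, hkC⟩ : ↥L.C) = ⟨c, hc⟩ * ⟨ω, hω⟩ * ⟨c, hc⟩⁻¹ from rfl, map_mul, map_mul, map_inv]
      exact fun e'' => hπ (conj_eq_one_iff.1 e'')
  · exfalso
    have hsq : c * u * c⁻¹ * (c * u * c⁻¹) = 1 := by
      rw [show c * u * c⁻¹ * (c * u * c⁻¹) = c * (u * u) * c⁻¹ by group, Invol.mul_self_of_orderOf_two h2, mul_one,
        mul_inv_cancel]
    have h := congrArg L.rot hsq
    rw [L.rot_mul hA hA, L.rot_one] at h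
    exact ((two_mul_eq_zero_iff (by linarith [L.ht])).1 h).elim h0 h1

/-- The Sylow subgroups at the relevant primes lie in `C` up to conjugation. -/
theorem sylow_dvd_C (IH : SmallerLinear G) (h2 : TwoCyclic G) (hcore : Cfsg.oddCore G = ⊥) (hnt : Nontrivial G)
    {r : ℕ} (hr : r.Prime) (hr2 : r ≠ 2) (hrel : r = q ∨ r ∣ L.tau' ∨ r ∣ L.oOrd) :
    r ^ (Nat.card G).factorization r ∣ Nat.card L.C := by
  haveI : Fact r.Prime := ⟨hr⟩
  haveI : Fact (Nat.Prime 2) := ⟨Nat.prime_two⟩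
  by_cases hro : r ∣ L.oOrd
  · obtain ⟨R, hR, -, hNR, -⟩ := L.exists_core_sylow IH h2 hcore hr hro
    obtain ⟨W, hW⟩ := hR.2.1.exists_le_sylow
    have hWC : (W : Subgroup G) ≤ L.C :=
      (M.sylow_cyclic_le L.hodd hr2 hW).trans ((Subgroup.centralizer_le_normalizer _).trans hNR)
    rw [← Sylow.card_eq_multiplicity W]
    exact Subgroup.card_dvd_of_le hWC
  obtain ⟨ω, hωC, hωo, hπ, hfix⟩ := M.exists_omega hr hr2 (by tauto) hro
  have hωodd : Odd (orderOf ω) := by rw [hωo]; exact hr.odd_of_ne_two hr2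
  set X := centralizer ({ω} : Set G) with hX
  have hUp : IsPGroup r ↥(zpowers ω) := IsPGroup.of_card (n := 1) (by rw [Nat.card_zpowers, hωo, pow_one])
  obtain ⟨W, hW⟩ := hUp.exists_le_sylow
  have hWX : (W : Subgroup G) ≤ X := fun w hw =>
    mem_centralizer_singleton_iff.2
      ((Subgroup.mem_centralizer_iff.1 (M.sylow_cyclic_le L.hodd hr2 hW hw) ω (mem_zpowers ω)).symm)
  rw [← Sylow.card_eq_multiplicity W]
  by_cases hXC : X ≤ L.C
  · exact Subgroup.card_dvd_of_le (hWX.trans hXC)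
  have hzX : L.z ∈ X := mem_centralizer_singleton_iff.2 (L.mem_C.1 hωC).symm
  obtain ⟨T, hT⟩ := (IsPGroup.of_card (n := 1) (by
      rw [Nat.card_zpowers, Subgroup.orderOf_mk, L.order_z, pow_one]) :
    IsPGroup 2 ↥(zpowers (⟨L.z, hzX⟩ : ↥X))).exists_le_sylow
  have hzT : (⟨L.z, hzX⟩ : ↥X) ∈ (T : Subgroup ↥X) := hT (mem_zpowers _)
  have huniq : ∀ v : ↥(T : Subgroup ↥X), ((v : ↥X) : G) ∈ L.C → orderOf v = 2 →
      v = ⟨⟨L.z, hzX⟩, hzT⟩ := by
    intro v hv h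
    rw [← Subgroup.orderOf_coe, ← Subgroup.orderOf_coe] at h
    exact Subtype.ext (Subtype.ext (M.unique_involution hωC hωodd (hπ hωC) hfix hv
      ((mem_centralizer_singleton_iff.1 (v : ↥X).2).symm) h))
  -- the involution is central in the Sylow subgroup
  have hTC : ∀ v : ↥(T : Subgroup ↥X), ((v : ↥X) : G) ∈ L.C := by
    haveI : Nontrivial ↥(T : Subgroup ↥X) := ⟨⟨⟨⟨L.z, hzX⟩, hzT⟩, 1, fun e => L.z_not_odd (by
      rw [show L.z = 1 from congrArg (fun v : ↥(T : Subgroup ↥X) => ((v : ↥X) : G)) e, orderOf_one]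
      exact odd_one)⟩⟩
    haveI := T.isPGroup'.center_nontrivial
    obtain ⟨k, hk⟩ := IsPGroup.iff_card.1 (T.isPGroup'.to_subgroup (center ↥(T : Subgroup ↥X)))
    have hk0 : k ≠ 0 := fun e => by
      rw [e, pow_zero] at hk
      exact absurd hk (Nat.ne_of_gt Finite.one_lt_card)
    obtain ⟨c, hc⟩ := exists_prime_orderOf_dvd_card' (G := center ↥(T : Subgroup ↥X)) 2 (hk ▸ dvd_pow_self 2 hk0)
    rw [← Subgroup.orderOf_coe] at hc
    have hcC : (((c : ↥(T : Subgroup ↥X)) : ↥X) : G) ∈ L.C := L.mem_C.2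
      (congrArg (fun v : ↥(T : Subgroup ↥X) => ((v : ↥X) : G)) (mem_center_iff.1 c.2 ⟨⟨L.z, hzX⟩, hzT⟩)).symm
    intro v
    have h := mem_center_iff.1 c.2 v
    rw [huniq _ hcC hc] at h
    exact L.mem_C.2 (congrArg (fun w : ↥(T : Subgroup ↥X) => ((w : ↥X) : G)) h)
  have hXtop : X ≠ ⊤ := by
    intro e
    have hcen : ω ∈ center G := Subgroup.mem_center_iff.2 fun g =>
      mem_centralizer_singleton_iff.1 (show g ∈ X by rw [e]; exact mem_top g)
    haveI : (zpowers ω).Normal := ⟨fun a ha g => by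
      obtain ⟨k, rfl⟩ := mem_zpowers_iff.1 ha
      rw [((show Commute g ω from mem_center_iff.1 hcen g).zpow_right k).eq, mul_inv_cancel_right]
      exact zpow_mem (mem_zpowers ω) k⟩
    have h : zpowers ω ≤ Cfsg.oddCore G := Grp.le_pPrimeCore (p := 2) (inferInstance : (zpowers ω).Normal)
      (by rw [Nat.card_zpowers]; exact hωodd.coprime_two_right)
    rw [hcore, le_bot_iff, zpowers_eq_bot] at h
    rw [h, orderOf_one] at hωo
    exact hr.ne_one hωo.symm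
  rcases Grp.Ambivalent.cyclic_or_quaternion T.isPGroup' (fun u v hu hv =>
    (huniq u (hTC u) hu).trans (huniq v (hTC v) hv).symm) with hcyc | ⟨n, ⟨e⟩⟩
  swap
  · have hTG : IsPGroup 2 ↥((T : Subgroup ↥X).map X.subtype) := T.isPGroup'.map _
    have hm : 2 ≤ 2 ^ (n + 1) := Nat.le_self_pow (Nat.succ_ne_zero n) 2
    obtain ⟨i, hi, j, hj, hf⟩ := exists_qframe hm
      (((T : Subgroup ↥X).equivMapOfInjective X.subtype X.subtype_injective).symm.trans e) hTG
      (show L.z ∈ (T : Subgroup ↥X).map X.subtype from ⟨_, hzT, rfl⟩) L.order_z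
    exact absurd (frame_le_centralizer IH L.hodd h2 hXtop hTG (Subgroup.map_subtype_le _)
      (show L.z ∈ (T : Subgroup ↥X).map X.subtype from ⟨_, hzT, rfl⟩) hi hj hf) hXC
  haveI := hcyc
  have hev : 2 ∣ Nat.card ↥X := by
    have h : orderOf (⟨L.z, hzX⟩ : ↥X) ∣ Nat.card ↥X := orderOf_dvd_natCard _
    rwa [Subgroup.orderOf_mk, L.order_z] at h
  obtain ⟨N₀, hN₀card, hN₀odd, hN₀norm, hN₀mem⟩ := exists_odd_complement T hcyc hev
  have hωN₀ : zpowers ω ≤ N₀ :=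
    zpowers_le.2 (hN₀mem ω (mem_centralizer_singleton_iff.2 rfl) hωodd)
  have hzA : zpowers L.z ≤ normalizer (N₀ : Set G) := zpowers_le.2 (hN₀norm hzX)
  have hzU : zpowers L.z ≤ normalizer (zpowers ω : Set G) :=
    zpowers_le.2 (Subgroup.centralizer_le_normalizer _ (by
      refine Subgroup.mem_centralizer_iff.2 fun w hw => ?_
      obtain ⟨k, rfl⟩ := mem_zpowers_iff.1 hw
      exact ((show Commute L.z ω from (L.mem_C.1 hωC).symm).zpow_right k).eq.symm))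
  obtain ⟨Y, hY, hzY, hωY⟩ := Grp.exists_invariant_sylow_ge (zpowers L.z) N₀ hzA
    (by rw [Nat.card_zpowers, L.order_z]; exact hN₀odd.coprime_two_left)
    (Or.inl (haveI : IsMulCommutative ↥(zpowers L.z) := inferInstance; inferInstance)) hωN₀ hUp hzU
  haveI : IsCyclic Y := L.hodd.isCyclic_of_isPGroup hr hr2 hY.2.1
  have hYC : Y ≤ L.C := by
    intro g hg
    have hzn := hzY (mem_zpowers L.z)
    have hg' : L.z * g * L.z⁻¹ ∈ Y := (Subgroup.mem_normalizer_iff.1 hzn g).1 hg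
    set h := g⁻¹ * (L.z * g * L.z⁻¹) with hh
    have hhY : h ∈ Y := mul_mem (inv_mem hg) hg'
    have hzinv : L.z⁻¹ = L.z := inv_eq_of_mul_eq_one_right L.z_sq
    have hzh : L.z * h * L.z⁻¹ = h⁻¹ := by
      calc L.z * h * L.z⁻¹ = L.z * g⁻¹ * (L.z * g) * (L.z⁻¹ * L.z⁻¹) := by rw [hh]; group
        _ = L.z * g⁻¹ * L.z⁻¹ * g := by rw [hzinv, L.z_sq]; group
        _ = h⁻¹ := by rw [hh]; group
    by_cases h1 : h = 1
    · rw [hh, inv_mul_eq_one] at h1
      exact L.mem_C.2 (mul_inv_eq_iff_eq_mul.1 h1.symm).symm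
    exfalso
    have hωh : ω ∈ zpowers h := by
      refine mem_zpowers_of_orderOf_dvd (hωY (mem_zpowers ω)) hhY ?_
      rw [hωo]
      obtain ⟨a, ha⟩ := IsPGroup.iff_orderOf.1 hY.2.1 ⟨h, hhY⟩
      rw [Subgroup.orderOf_mk] at ha
      rcases a with _ | a
      · exact absurd (orderOf_eq_one_iff.1 ha) h1
      · exact ha ▸ dvd_pow_self r (Nat.succ_ne_zero a)
    obtain ⟨k, hk⟩ := mem_zpowers_iff.1 hωh
    have e : L.z * ω * L.z⁻¹ = ω⁻¹ := by
      rw [← hk, ← conj_zpow, hzh, inv_zpow]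
    rw [← (L.mem_C.1 hωC), mul_inv_cancel_right] at e
    have hsq : ω ^ 2 = 1 := by rw [pow_two, mul_eq_one_iff_eq_inv]; exact e
    have := (Nat.dvd_prime Nat.prime_two).1 (hωo ▸ orderOf_dvd_of_pow_eq_one hsq)
    rcases this with h' | h'
    · exact hr.ne_one h'
    · exact hr2 h'
  refine (?_ : Nat.card ↥(W : Subgroup G) ∣ Nat.card Y).trans (Subgroup.card_dvd_of_le hYC)
  obtain ⟨a, ha⟩ := IsPGroup.iff_card.1 W.isPGroup'
  obtain ⟨b, hb⟩ := IsPGroup.iff_card.1 T.isPGroup'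
  have h1 : r ^ a ∣ Nat.card N₀ := by
    refine Nat.Coprime.dvd_of_dvd_mul_right ?_ (m := Nat.card N₀) (n := Nat.card ↥(T : Subgroup ↥X))
      (hN₀card.symm ▸ ha ▸ Subgroup.card_dvd_of_le hWX)
    rw [hb]
    exact Nat.Coprime.pow _ _ ((Nat.coprime_primes hr Nat.prime_two).2 hr2)
  rw [ha]
  refine Nat.Coprime.dvd_of_dvd_mul_right ?_ (m := Nat.card Y) (n := Y.relIndex N₀) ?_
  · exact Nat.Coprime.pow_left _ (hr.coprime_iff_not_dvd.2 hY.2.2)
  · rw [← Subgroup.relIndex_bot_left Y, Subgroup.relIndex_mul_relIndex _ _ _ bot_le hY.1,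
      Subgroup.relIndex_bot_left]
    exact h1

/-- The valuations at the relevant primes. -/
theorem val_eq (IH : SmallerLinear G) (h2 : TwoCyclic G) (hcore : Cfsg.oddCore G = ⊥) (hnt : Nontrivial G)
    {r : ℕ} (hr : r.Prime) (hr2 : r ≠ 2) (hrel : r = q ∨ r ∣ L.tau' ∨ r ∣ L.oOrd) :
    padicValNat r (Nat.card G) = padicValNat r (Nat.card L.C) := by
  haveI : Fact r.Prime := ⟨hr⟩
  refine le_antisymm ?_ ?_
  · have h := M.sylow_dvd_C IH h2 hcore hnt hr hr2 hrel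
    rw [Nat.factorization_def _ hr] at h
    exact (padicValNat_dvd_iff_le Nat.card_pos.ne').1 h
  · exact (padicValNat_dvd_iff_le Nat.card_pos.ne').1
      (pow_padicValNat_dvd.trans (Subgroup.card_subgroup_dvd_card L.C))

end Mod

end Cfsg.Agent.Invol.AlmostCyclic
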