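import Cfsg.Agent.Lib.Invol.AlmostCyclic.PGroupCyclic
import Cfsg.Agent.Lib.Invol.GW.Consumers.CentStruct
import Cfsg.Agent.Lib.Invol.Core2.RankTwoPSL
import Cfsg.Agent.S0483

/-!
# The involution centraliser maps onto `PGL₂(p)` (for S4069)
-/

set_option autoImplicit false

open scoped MatrixGroups

namespace Cfsg.Agent.Invol.AlmostCyclic

open Subgroup

universe u

section Field

variable {F : Type} [Field F] [Fintype F]

theorem prime_card_of_oddCyclic (hq : Odd (Fintype.card F))
    (h : OddCyclic (Matrix.SpecialLinearGroup (Fin 2) F)) : (Fintype.card F).Prime := by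
  obtain ⟨p, hchar⟩ := CharP.exists F
  obtain ⟨n, hp, hn⟩ := FiniteField.card F p
  haveI : Fact p.Prime := ⟨hp⟩
  have hp2 : p ≠ 2 := by
    rintro rfl
    rw [hn, Nat.odd_pow_iff n.ne_zero] at hq
    exact absurd hq (by decide)
  let f : Multiplicative F →* Matrix.SpecialLinearGroup (Fin 2) F :=
    { toFun := fun a => ⟨!![1, a.toAdd; 0, 1], by simp [Matrix.det_fin_two_of]⟩
      map_one' := Subtype.ext (by ext i j; fin_cases i <;> fin_cases j <;> simp)
      map_mul' := fun a b => Subtype.ext (by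
        show !![(1 : F), a.toAdd + b.toAdd; 0, 1] = !![1, a.toAdd; 0, 1] * !![1, b.toAdd; 0, 1]
        ext i j; fin_cases i <;> fin_cases j <;> simp [Matrix.mul_apply, Fin.sum_univ_two, add_comm]) }
  have hf : Function.Injective f := fun a b hab => by
    have h : (!![(1 : F), a.toAdd; 0, 1] : Matrix (Fin 2) (Fin 2) F) 0 1 =
        (!![(1 : F), b.toAdd; 0, 1] : Matrix (Fin 2) (Fin 2) F) 0 1 :=
      congrFun (congrFun (congrArg Subtype.val hab) 0) 1
    simpa using h
  have hP : IsPGroup p f.range := IsPGroup.of_card (n := n) (by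
    rw [← Nat.card_congr (MonoidHom.ofInjective hf).toEquiv, Nat.card_congr Multiplicative.toAdd,
      Nat.card_eq_fintype_card, hn])
  haveI := h.isCyclic_of_isPGroup hp hp2 hP
  haveI : IsCyclic (Multiplicative F) :=
    isCyclic_of_injective (MonoidHom.ofInjective hf).toMonoidHom (MonoidHom.ofInjective hf).injective
  obtain ⟨g, hg⟩ := IsCyclic.exists_ofOrder_eq_natCard (α := Multiplicative F)
  rw [Nat.card_congr Multiplicative.toAdd, Nat.card_eq_fintype_card, hn] at hg
  have hd : orderOf g ∣ p := orderOf_dvd_of_pow_eq_one (Multiplicative.toAdd.injective (by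
    rw [toAdd_pow, toAdd_one, nsmul_eq_mul, CharP.cast_eq_zero, zero_mul]))
  rw [hg] at hd
  rcases (Nat.dvd_prime hp).1 hd with h1 | h1
  · exact absurd h1 (by
      have := Nat.le_self_pow n.ne_zero p
      have := hp.two_le
      omega)
  · rw [hn, h1]; exact hp

end Field

theorem slTwo_involution_central {F : Type} [Field F] [Fintype F] (hq : Odd (Fintype.card F))
    {u : Matrix.SpecialLinearGroup (Fin 2) F} (hu : orderOf u = 2) :
    u ∈ center (Matrix.SpecialLinearGroup (Fin 2) F) := by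
  have h2 : (2 : F) ≠ 0 := by
    intro h
    have h2' : (2 : ℕ) ∣ Fintype.card F := by
      haveI : Fact (Nat.Prime 2) := ⟨Nat.prime_two⟩
      haveI : CharP F 2 := CharTwo.of_one_ne_zero_of_two_eq_zero one_ne_zero h
      obtain ⟨n, -, hn⟩ := FiniteField.card F 2
      rw [hn]; exact dvd_pow_self 2 n.ne_zero
    rw [Nat.odd_iff] at hq
    omega
  have hsq : u * u = 1 := by rw [← pow_two]; exact orderOf_dvd_iff_pow_eq_one.1 hu.dvd
  have e00 := congrFun (congrFun (congrArg Subtype.val hsq) 0) 0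
  have e01 := congrFun (congrFun (congrArg Subtype.val hsq) 0) 1
  have e10 := congrFun (congrFun (congrArg Subtype.val hsq) 1) 0
  have e11 := congrFun (congrFun (congrArg Subtype.val hsq) 1) 1
  simp [Matrix.mul_apply, Fin.sum_univ_two] at e00 e01 e10 e11
  have hd := u.2
  rw [Matrix.det_fin_two] at hd
  have hs : u.1 0 0 + u.1 1 1 ≠ 0 := fun h => h2 (by linear_combination -e00 - hd + u.1 0 0 * h)
  have hb : u.1 0 1 = 0 := (mul_eq_zero.1 (show u.1 0 1 * (u.1 0 0 + u.1 1 1) = 0 by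
    linear_combination e01)).resolve_right hs
  have hc : u.1 1 0 = 0 := (mul_eq_zero.1 (show u.1 1 0 * (u.1 0 0 + u.1 1 1) = 0 by
    linear_combination e10)).resolve_right hs
  have had : u.1 0 0 = u.1 1 1 := sub_eq_zero.1 ((mul_eq_zero.1
    (show (u.1 0 0 - u.1 1 1) * (u.1 0 0 + u.1 1 1) = 0 by linear_combination e00 - e11)).resolve_right hs)
  refine Subgroup.mem_center_iff.2 fun a => Subtype.ext ?_
  show a.1 * u.1 = u.1 * a.1
  ext i j
  fin_cases i <;> fin_cases j <;> simp [Matrix.mul_apply, Fin.sum_univ_two, hb, hc, had, mul_comm]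

variable {G : Type u} [Group G] [Finite G]

local notation "PGL₂" F => Matrix.ProjGenLinGroup (Fin 2) F

theorem z_facts {X : Type u} [Group X] {n : ℕ} {x y : X} (h : Invol.QD X n x y) {w : X}
    (hw : ∀ a, a * w = w * a) : w = 1 ∨ w = x ^ (2 * Invol.qq n) := by
  obtain ⟨i, rfl | rfl⟩ := h.cases' w
  · refine (h.zpow_sq i).1 ?_
    have h1 := hw y
    rw [h.y_mul_zpow, h.mul_y_eq] at h1
    obtain ⟨c, hc⟩ := h1
    obtain ⟨r, hr⟩ := h.qq_even
    rw [← zpow_add, h.zpow_eq_one]
    -- `i (2q - 2) = 4 q c`, so `i = 2 q c'`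
    have h2 : i * (qq n - 1) = 2 * qq n * c := by linarith
    have h3 : 2 * qq n ∣ i * (qq n - 1) * (qq n + 1) := ⟨c * (qq n + 1), by rw [h2]; ring⟩
    obtain ⟨e, he⟩ := h.qq_sq
    obtain ⟨d, hd⟩ := h3
    exact ⟨i * e - d, by linear_combination (2 * i) * he - 2 * hd⟩
  · exfalso
    have h1 := hw (x ^ (1 : ℤ))
    rw [← mul_assoc, ← zpow_add, h.mul_y_mul_zpow, h.mul_y_eq] at h1
    obtain ⟨c, hc⟩ := h1
    obtain ⟨r, hr⟩ := h.qq_even
    rw [hr] at hc
    rcases (show 4 * r - 2 = 8 * (r * c) ∨ 2 - 4 * r = 8 * (r * c) by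
      first | exact Or.inl (by linarith) | exact Or.inr (by linarith)) with h5 | h5 <;>
      (generalize r * c = m at h5; omega)

/-- The involution centraliser modulo its centre and core is `PGL₂(p)`. -/
theorem exists_model (hodd : OddCyclic G) (S : Sylow 2 G) (hS : Cfsg.IsQuasiDihedral ↥(S : Subgroup G))
    (h2 : ∀ H : Subgroup G, H.index ≠ 2) (z : G) (hz : orderOf z = 2) :
    ∃ (F : Type) (_ : Field F) (_ : Fintype F), Odd (Fintype.card F) ∧ (Fintype.card F).Prime ∧
      ∃ π : ↥(centralizer ({z} : Set G)) →* (PGL₂ F), Function.Surjective π ∧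
        ∀ g, π g = 1 ↔ (g ∈ Cfsg.oddCore ↥(centralizer ({z} : Set G)) ∨
          (⟨z, mem_centralizer_singleton_iff.2 rfl⟩ : ↥(centralizer ({z} : Set G))) * g ∈
            Cfsg.oddCore ↥(centralizer ({z} : Set G))) := by
  haveI : Fact (Nat.Prime 2) := ⟨Nat.prime_two⟩
  set C := centralizer ({z} : Set G) with hC
  set zC : ↥C := ⟨z, mem_centralizer_singleton_iff.2 rfl⟩ with hzC
  haveI hOn : (Cfsg.oddCore ↥C).Normal := Grp.pPrimeCore_isNormal
  have hcop : (Nat.card (Cfsg.oddCore ↥C)).Coprime 2 := Grp.pPrimeCore_coprime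
  obtain ⟨F, hF, hFf, hq, ⟨e⟩⟩ := GW.qd_wreathed_centralizer_mod_core
    (fun {X} _ _ _ T m hm hT => Cfsg.Agent.S0483.result T m hm hT) S (Or.inl hS) h2 z hz
  set L := commutator (↥C ⧸ Cfsg.oddCore ↥C) with hL
  have hbar : OddCyclic (↥C ⧸ Cfsg.oddCore ↥C) :=
    (hodd.subgroup C).of_surjective (QuotientGroup.mk' _) (QuotientGroup.mk'_surjective _)
  have hp := prime_card_of_oddCyclic hq ((hbar.subgroup L).of_injective e.symm.toMonoidHom e.symm.injective)
  refine ⟨F, hF, hFf, hq, hp, ?_⟩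
  -- the action on `PSL₂`
  let r : L →* Matrix.ProjectiveSpecialLinearGroup (Fin 2) F := (QuotientGroup.mk' _).comp e.toMonoidHom
  have hr : Function.Surjective r := (QuotientGroup.mk'_surjective _).comp e.surjective
  let ψ : (↥C ⧸ Cfsg.oddCore ↥C) →* MulAut (Matrix.ProjectiveSpecialLinearGroup (Fin 2) F) := MonoidHom.mk'
    (fun g => QuotientGroup.congr _ _ (MulAut.congr e (MulAut.conjNormal g))
      (Subgroup.characteristic_iff_map_eq.1 inferInstance _))
    fun a b => MulEquiv.ext fun q => QuotientGroup.induction_on q fun s => by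
      simp [MulAut.mul_apply]
  have hψ : ∀ g y, ψ g (r y) = r (MulAut.conjNormal g y) := fun g y => by
    show QuotientGroup.mk (e (MulAut.conjNormal g (e.symm (e y)))) = _
    rw [e.symm_apply_apply]
    rfl
  have hψL : ∀ y : L, ψ (y : ↥C ⧸ Cfsg.oddCore ↥C) =
      GW.pglAut F (Matrix.ProjectiveSpecialLinearGroup.toPGL (r y)) := fun y => by
    rw [GW.pglAut_toPGL]
    refine MulEquiv.ext fun q => ?_
    obtain ⟨w, rfl⟩ := hr q
    rw [hψ, MulAut.conj_apply, ← map_inv, ← map_mul, ← map_mul]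
    exact congrArg r (Subtype.ext (by simp [MulAut.conjNormal_apply]))
  haveI : Finite (PGL₂ F) := Finite.of_surjective _ Matrix.ProjGenLinGroup.mk_surjective
  let E : (PGL₂ F) ≃* MulAut (Matrix.ProjectiveSpecialLinearGroup (Fin 2) F) :=
    MulEquiv.ofBijective (GW.pglAut F) ⟨GW.pglAut_injective, fun α => Invol.Core2.RankTwo.pglAut_surjective_of_prime hp α⟩
  let θ : (↥C ⧸ Cfsg.oddCore ↥C) →* (PGL₂ F) := E.symm.toMonoidHom.comp ψ
  -- the Sylow subgroup of the quotient
  set zb : ↥C ⧸ Cfsg.oddCore ↥C := QuotientGroup.mk' _ zC with hzb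
  have hzc : ∀ a : ↥C, a * zC = zC * a := fun a => Subtype.ext (mem_centralizer_singleton_iff.1 a.2)
  have hzbc : ∀ a, a * zb = zb * a := fun a => by
    obtain ⟨a, rfl⟩ := QuotientGroup.mk'_surjective _ a
    rw [hzb, ← map_mul, ← map_mul, hzc]
  have hzb1 : zb ≠ 1 := fun h => by
    have h1 : zC ∈ Cfsg.oddCore ↥C := (QuotientGroup.eq_one_iff _).1 h
    have h3 : orderOf zC ∣ Nat.card (Cfsg.oddCore ↥C) := Subgroup.orderOf_dvd_natCard _ h1
    rw [← Subgroup.orderOf_coe, hz] at h3
    have := Nat.dvd_gcd h3 (dvd_refl 2)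
    rw [hcop.gcd_eq_one] at this
    norm_num at this
  have hzb2 : zb * zb = 1 := by
    rw [hzb, ← map_mul, show zC * zC = 1 from Subtype.ext (Invol.mul_self_of_orderOf_two hz), map_one]
  obtain ⟨R, hRcard, -⟩ := S1213.result S (Or.inl hS) h2 z hz
  obtain ⟨S', hS'⟩ := (R.isPGroup'.map C.subtype).exists_le_sylow
  have heq : (R : Subgroup ↥C).map C.subtype = (S' : Subgroup G) :=
    Subgroup.eq_of_le_of_card_ge hS' (by
      rw [Subgroup.card_subtype, hRcard, Nat.card_congr (Sylow.equiv S' S).toEquiv])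
  let eR : (R : Subgroup ↥C) ≃* (S : Subgroup G) :=
    (((R : Subgroup ↥C).equivMapOfInjective _ (Subgroup.subtype_injective _)).trans
      (MulEquiv.subgroupCongr heq)).trans (Sylow.equiv S' S)
  let R' : Sylow 2 (↥C ⧸ Cfsg.oddCore ↥C) := R.mapSurjective (QuotientGroup.mk'_surjective _)
  obtain ⟨e'⟩ := GW.sylow_mapSurjective_equiv R (Cfsg.oddCore ↥C) hcop
  obtain ⟨n, x₀, y₀, h0⟩ := Invol.exists_qd hS
  have hQD := h0.map (eR.symm.trans e')
  set x : (R' : Subgroup (↥C ⧸ Cfsg.oddCore ↥C)) := (eR.symm.trans e') x₀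
  set y : (R' : Subgroup (↥C ⧸ Cfsg.oddCore ↥C)) := (eR.symm.trans e') y₀
  have hcore : Cfsg.oddCore (↥C ⧸ Cfsg.oddCore ↥C) = ⊥ := Grp.pPrimeCore_quotient_eq_bot (p := 2)
  -- central involutions
  have huniq : ∀ w : ↥C ⧸ Cfsg.oddCore ↥C, (∀ a, a * w = w * a) → w * w = 1 → w = 1 ∨ w = zb := by
    have key : ∀ w : ↥C ⧸ Cfsg.oddCore ↥C, (∀ a, a * w = w * a) → w * w = 1 →
        ∃ hw : w ∈ (R' : Subgroup (↥C ⧸ Cfsg.oddCore ↥C)), (⟨w, hw⟩ : ↥(R' : Subgroup (↥C ⧸ Cfsg.oddCore ↥C))) = 1 ∨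
          (⟨w, hw⟩ : ↥(R' : Subgroup (↥C ⧸ Cfsg.oddCore ↥C))) = x ^ (2 * Invol.qq n) := by
      intro w hwc hw2
      haveI : (Subgroup.zpowers w).Normal := ⟨fun a ha g => by
        obtain ⟨k, rfl⟩ := Subgroup.mem_zpowers_iff.1 ha
        rw [((show Commute g w from hwc g).zpow_right k).eq, mul_inv_cancel_right]
        exact Subgroup.zpow_mem _ (Subgroup.mem_zpowers w) k⟩
      have hP : IsPGroup 2 (Subgroup.zpowers w) := by
        obtain ⟨k, -, hk⟩ := (Nat.dvd_prime_pow Nat.prime_two).1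
          (orderOf_dvd_of_pow_eq_one (show w ^ 2 ^ 1 = 1 by rw [pow_one, pow_two, hw2]))
        exact IsPGroup.of_card (n := k) (by rw [Nat.card_zpowers, hk])
      have hw : w ∈ (R' : Subgroup (↥C ⧸ Cfsg.oddCore ↥C)) := hP.le_sylow_of_normal R' (Subgroup.mem_zpowers w)
      exact ⟨hw, z_facts hQD fun a => Subtype.ext (hwc a.1)⟩
    intro w hwc hw2
    obtain ⟨h1, h1' | h1'⟩ := key w hwc hw2
    · exact Or.inl (congrArg Subtype.val h1')
    obtain ⟨h2', h3 | h3⟩ := key zb hzbc hzb2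
    · exact absurd (congrArg Subtype.val h3) hzb1
    · exact Or.inr (congrArg Subtype.val (h1'.trans h3.symm))
  have hzL : zb ∈ L := by
    haveI : Finite (center (Matrix.SpecialLinearGroup (Fin 2) F)) := inferInstance
    obtain ⟨c, hc⟩ := exists_prime_orderOf_dvd_card' (G := center (Matrix.SpecialLinearGroup (Fin 2) F)) 2
      (GW.card_center_SLTwo hq).symm.dvd
    set w : L := e.symm (c : Matrix.SpecialLinearGroup (Fin 2) F) with hw
    have hwo : orderOf (w : ↥C ⧸ Cfsg.oddCore ↥C) = 2 := by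
      rw [Subgroup.orderOf_coe, hw, MulEquiv.orderOf_eq, Subgroup.orderOf_coe, hc]
    have hwu : ∀ v : L, v ∈ center L → v * v = 1 → v = 1 ∨ v = w := by
      intro v hv hv2
      have hv' : e v ∈ center (Matrix.SpecialLinearGroup (Fin 2) F) := Subgroup.mem_center_iff.2 fun a => by
        obtain ⟨b, rfl⟩ := e.surjective a
        rw [← map_mul, ← map_mul, Subgroup.mem_center_iff.1 hv b]
      have hcard := GW.card_center_SLTwo hq
      rw [Nat.card_eq_two_iff] at hcard
      obtain ⟨a, b, hab, huniv⟩ := hcard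
      have hall : ∀ d : center (Matrix.SpecialLinearGroup (Fin 2) F), d = 1 ∨ d = c := by
        intro d
        have hc1 : c ≠ 1 := fun h => by rw [h, orderOf_one] at hc; omega
        have m : ∀ u : center (Matrix.SpecialLinearGroup (Fin 2) F), u = a ∨ u = b := fun u => by
          have : u ∈ ({a, b} : Set _) := huniv ▸ Set.mem_univ u
          simpa using this
        rcases m 1 with h1 | h1 <;> rcases m c with h2 | h2 <;> rcases m d with h3 | h3 <;>
          first | exact absurd (h2.trans h1.symm) hc1 | exact Or.inl (h3.trans h1.symm) | exact Or.inr (h3.trans h2.symm)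
      rcases hall ⟨e v, hv'⟩ with h | h
      · exact Or.inl (e.injective ((congrArg Subtype.val h).trans (map_one e).symm))
      · exact Or.inr (e.injective ((congrArg Subtype.val h).trans (e.apply_symm_apply _).symm))
    have hwcL : w ∈ center L := Subgroup.mem_center_iff.2 fun a => e.injective (by
      rw [map_mul, map_mul, hw, e.apply_symm_apply]; exact Subgroup.mem_center_iff.1 c.2 (e a))
    have hwc : ∀ a, a * (w : ↥C ⧸ Cfsg.oddCore ↥C) = w * a := by
      intro a
      have hcent : MulAut.conjNormal a w ∈ center L := Subgroup.mem_center_iff.2 fun b => by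
        obtain ⟨b', rfl⟩ := (MulAut.conjNormal (H := L) a).surjective b
        rw [← map_mul, ← map_mul, Subgroup.mem_center_iff.1 hwcL b']
      have hw2 : w * w = 1 := by
        have := pow_orderOf_eq_one w
        rw [← Subgroup.orderOf_coe, hwo, pow_two] at this
        exact this
      rcases hwu _ hcent (by rw [← map_mul, hw2, map_one]) with h | h
      · exfalso
        have := (map_eq_one_iff _ (MulAut.conjNormal (H := L) a).injective).1 h
        rw [this, OneMemClass.coe_one, orderOf_one] at hwo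
        omega
      · have := congrArg Subtype.val h
        rw [MulAut.conjNormal_apply] at this
        exact mul_inv_eq_iff_eq_mul.1 this
    rcases huniq _ hwc (Invol.mul_self_of_orderOf_two hwo) with h | h
    · rw [h, orderOf_one] at hwo; omega
    · exact h ▸ w.2
  -- the kernel
  have hkL : ∀ v : L, ψ (v : ↥C ⧸ Cfsg.oddCore ↥C) = 1 → (v : ↥C ⧸ Cfsg.oddCore ↥C) = 1 ∨ (v : ↥C ⧸ Cfsg.oddCore ↥C) = zb := by
    intro v hv
    rw [hψL, ← map_one (GW.pglAut F)] at hv
    have h1 : r v = 1 := Matrix.ProjectiveSpecialLinearGroup.toPGL_injective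
      ((GW.pglAut_injective hv).trans (map_one _).symm)
    have h3 : e v ∈ center (Matrix.SpecialLinearGroup (Fin 2) F) := (QuotientGroup.eq_one_iff _).1 h1
    have hzv : e ⟨zb, hzL⟩ ∈ center (Matrix.SpecialLinearGroup (Fin 2) F) := Subgroup.mem_center_iff.2 fun a => by
      obtain ⟨b, rfl⟩ := e.surjective a
      rw [← map_mul, ← map_mul]
      exact congrArg e (Subtype.ext (hzbc b.1))
    have hcard := GW.card_center_SLTwo hq
    have hz1 : (⟨e ⟨zb, hzL⟩, hzv⟩ : center (Matrix.SpecialLinearGroup (Fin 2) F)) ≠ 1 := fun h =>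
      hzb1 (congrArg Subtype.val (e.injective ((congrArg Subtype.val h).trans (map_one e).symm)))
    rw [Nat.card_eq_two_iff] at hcard
    obtain ⟨a, b, hab, huniv⟩ := hcard
    have m : ∀ u : center (Matrix.SpecialLinearGroup (Fin 2) F), u = a ∨ u = b := fun u => by
      have : u ∈ ({a, b} : Set _) := huniv ▸ Set.mem_univ u
      simpa using this
    rcases m 1 with h1 | h1 <;> rcases m ⟨_, hzv⟩ with h2 | h2 <;> rcases m ⟨_, h3⟩ with h4 | h4 <;>
      first
      | exact absurd (h2.trans h1.symm) hz1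
      | exact Or.inl (congrArg Subtype.val (e.injective ((congrArg Subtype.val (h4.trans h1.symm)).trans (map_one e).symm)))
      | exact Or.inr (congrArg (fun u : L => (u : ↥C ⧸ Cfsg.oddCore ↥C)) (e.injective (congrArg Subtype.val (h4.trans h2.symm))))
  have hzker : ψ zb = 1 := by
    refine MulEquiv.ext fun q => ?_
    obtain ⟨w, rfl⟩ := hr q
    rw [hψ]
    refine congrArg r (Subtype.ext ?_)
    rw [MulAut.conjNormal_apply, ← hzbc, mul_inv_cancel_right]
  have hkc : ∀ w, ψ w = 1 → ∀ a, a * w * a⁻¹ * w⁻¹ = 1 ∨ a * w * a⁻¹ * w⁻¹ = zb := by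
    intro w hw a
    have hmem : a * w * a⁻¹ * w⁻¹ ∈ L := by
      rw [hL, _root_.commutator_def]
      exact Subgroup.commutator_mem_commutator (Subgroup.mem_top a) (Subgroup.mem_top w)
    exact hkL ⟨_, hmem⟩ (by
      show ψ (a * w * a⁻¹ * w⁻¹) = 1
      rw [map_mul, map_mul, map_mul, map_inv, map_inv, hw, mul_one, mul_inv_cancel, inv_one, mul_one])
  have hkodd : ∀ w, ψ w = 1 → Odd (orderOf w) → w = 1 := by
    intro w hw ho
    have hwc : ∀ a, a * w = w * a := by
      intro a
      rcases hkc w hw a with h | h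
      · exact mul_inv_eq_iff_eq_mul.1 (by rwa [mul_inv_eq_one] at h)
      · exfalso
        have h1 : a * w * a⁻¹ = zb * w := by rw [← h, inv_mul_cancel_right]
        have h2' := congrArg (· ^ orderOf w) h1
        simp only [conj_pow, pow_orderOf_eq_one, mul_one, mul_inv_cancel] at h2'
        rw [(show Commute zb w from (hzbc w).symm).mul_pow, pow_orderOf_eq_one, mul_one] at h2'
        obtain ⟨j, hj⟩ := ho
        rw [hj, pow_succ, pow_mul, pow_two, hzb2, one_pow, one_mul] at h2'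
        exact hzb1 h2'.symm
    haveI : (Subgroup.zpowers w).Normal := ⟨fun a ha g => by
      obtain ⟨k, rfl⟩ := Subgroup.mem_zpowers_iff.1 ha
      rw [((show Commute g w from hwc g).zpow_right k).eq, mul_inv_cancel_right]
      exact Subgroup.zpow_mem _ (Subgroup.mem_zpowers w) k⟩
    have hle : Subgroup.zpowers w ≤ Cfsg.oddCore (↥C ⧸ Cfsg.oddCore ↥C) :=
      Grp.le_pPrimeCore inferInstance (by rw [Nat.card_zpowers]; exact ho.coprime_two_right)
    rw [hcore] at hle
    exact Subgroup.mem_bot.1 (hle (Subgroup.mem_zpowers w))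
  have hker2 : IsPGroup 2 ψ.ker := by
    intro w
    obtain ⟨a, m, hm, hom⟩ := Nat.exists_eq_two_pow_mul_odd (orderOf_pos (w : ↥C ⧸ Cfsg.oddCore ↥C)).ne'
    refine ⟨a, Subtype.ext ?_⟩
    rw [SubgroupClass.coe_pow, OneMemClass.coe_one]
    refine hkodd _ (by rw [map_pow, show ψ w = 1 from w.2, one_pow]) ?_
    rw [orderOf_pow' _ (by positivity), hom, Nat.gcd_eq_right (dvd_mul_right _ _),
      Nat.mul_div_cancel_left _ (by positivity)]
    exact hm
  have hkR : ∀ w, ψ w = 1 → w ∈ (R' : Subgroup (↥C ⧸ Cfsg.oddCore ↥C)) := fun w hw => hker2.le_sylow_of_normal R' hw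
  -- the even rotations lie in the derived group
  have hcomL : ∀ a b : (R' : Subgroup (↥C ⧸ Cfsg.oddCore ↥C)), (R' : Subgroup (↥C ⧸ Cfsg.oddCore ↥C)).subtype (a * b * a⁻¹ * b⁻¹) ∈ L := by
    intro a b
    rw [hL, _root_.commutator_def]
    exact Subgroup.commutator_mem_commutator (Subgroup.mem_top (a : ↥C ⧸ Cfsg.oddCore ↥C)) (Subgroup.mem_top b)
  have hx2 : ∀ k : ℤ, ((x ^ (2 * k) : ↥(R' : Subgroup (↥C ⧸ Cfsg.oddCore ↥C))) : ↥C ⧸ Cfsg.oddCore ↥C) ∈ L := by
    intro k
    obtain ⟨d, hd⟩ : ∃ d : ℤ, x ^ (2 * k) = (y * x * y⁻¹ * x⁻¹) ^ d := by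
      obtain ⟨e1, he⟩ := hQD.qq_sq
      refine ⟨-k * (1 + qq n), ?_⟩
      have hyx : y * x * y⁻¹ * x⁻¹ = x ^ (2 * qq n - 2) := by
        have h3 : y * x ^ (1 : ℤ) = x ^ ((1 : ℤ) * (2 * qq n - 1)) * y := hQD.y_mul_zpow 1
        rw [zpow_one, one_mul] at h3
        rw [h3, mul_inv_cancel_right, ← zpow_neg_one, ← zpow_add]
        congr 1
        ring
      rw [hyx, ← zpow_mul, hQD.zpow_eq]
      exact ⟨k * e1, by linear_combination (2 * k) * he⟩
    rw [hd, Subgroup.coe_zpow]
    exact Subgroup.zpow_mem _ (hcomL y x) d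
  have hker : ∀ w, ψ w = 1 → w = 1 ∨ w = zb := by
    intro w hw
    have hwR := hkR w hw
    suffices hwL : w ∈ L from hkL ⟨w, hwL⟩ hw
    obtain ⟨i, hi | hi⟩ := hQD.cases' ⟨w, hwR⟩
    · have h2w : ψ ((x ^ (2 * i) : ↥(R' : Subgroup (↥C ⧸ Cfsg.oddCore ↥C))) : ↥C ⧸ Cfsg.oddCore ↥C) = 1 := by
        rw [show x ^ (2 * i) = (x ^ i) * (x ^ i) by rw [← zpow_add]; congr 1; ring, ← hi, Subgroup.coe_mul,
          map_mul, hw, one_mul]
      have hc2 : (x ^ (2 * i) : ↥(R' : Subgroup (↥C ⧸ Cfsg.oddCore ↥C))) * x ^ (2 * i) = 1 := by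
        rcases hkL ⟨_, hx2 i⟩ h2w with h | h
        · have h' : x ^ (2 * i) = 1 := Subtype.ext h
          rw [h', one_mul]
        · refine Subtype.ext ?_
          rw [Subgroup.coe_mul, h, hzb2]; rfl
      rw [← zpow_add, hQD.zpow_eq_one] at hc2
      obtain ⟨c, hc⟩ := hc2
      obtain ⟨q', hq'⟩ := hQD.qq_even
      have hiq : i = 2 * (q' * c) := by rw [hq'] at hc; linarith
      have := hx2 (q' * c)
      rwa [← hiq, ← hi] at this
    · exfalso
      obtain ⟨q', hq'⟩ := hQD.qq_even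
      have hyx : x * (x ^ i * y) * x⁻¹ * (x ^ i * y)⁻¹ = x ^ (2 * (1 - qq n)) := by
        have h3 := hQD.conj_x 1 i
        rw [zpow_one] at h3
        rw [h3, mul_inv_rev, mul_assoc, mul_inv_cancel_left, ← zpow_neg, ← zpow_add]
        congr 1
        ring
      have h2w : ψ ((x ^ (2 * (1 - qq n)) : ↥(R' : Subgroup (↥C ⧸ Cfsg.oddCore ↥C))) : ↥C ⧸ Cfsg.oddCore ↥C) = 1 := by
        rw [← hyx, ← hi]
        push_cast
        rw [map_mul, map_mul, map_mul, map_inv, map_inv, hw, mul_one, mul_inv_cancel, inv_one, mul_one]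
      have hc2 : (x ^ (2 * (1 - qq n)) : ↥(R' : Subgroup (↥C ⧸ Cfsg.oddCore ↥C))) * x ^ (2 * (1 - qq n)) = 1 := by
        rcases hkL ⟨_, hx2 _⟩ h2w with h | h
        · have h' : x ^ (2 * (1 - qq n)) = 1 := Subtype.ext h
          rw [h', one_mul]
        · refine Subtype.ext ?_
          rw [Subgroup.coe_mul, h, hzb2]; rfl
      rw [← zpow_add, hQD.zpow_eq_one] at hc2
      obtain ⟨c, hc⟩ := hc2
      have h5 : 4 * (q' * (2 * c + 2)) = 4 := by rw [hq'] at hc; linarith
      generalize hm : q' * (2 * c + 2) = m at h5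
      have h6 : (2 : ℤ) ∣ m := ⟨q' * (c + 1), by rw [← hm]; ring⟩
      omega
  -- surjectivity
  have hrange : θ.range = ⊤ := by
    have hle : (Matrix.ProjectiveSpecialLinearGroup.toPGL (n := Fin 2) (R := F)).range ≤ θ.range := by
      rintro _ ⟨q, rfl⟩
      obtain ⟨w, rfl⟩ := hr q
      exact ⟨(w : ↥C ⧸ Cfsg.oddCore ↥C), by
        show E.symm (ψ w) = _
        rw [hψL]
        exact E.symm_apply_apply (Matrix.ProjectiveSpecialLinearGroup.toPGL (r w))⟩
    have h2i : θ.range.index = 1 ∨ θ.range.index = 2 := (Nat.dvd_prime Nat.prime_two).1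
      (by have := Subgroup.index_dvd_of_le hle; rwa [Invol.Core2.RankTwo.index_range_toPGL hq] at this)
    rcases h2i with h | h
    · exact Subgroup.index_eq_one.1 h
    exfalso
    have heq' : θ.range = (Matrix.ProjectiveSpecialLinearGroup.toPGL (n := Fin 2) (R := F)).range :=
      (Subgroup.eq_of_le_of_card_ge hle (Nat.le_of_eq (by
        have a := θ.range.card_mul_index
        have b := (Matrix.ProjectiveSpecialLinearGroup.toPGL (n := Fin 2) (R := F)).range.card_mul_index
        rw [h] at a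
        rw [Invol.Core2.RankTwo.index_range_toPGL hq] at b
        omega))).symm
    have hall : ∀ c, c ∈ L := by
      intro c
      obtain ⟨q, hq'⟩ := (heq' ▸ ⟨c, rfl⟩ : θ c ∈ (Matrix.ProjectiveSpecialLinearGroup.toPGL (n := Fin 2) (R := F)).range)
      obtain ⟨w, rfl⟩ := hr q
      have h1 : ψ ((w : ↥C ⧸ Cfsg.oddCore ↥C)⁻¹ * c) = 1 := by
        have h2' : ψ (w : ↥C ⧸ Cfsg.oddCore ↥C) = ψ c := by
          refine E.symm.injective ?_
          rw [hψL, show E.symm (GW.pglAut F _) = _ from E.symm_apply_apply _, hq']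
          rfl
        rw [map_mul, map_inv, h2', inv_mul_cancel]
      rcases hker _ h1 with h3 | h3
      · rw [← inv_mul_eq_one.1 h3]; exact w.2
      · rw [show c = w * zb by rw [← h3, mul_inv_cancel_left]]; exact L.mul_mem w.2 hzL
    -- `SL₂` has a single involution
    have hyR : ((y : ↥(R' : Subgroup (↥C ⧸ Cfsg.oddCore ↥C))) : ↥C ⧸ Cfsg.oddCore ↥C) ∈ L := hall _
    have hyo : orderOf (y : ↥C ⧸ Cfsg.oddCore ↥C) = 2 := by rw [Subgroup.orderOf_coe, hQD.oy]
    have hsl : ∀ u : Matrix.SpecialLinearGroup (Fin 2) F, orderOf u = 2 → u ∈ center _ :=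
      fun u hu => slTwo_involution_central hq hu
    have hyc : ∀ a : (R' : Subgroup (↥C ⧸ Cfsg.oddCore ↥C)), a * y = y * a := by
      intro a
      have h1 := hsl (e ⟨_, hyR⟩) (by rw [MulEquiv.orderOf_eq, ← Subgroup.orderOf_coe]; exact hyo)
      have h2' := Subgroup.mem_center_iff.1 h1 (e ⟨_, hall a⟩)
      rw [← map_mul, ← map_mul] at h2'
      exact Subtype.ext (congrArg (fun u : L => (u : ↥C ⧸ Cfsg.oddCore ↥C)) (e.injective h2'))
    rcases z_facts hQD hyc with h' | h'
    · rw [h', OneMemClass.coe_one, orderOf_one] at hyo; omega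
    · exact hQD.zpow_mul_y_ne 0 (2 * Invol.qq n) (by rw [zpow_zero, one_mul]; exact h')
  refine ⟨θ.comp (QuotientGroup.mk' _), ?_, fun g => ?_⟩
  · exact (MonoidHom.range_eq_top.1 hrange).comp (QuotientGroup.mk'_surjective _)
  · constructor
    · intro hg
      have h1 : ψ (QuotientGroup.mk' _ g) = 1 := E.symm.injective (hg.trans (map_one _).symm)
      rcases hker _ h1 with h | h
      · exact Or.inl ((QuotientGroup.eq_one_iff _).1 h)
      · refine Or.inr ((QuotientGroup.eq_one_iff _).1 ?_)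
        show QuotientGroup.mk' (Cfsg.oddCore ↥C) (zC * g) = 1
        rw [map_mul, h, ← hzb, hzb2]
    · intro hg
      have h1 : ψ (QuotientGroup.mk' _ g) = 1 := by
        rcases hg with h | h
        · rw [show QuotientGroup.mk' (Cfsg.oddCore ↥C) g = 1 from (QuotientGroup.eq_one_iff _).2 h, map_one]
        · have h' : zb * QuotientGroup.mk' (Cfsg.oddCore ↥C) g = 1 := by
            rw [hzb, ← map_mul]; exact (QuotientGroup.eq_one_iff _).2 h
          have h'' := congrArg ψ h'
          rwa [map_mul, hzker, one_mul, map_one] at h''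
      show E.symm (ψ (QuotientGroup.mk' _ g)) = 1
      rw [h1, map_one]

end Cfsg.Agent.Invol.AlmostCyclic
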