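import Cfsg.Agent.Lib.Invol.AlmostCyclic.Small
import Cfsg.Agent.Lib.Invol.GW.Consumers.RankOne
import Cfsg.Agent.Lib.Invol.GW.Consumers.OutAdjust
import Cfsg.Agent.Lib.Classical.DicksonFacts
import Cfsg.Agent.S2086

/-!
# The models `PSL₂(p)`, `SL₂(p)` of the almost Sylow-cyclic perfect groups (for S4069)
-/

set_option autoImplicit false

namespace Cfsg.Agent.Invol.AlmostCyclic

open Subgroup

universe u

/-- With cyclic Sylow subgroups of odd order, commuting elements of odd prime order generate one subgroup. -/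
theorem OddCyclic.mem_zpowers {G : Type*} [Group G] [Finite G] (h : OddCyclic G) {r : ℕ} (hr : r.Prime)
    (hr2 : r ≠ 2) {x y : G} (hxy : Commute x y) (hx : x ^ r = 1) (hy : orderOf y = r) :
    x ∈ zpowers y := by
  haveI : Fact r.Prime := ⟨hr⟩
  let K : Subgroup G := closure {x, y}
  have hxK : x ∈ K := subset_closure (Set.mem_insert _ _)
  have hyK : y ∈ K := subset_closure (Set.mem_insert_of_mem _ rfl)
  have hex : ∀ a ∈ K, a ^ r = 1 ∧ Commute a x ∧ Commute a y := by
    intro a ha
    induction ha using closure_induction with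
    | mem a ha =>
      rcases ha with rfl | rfl
      · exact ⟨hx, Commute.refl _, hxy⟩
      · exact ⟨hy ▸ pow_orderOf_eq_one _, hxy.symm, Commute.refl _⟩
    | one => exact ⟨one_pow r, Commute.one_left x, Commute.one_left y⟩
    | mul a b ha hb iha ihb =>
      refine ⟨?_, iha.2.1.mul_left ihb.2.1, iha.2.2.mul_left ihb.2.2⟩
      have hab : Commute a b := by
        have hle : K ≤ centralizer ({a} : Set G) := by
          rw [closure_le]
          intro c hc
          rw [SetLike.mem_coe, mem_centralizer_singleton_iff]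
          rcases hc with rfl | rfl
          · exact iha.2.1.eq.symm
          · exact iha.2.2.eq.symm
        exact (mem_centralizer_singleton_iff.1 (hle hb)).symm
      rw [hab.mul_pow, iha.1, ihb.1, one_mul]
    | inv a ha iha => exact ⟨by rw [inv_pow, iha.1, inv_one], iha.2.1.inv_left, iha.2.2.inv_left⟩
  have hK : IsPGroup r ↥K := fun a => ⟨1, by
    rw [pow_one]
    exact Subtype.ext (hex a a.2).1⟩
  obtain ⟨R, hR⟩ := hK.exists_le_sylow
  haveI : IsCyclic ↥(R : Subgroup G) := h r hr hr2 R
  haveI : IsCyclic ↥K := isCyclic_of_le hR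
  obtain ⟨g, hg⟩ := IsCyclic.exists_generator (α := ↥K)
  have hcard : Nat.card ↥K ≤ r := by
    have hKg : Nat.card ↥K = orderOf g := (orderOf_eq_card_of_forall_mem_zpowers hg).symm
    rw [hKg]
    exact Nat.le_of_dvd hr.pos (orderOf_dvd_of_pow_eq_one (Subtype.ext (hex g g.2).1))
  have heq : zpowers y = K := eq_of_le_of_card_ge (zpowers_le.2 hyK) (by rw [Nat.card_zpowers, hy]; exact hcard)
  exact heq ▸ hxK

/-- No alternating group of degree seven. -/
theorem OddCyclic.not_altSeven {G : Type*} [Group G] [Finite G] (h : OddCyclic G)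
    (f : G →* alternatingGroup (Fin 7)) (hf : Function.Surjective f) : False := by
  have h7 := h.of_surjective f hf
  let a : Equiv.Perm (Fin 7) := Equiv.swap 0 1 * Equiv.swap 1 2
  let b : Equiv.Perm (Fin 7) := Equiv.swap 3 4 * Equiv.swap 4 5
  have hfacts : Equiv.Perm.sign a = 1 ∧ Equiv.Perm.sign b = 1 ∧ a * b = b * a ∧ a ^ 3 = 1 ∧ b ^ 3 = 1 ∧
      b ≠ 1 ∧ a ≠ 1 ∧ a ≠ b ∧ a ≠ b ^ 2 := by decide +kernel
  obtain ⟨ha, hb, hab, ha3, hb3, hb1, ha1, hne, hne2⟩ := hfacts
  let A : alternatingGroup (Fin 7) := ⟨a, Equiv.Perm.mem_alternatingGroup.2 ha⟩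
  let B : alternatingGroup (Fin 7) := ⟨b, Equiv.Perm.mem_alternatingGroup.2 hb⟩
  haveI : Fact (Nat.Prime 3) := ⟨Nat.prime_three⟩
  have hB : orderOf B = 3 := orderOf_eq_prime (Subtype.ext hb3) fun e => hb1 (congrArg Subtype.val e)
  obtain ⟨k, hk⟩ := mem_zpowers_iff.1
    (h7.mem_zpowers Nat.prime_three (by norm_num) (x := A) (y := B) (Subtype.ext hab) (Subtype.ext ha3) hB)
  rw [← zpow_mod_orderOf, hB] at hk
  have h0 : 0 ≤ k % 3 := Int.emod_nonneg _ (by norm_num)
  have h1 : k % 3 < 3 := Int.emod_lt_of_pos _ (by norm_num)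
  have hk' : b ^ (k % ((3 : ℕ) : ℤ)) = a := congrArg Subtype.val hk
  rcases (show k % 3 = 0 ∨ k % 3 = 1 ∨ k % 3 = 2 by omega) with e | e | e <;>
    rw [Nat.cast_ofNat, e] at hk'
  · exact ha1 hk'.symm
  · exact hne (by rw [← hk', zpow_one])
  · exact hne2 (by rw [← hk', zpow_ofNat])

/-- The upper unitriangular subgroup. -/
def unipHom (F : Type*) [Field F] : Multiplicative F →* Matrix.SpecialLinearGroup (Fin 2) F where
  toFun x := ⟨(!![1, Multiplicative.toAdd x; 0, 1] : Matrix (Fin 2) (Fin 2) F), by simp [Matrix.det_fin_two]⟩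
  map_one' := Subtype.ext (by ext i j; fin_cases i <;> fin_cases j <;> simp)
  map_mul' x y := Subtype.ext (by
    show (!![1, Multiplicative.toAdd (x * y); 0, 1] : Matrix (Fin 2) (Fin 2) F) =
      !![1, Multiplicative.toAdd x; 0, 1] * !![1, Multiplicative.toAdd y; 0, 1]
    ext i j
    fin_cases i <;> fin_cases j <;> simp [Matrix.mul_apply, Fin.sum_univ_two, add_comm])

/-- With cyclic Sylow subgroups the field is a prime field. -/
theorem OddCyclic.prime_of_field {G : Type*} [Group G] [Finite G] (h : OddCyclic G) {F : Type} [Field F]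
    [Fintype F] (hodd : Odd (Fintype.card F)) (f : Multiplicative F →* G) (hf : Function.Injective f) :
    (Fintype.card F).Prime := by
  obtain ⟨p, hp⟩ := CharP.exists F
  obtain ⟨n, hprime, hn⟩ := FiniteField.card F p
  haveI : Fact p.Prime := ⟨hprime⟩
  have hp2 : p ≠ 2 := by
    intro e
    rw [hn, e] at hodd
    exact Nat.not_odd_iff_even.2 (Even.pow_of_ne_zero even_two n.pos.ne') hodd
  have hex : ∀ x : Multiplicative F, x ^ p = 1 := fun x => by
    apply Multiplicative.toAdd.injective
    rw [toAdd_pow, toAdd_one, nsmul_eq_mul, CharP.cast_eq_zero, zero_mul]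
  have hy : orderOf (f (Multiplicative.ofAdd 1)) = p :=
    orderOf_eq_prime (by rw [← map_pow, hex, map_one]) fun e =>
      one_ne_zero (α := F) (congrArg Multiplicative.toAdd ((map_eq_one_iff f hf).1 e))
  have hle : f.range ≤ zpowers (f (Multiplicative.ofAdd 1)) := by
    rintro _ ⟨x, rfl⟩
    exact h.mem_zpowers hprime hp2 ((Commute.all x _).map f) (by rw [← map_pow, hex, map_one]) hy
  have h1 := card_le_of_le hle
  rw [Nat.card_zpowers, hy, ← Nat.card_congr (MonoidHom.ofInjective hf).toEquiv] at h1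
  have h2 : Fintype.card F ≤ p := by
    rwa [← Nat.card_eq_fintype_card, ← Nat.card_congr (Multiplicative.toAdd (α := F))]
  have h3 : p ≤ Fintype.card F := by rw [hn]; exact Nat.le_self_pow n.pos.ne' p
  exact (le_antisymm h2 h3).symm ▸ hprime

theorem unip_injective {F : Type*} [Field F] : Function.Injective (unipHom F) := fun x y h => by
  have := congrFun (congrFun (congrArg Subtype.val h) 0) 1
  exact Multiplicative.toAdd.injective this

theorem unip_psl_injective {F : Type*} [Field F] :
    Function.Injective ((QuotientGroup.mk' (center (Matrix.SpecialLinearGroup (Fin 2) F))).comp (unipHom F)) := by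
  rw [← MonoidHom.ker_eq_bot_iff, eq_bot_iff]
  intro x hx
  have hc : unipHom F x ∈ center (Matrix.SpecialLinearGroup (Fin 2) F) :=
    (QuotientGroup.eq_one_iff _).1 hx
  obtain ⟨r, -, he⟩ := Matrix.SpecialLinearGroup.mem_center_iff.1 hc
  have := congrFun (congrFun he 0) 1
  have h2 : (Matrix.scalar (Fin 2) r : Matrix (Fin 2) (Fin 2) F) 0 1 = Multiplicative.toAdd x := this
  refine mem_bot.2 (Multiplicative.toAdd.injective ?_)
  simpa using h2.symm

/-- A model over a prime field. -/
theorem isTwoLinear_of_SL {G : Type*} [Group G] [Finite G] (h : OddCyclic G) {F : Type} [Field F] [Fintype F]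
    (hodd : Odd (Fintype.card F)) (h3 : 3 < Fintype.card F)
    (f : G ≃* Matrix.SpecialLinearGroup (Fin 2) F) : IsTwoLinear G := by
  have hp := h.prime_of_field hodd (f.symm.toMonoidHom.comp (unipHom F)) (f.symm.injective.comp unip_injective)
  haveI : Fact (Fintype.card F).Prime := ⟨hp⟩
  let e := ZMod.ringEquivOfPrime F hp rfl
  refine ⟨Fintype.card F, inferInstance, ?_, Or.inr ⟨f.trans (MonoidHom.toMulEquiv
    (Matrix.SpecialLinearGroup.map (e.symm : F →+* ZMod (Fintype.card F)))
    (Matrix.SpecialLinearGroup.map (e : ZMod (Fintype.card F) →+* F)) ?_ ?_)⟩⟩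
  · rcases Nat.lt_or_ge (Fintype.card F) 5 with hlt | hge
    · exfalso
      rw [show Fintype.card F = 4 by omega] at hp
      exact absurd hp (by decide)
    · exact hge
  · ext x i j; simp
  · ext x i j; simp

theorem isTwoLinear_of_PSL {G : Type*} [Group G] [Finite G] (h : OddCyclic G) {F : Type} [Field F] [Fintype F]
    (hodd : Odd (Fintype.card F)) (h3 : 3 < Fintype.card F)
    (f : G ≃* Matrix.ProjectiveSpecialLinearGroup (Fin 2) F) : IsTwoLinear G := by
  have hp := h.prime_of_field hodd
    (f.symm.toMonoidHom.comp ((QuotientGroup.mk' _).comp (unipHom F))) (f.symm.injective.comp unip_psl_injective)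
  haveI : Fact (Fintype.card F).Prime := ⟨hp⟩
  obtain ⟨g⟩ := Dickson.nonempty_psl_congr (ZMod.ringEquivOfPrime F hp rfl).symm
  refine ⟨Fintype.card F, inferInstance, ?_, Or.inl ⟨f.trans g⟩⟩
  rcases Nat.lt_or_ge (Fintype.card F) 5 with hlt | hge
  · exfalso
    rw [show Fintype.card F = 4 by omega] at hp
    exact absurd hp (by decide)
  · exact hge

/-- The projection of a linear perfect group onto `PSL₂(p)`. -/
theorem exists_psl_hom {L : Type u} [Group L] [Finite L] (hL : IsTwoLinear L) :
    ∃ (p : ℕ) (_ : Fact p.Prime), 5 ≤ p ∧ ∃ r : L →* Matrix.ProjectiveSpecialLinearGroup (Fin 2) (ZMod p),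
      Function.Surjective r ∧ r.ker ≤ center L ∧
        (Function.Injective r ∨ (Nat.card ↥r.ker = 2 ∧ ∀ a b : L, orderOf a = 2 → orderOf b = 2 → a = b)) := by
  obtain ⟨p, hp, h5, ⟨⟨f⟩⟩ | ⟨⟨f⟩⟩⟩ := hL
  · exact ⟨p, hp, h5, f.toMonoidHom, f.surjective, by
      rw [(MonoidHom.ker_eq_bot_iff f.toMonoidHom).2 f.injective]; exact bot_le, Or.inl f.injective⟩
  have hcard : Fintype.card (ZMod p) = p := ZMod.card p
  have hodd : Odd (Fintype.card (ZMod p)) := by rw [hcard]; exact hp.out.odd_of_ne_two (by omega)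
  have hker : ∀ x : L, x ∈ ((QuotientGroup.mk' (center (Matrix.SpecialLinearGroup (Fin 2) (ZMod p)))).comp
      f.toMonoidHom).ker ↔ f x ∈ center _ := fun x => QuotientGroup.eq_one_iff _
  refine ⟨p, hp, h5, (QuotientGroup.mk' _).comp f.toMonoidHom,
    (QuotientGroup.mk'_surjective _).comp f.surjective, ?_, Or.inr ⟨?_, ?_⟩⟩
  · intro x hx
    refine mem_center_iff.2 fun g => f.injective ?_
    rw [map_mul, map_mul, mem_center_iff.1 ((hker x).1 hx) (f g)]
  · have h1 : ((QuotientGroup.mk' (center (Matrix.SpecialLinearGroup (Fin 2) (ZMod p)))).comp f.toMonoidHom).ker =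
        (center (Matrix.SpecialLinearGroup (Fin 2) (ZMod p))).comap f.toMonoidHom := by
      ext x; exact hker x
    have h0 : Nat.card ↥((center (Matrix.SpecialLinearGroup (Fin 2) (ZMod p))).comap f.toMonoidHom) =
        Nat.card ↥(center (Matrix.SpecialLinearGroup (Fin 2) (ZMod p))) :=
      Nat.card_congr (Equiv.subtypeEquiv f.toEquiv fun x => Iff.rfl)
    rw [h1, h0]
    have h2 := (center (Matrix.SpecialLinearGroup (Fin 2) (ZMod p))).card_eq_card_quotient_mul_card_subgroup
    have h4 := GW.card_PSLTwo hodd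
    rw [Fus.PSLTwo.natCard_SL_two, ← h4, mul_comm 2] at h2
    exact (Nat.eq_of_mul_eq_mul_left Nat.card_pos h2).symm
  · have key : ∀ a : L, orderOf a = 2 → (f a : Matrix (Fin 2) (Fin 2) (ZMod p)) = -1 := by
      intro a ha
      have h1 := Core2.RankTwo.sl_invol hodd (f a) (by
        rw [← map_mul, show a * a = 1 by
          have h := pow_orderOf_eq_one a
          rwa [ha, pow_two] at h, map_one])
      obtain ⟨r, hr, he⟩ := Matrix.SpecialLinearGroup.mem_center_iff.1 h1
      rw [Fintype.card_fin, pow_two] at hr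
      rcases mul_self_eq_one_iff.1 hr with rfl | rfl
      · exfalso
        have : f a = 1 := Subtype.ext (by rw [← he, Matrix.SpecialLinearGroup.coe_one, map_one])
        rw [(map_eq_one_iff f f.injective).1 this, orderOf_one] at ha
        omega
      · rw [← he, map_neg, map_one]
    exact fun a b ha hb => f.injective (Subtype.ext ((key a ha).trans (key b hb).symm))

/-- A perfect central extension of a two-dimensional linear group with odd kernel is trivial. -/
theorem odd_kernel_trivial {K : Type u} [Group K] [Finite K] (hp : commutator K = ⊤) {Q : Type u} [Group Q]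
    [Finite Q] (hQ : IsTwoLinear Q) (π : K →* Q) (hπ : Function.Surjective π) (hc : π.ker ≤ center K)
    (hodd : Odd (Nat.card ↥π.ker)) : π.ker = ⊥ := by
  obtain ⟨p, hpp, h5, r, hr, hrc, -⟩ := exists_psl_hom hQ
  have hcard : Fintype.card (ZMod p) = p := ZMod.card p
  let ρ := r.comp π
  have hρc : ρ.ker ≤ center K := by
    intro x hx
    refine mem_center_iff.2 fun y => ?_
    have h1 := GW.eq_id_of_central hp (MulAut.conj x).toMonoidHom (fun y => hc (by
      rw [MonoidHom.mem_ker, map_mul, map_inv]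
      show (π y)⁻¹ * π (x * y * x⁻¹) = 1
      rw [map_mul, map_mul, map_inv, ← (mem_center_iff.1 (hrc hx) (π y)), mul_inv_cancel_right, inv_mul_cancel])) y
    exact (mul_inv_eq_iff_eq_mul.1 (show x * y * x⁻¹ = y from h1)).symm
  haveI : Small.{0} K := inferInstance
  have hM := S2086.result (F := ZMod p) rfl 2 le_rfl (fun _ => by omega) (by
    simp only [Set.mem_insert_iff, Set.mem_singleton_iff, Prod.mk.injEq, hcard]
    rintro (⟨-, e⟩ | ⟨-, e⟩ | ⟨e, -⟩ | ⟨e, -⟩ | ⟨e, -⟩)
    · omega
    · subst e; exact absurd hpp.out (by decide)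
    all_goals omega)
  have h := Block.CpQuot.card_ker_dvd hM ρ (hr.comp hπ) hρc ⟨hp⟩
  rw [Nat.card_congr Multiplicative.toAdd, Nat.card_zmod] at h
  have hle : π.ker ≤ ρ.ker := fun x hx => by
    rw [MonoidHom.mem_ker] at hx ⊢
    rw [MonoidHom.comp_apply, hx, map_one]
  have h2 : Nat.card ↥π.ker ∣ 2 := (card_dvd_of_le hle).trans (h.trans (Nat.gcd_dvd_left 2 _))
  rcases (Nat.dvd_prime Nat.prime_two).1 h2 with e | e
  · exact eq_bot_of_card_eq _ e
  · rw [e] at hodd
    exact absurd hodd (by decide)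

end Cfsg.Agent.Invol.AlmostCyclic
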