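import Mathlib

/-!
# Fixed points of `PGL₂` on the projective line (for S4069)
-/

set_option autoImplicit false

open scoped LinearAlgebra.Projectivization MatrixGroups

namespace Cfsg.Agent.Invol.AlmostCyclic

open Matrix

variable {F : Type} [Field F]

local notation "Line" => Projectivization F (Fin 2 → F)
local notation "PG" => Matrix.ProjGenLinGroup (Fin 2) F
local notation "M₂" => Matrix (Fin 2) (Fin 2) F

/-- The number of fixed lines. -/
noncomputable def fixCount (g : PG) : ℕ := Nat.card {x : Line // g • x = x}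

theorem fixCount_conj (g h : PG) : fixCount (h * g * h⁻¹) = fixCount g :=
  Nat.card_congr ((MulAction.toPerm h⁻¹).subtypeEquiv fun x => by
    show (h * g * h⁻¹) • x = x ↔ g • h⁻¹ • x = h⁻¹ • x
    rw [mul_smul, mul_smul, smul_eq_iff_eq_inv_smul h])

theorem eq_one_iff_scalar (A : GL (Fin 2) F) :
    Matrix.ProjGenLinGroup.mk A = 1 ↔ ∃ l : F, l ≠ 0 ∧ (A : M₂) = Matrix.scalar (Fin 2) l := by
  rw [Matrix.ProjGenLinGroup.mk_eq_one, Matrix.GeneralLinearGroup.center_eq_range_scalar]
  constructor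
  · rintro ⟨u, rfl⟩; exact ⟨u, u.ne_zero, rfl⟩
  · rintro ⟨l, hl, h⟩; exact ⟨Units.mk0 l hl, Units.ext h.symm⟩

theorem fix_iff (A : GL (Fin 2) F) {v : Fin 2 → F} (hv : v ≠ 0) :
    Matrix.ProjGenLinGroup.mk A • Projectivization.mk F v hv = Projectivization.mk F v hv ↔
      ∃ l : F, (A : M₂) *ᵥ v = l • v := by
  rw [Projectivization.PGL.mk_smul_mk, Projectivization.mk_eq_mk_iff']
  constructor
  · rintro ⟨a, ha⟩; exact ⟨a, by rw [ha, Units.smul_def]; rfl⟩
  · rintro ⟨l, hl⟩; exact ⟨l, by rw [Units.smul_def]; exact hl.symm⟩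

/-- Two independent vectors. -/
def crossDet (v w : Fin 2 → F) : F := v 0 * w 1 - v 1 * w 0

theorem crossDet_ne_zero {v w : Fin 2 → F} (hv : v ≠ 0) (hw : w ≠ 0)
    (h : Projectivization.mk F v hv ≠ Projectivization.mk F w hw) : crossDet v w ≠ 0 := by
  intro hD
  rw [crossDet] at hD
  refine h ((Projectivization.mk_eq_mk_iff' F v w hv hw).2 ?_)
  by_cases h0 : w 0 = 0
  · have h1 : w 1 ≠ 0 := fun e => hw (funext fun i => by fin_cases i <;> assumption)
    refine ⟨v 1 / w 1, funext fun i => ?_⟩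
    fin_cases i
    · show v 1 / w 1 * w 0 = v 0
      rw [h0, mul_zero]
      have : v 0 * w 1 = 0 := by linear_combination hD + v 1 * h0
      exact ((mul_eq_zero.1 this).resolve_right h1).symm
    · show v 1 / w 1 * w 1 = v 1
      exact div_mul_cancel₀ _ h1
  · refine ⟨v 0 / w 0, funext fun i => ?_⟩
    fin_cases i
    · show v 0 / w 0 * w 0 = v 0
      exact div_mul_cancel₀ _ h0
    · show v 0 / w 0 * w 1 = v 1
      field_simp
      linear_combination hD

theorem mulVec_two (A : M₂) (v : Fin 2 → F) (i : Fin 2) : (A *ᵥ v) i = A i 0 * v 0 + A i 1 * v 1 := by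
  rw [Matrix.mulVec, dotProduct, Fin.sum_univ_two]

/-- An element fixing three lines is trivial. -/
theorem eq_one_of_three (g : PG) {x y z : Line} (hxy : x ≠ y) (hxz : x ≠ z) (hyz : y ≠ z)
    (hx : g • x = x) (hy : g • y = y) (hz : g • z = z) : g = 1 := by
  obtain ⟨A, rfl⟩ := Matrix.ProjGenLinGroup.mk_surjective g
  induction x using Projectivization.ind with | _ v hv => ?_
  induction y using Projectivization.ind with | _ w hw => ?_
  induction z using Projectivization.ind with | _ u hu => ?_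
  obtain ⟨l, hl⟩ := (fix_iff A hv).1 hx
  obtain ⟨m, hm⟩ := (fix_iff A hw).1 hy
  obtain ⟨n, hn⟩ := (fix_iff A hu).1 hz
  have D1 := crossDet_ne_zero hv hw hxy
  have D2 := crossDet_ne_zero hu hw (Ne.symm hyz)
  have D3 := crossDet_ne_zero hv hu hxz
  rw [crossDet] at D1 D2 D3
  have a0 := congrFun hl 0
  have a1 := congrFun hl 1
  have b0 := congrFun hm 0
  have b1 := congrFun hm 1
  have c0 := congrFun hn 0
  have c1 := congrFun hn 1
  simp only [mulVec_two, Pi.smul_apply, smul_eq_mul] at a0 a1 b0 b1 c0 c1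
  have hln : l = n := by
    by_contra hne
    refine mul_ne_zero (mul_ne_zero D2 (sub_ne_zero.2 hne)) D1 ?_
    linear_combination (v 0 * w 1 - v 1 * w 0) * w 1 * c0 - (v 0 * w 1 - v 1 * w 0) * w 0 * c1 -
      (u 0 * w 1 - u 1 * w 0) * w 1 * a0 + (u 0 * w 1 - u 1 * w 0) * w 0 * a1 -
      (v 0 * u 1 - v 1 * u 0) * w 1 * b0 + (v 0 * u 1 - v 1 * u 0) * w 0 * b1
  subst hln
  have hlm : m = l := by
    by_contra hne
    refine mul_ne_zero (mul_ne_zero D3 (sub_ne_zero.2 hne)) D1 ?_
    linear_combination (v 0 * w 1 - v 1 * w 0) * v 0 * c1 - (v 0 * w 1 - v 1 * w 0) * v 1 * c0 -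
      (u 0 * w 1 - u 1 * w 0) * v 0 * a1 + (u 0 * w 1 - u 1 * w 0) * v 1 * a0 -
      (v 0 * u 1 - v 1 * u 0) * v 0 * b1 + (v 0 * u 1 - v 1 * u 0) * v 1 * b0
  subst hlm
  have e00 : A 0 0 = m := by
    refine sub_eq_zero.1 ((mul_eq_zero.1 (?_ : ((A : M₂) 0 0 - m) * (v 0 * w 1 - v 1 * w 0) = 0)).resolve_right D1)
    linear_combination w 1 * a0 - v 1 * b0
  have e01 : A 0 1 = 0 := by
    refine (mul_eq_zero.1 (?_ : (A : M₂) 0 1 * (v 0 * w 1 - v 1 * w 0) = 0)).resolve_right D1
    linear_combination v 0 * b0 - w 0 * a0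
  have e10 : A 1 0 = 0 := by
    refine (mul_eq_zero.1 (?_ : (A : M₂) 1 0 * (v 0 * w 1 - v 1 * w 0) = 0)).resolve_right D1
    linear_combination w 1 * a1 - v 1 * b1
  have e11 : A 1 1 = m := by
    refine sub_eq_zero.1 ((mul_eq_zero.1 (?_ : ((A : M₂) 1 1 - m) * (v 0 * w 1 - v 1 * w 0) = 0)).resolve_right D1)
    linear_combination v 0 * b1 - w 0 * a1
  refine (eq_one_iff_scalar A).2 ⟨m, fun hm0 => A.det_ne_zero ?_, ?_⟩
  · rw [Matrix.det_fin_two, e00, e01, hm0]; ring
  · ext i j
    fin_cases i <;> fin_cases j <;> simp [e00, e01, e10, e11]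

theorem fix_sets_of_line (W X : GL (Fin 2) F) (a b : F) (hb : b ≠ 0)
    (hX : (X : M₂) = a • (1 : M₂) + b • (W : M₂)) (x : Line) :
    Matrix.ProjGenLinGroup.mk X • x = x ↔ Matrix.ProjGenLinGroup.mk W • x = x := by
  induction x using Projectivization.ind with | _ v hv => ?_
  rw [fix_iff, fix_iff]
  have e : (X : M₂) *ᵥ v = a • v + b • ((W : M₂) *ᵥ v) := by
    rw [hX, Matrix.add_mulVec, Matrix.smul_mulVec, Matrix.smul_mulVec, Matrix.one_mulVec]
  constructor
  · rintro ⟨l, hl⟩
    refine ⟨(l - a) / b, ?_⟩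
    rw [e] at hl
    have h2 : b • ((W : M₂) *ᵥ v) = (l - a) • v := by rw [sub_smul, ← hl, add_sub_cancel_left]
    rw [div_eq_inv_mul, mul_smul, ← h2, inv_smul_smul₀ hb]
  · rintro ⟨l, hl⟩
    exact ⟨a + b * l, by rw [e, hl, add_smul, mul_smul]⟩

/-- Commuting elements fix the same lines. -/
theorem fixCount_eq_of_commute (h2 : (2 : F) ≠ 0) {x w : PG} (h : x * w = w * x) (hw : w ≠ 1)
    (hx : x * x ≠ 1) : fixCount x = fixCount w := by
  obtain ⟨X, rfl⟩ := Matrix.ProjGenLinGroup.mk_surjective x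
  obtain ⟨W, rfl⟩ := Matrix.ProjGenLinGroup.mk_surjective w
  rw [← map_mul, ← map_mul, Matrix.ProjGenLinGroup.mk_eq_mk_iff] at h
  obtain ⟨u, hu⟩ := h
  have hm : (X : M₂) * (W : M₂) * Matrix.scalar (Fin 2) (u : F) = (W : M₂) * (X : M₂) := by
    have := congrArg Units.val hu
    simpa using this
  obtain ⟨a, ha⟩ : ∃ a, (X : M₂) 0 0 = a := ⟨_, rfl⟩
  obtain ⟨b, hb⟩ : ∃ b, (X : M₂) 0 1 = b := ⟨_, rfl⟩
  obtain ⟨c, hc⟩ : ∃ c, (X : M₂) 1 0 = c := ⟨_, rfl⟩
  obtain ⟨d, hd⟩ : ∃ d, (X : M₂) 1 1 = d := ⟨_, rfl⟩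
  obtain ⟨a', ha'⟩ : ∃ a, (W : M₂) 0 0 = a := ⟨_, rfl⟩
  obtain ⟨b', hb'⟩ : ∃ b, (W : M₂) 0 1 = b := ⟨_, rfl⟩
  obtain ⟨c', hc'⟩ : ∃ c, (W : M₂) 1 0 = c := ⟨_, rfl⟩
  obtain ⟨d', hd'⟩ : ∃ d, (W : M₂) 1 1 = d := ⟨_, rfl⟩
  have f00 := congrFun (congrFun hm 0) 0
  have f01 := congrFun (congrFun hm 0) 1
  have f10 := congrFun (congrFun hm 1) 0
  have f11 := congrFun (congrFun hm 1) 1
  simp [Matrix.mul_apply, Fin.sum_univ_two, ha, hb, hc, hd, ha', hb', hc', hd'] at f00 f01 f10 f11
  have hXs : ¬ (b = 0 ∧ c = 0 ∧ a = d) := by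
    rintro ⟨rfl, rfl, rfl⟩
    refine hx ?_
    have : Matrix.ProjGenLinGroup.mk X = 1 := (eq_one_iff_scalar X).2 ⟨a, fun e => X.det_ne_zero (by
      rw [Matrix.det_fin_two, ha, hb, e]; ring), by ext i j; fin_cases i <;> fin_cases j <;> simp [ha, hb, hc, hd]⟩
    rw [this, mul_one]
  have hu1 : (u : F) = 1 := by
    have hdet := congrArg Matrix.det hm
    rw [Matrix.det_mul, Matrix.det_mul, Matrix.det_mul] at hdet
    have hu2 : (u : F) * u = 1 := by
      simp only [Matrix.scalar_apply, Matrix.det_diagonal, Fin.prod_univ_two] at hdet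
      have h0 := mul_ne_zero X.det_ne_zero W.det_ne_zero
      refine mul_left_cancel₀ h0 ?_
      rw [mul_one, hdet, mul_comm]
    refine (mul_self_eq_one_iff.1 hu2).resolve_right fun hm1 => ?_
    rw [hm1] at f00 f01 f10 f11
    -- an anticommuting pair: the trace of `X` vanishes
    have htr : a + d = 0 := by
      by_contra hs
      have hW0 : a' + d' = 0 ∨ a' + d' ≠ 0 := em _
      rcases hW0 with hW | hW
      · have hb0 : b' = 0 := (mul_eq_zero.1 (show b' * (a + d) = 0 by linear_combination -f01 - b * hW)).resolve_right hs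
        have hc0 : c' = 0 := (mul_eq_zero.1 (show c' * (a + d) = 0 by linear_combination -f10 - c * hW)).resolve_right hs
        have hd0 : d' = -a' := eq_neg_of_add_eq_zero_right hW
        have ha0 : a' ≠ 0 := fun e => W.det_ne_zero (by
          rw [Matrix.det_fin_two, ha', hb', e, hb0]; ring)
        have k1 : a = 0 := by
          have : 2 * a' * a = 0 := by linear_combination -f00 - b * hc0 - c * hb0
          exact (mul_eq_zero.1 this).resolve_left (mul_ne_zero h2 ha0)
        have k2 : d = 0 := by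
          have : 2 * d' * d = 0 := by linear_combination -f11 - b * hc0 - c * hb0
          refine (mul_eq_zero.1 this).resolve_left (mul_ne_zero h2 ?_)
          rw [hd0]; exact neg_ne_zero.2 ha0
        exact hs (by rw [k1, k2, add_zero])
      · refine hs ((mul_eq_zero.1 (show (a + d) * ((a' + d') * (a' + d')) = 0 from ?_)).resolve_right
          (mul_ne_zero hW hW))
        exfalso
        have hWdet : a' * d' - b' * c' ≠ 0 := by
          rw [← ha', ← hb', ← hc', ← hd', ← Matrix.det_fin_two]; exact W.det_ne_zero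
        refine mul_ne_zero hs hWdet ?_
        refine (mul_eq_zero.1 (show 2 * ((a + d) * (a' * d' - b' * c')) = 0 from ?_)).resolve_left h2
        linear_combination -d' * f00 - a' * f11 + c' * f01 + b' * f10
    have hd0 : d = -a := eq_neg_of_add_eq_zero_right htr
    refine hx ?_
    rw [← map_mul]
    refine (eq_one_iff_scalar _).2 ⟨a * a + b * c, fun e => X.det_ne_zero ?_, ?_⟩
    · rw [Matrix.det_fin_two, ha, hb, hc, hd, hd0]; linear_combination -e
    · rw [Units.val_mul]
      ext i j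
      fin_cases i <;> fin_cases j <;> simp [Matrix.mul_apply, Fin.sum_univ_two, ha, hb, hc, hd, hd0] <;> ring
  rw [hu1] at f00 f01 f10 f11
  -- the centraliser of a non-scalar matrix
  obtain ⟨q, r, hr, hX⟩ : ∃ q r : F, r ≠ 0 ∧ (X : M₂) = q • (1 : M₂) + r • (W : M₂) := by
    by_cases hb0 : b' = 0
    · by_cases hc0 : c' = 0
      · have had : a' - d' ≠ 0 := fun e => hw ((eq_one_iff_scalar W).2 ⟨a', fun h0 => W.det_ne_zero (by
          rw [Matrix.det_fin_two, ha', hb', h0, hb0]; ring), by
          ext i j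
          fin_cases i <;> fin_cases j <;> simp [ha', hb', hc', hd', hb0, hc0, ← sub_eq_zero.1 e]⟩)
        have k1 : b = 0 := (mul_eq_zero.1 (show b * (a' - d') = 0 by linear_combination -f01 + (a - d) * hb0)).resolve_right had
        have k2 : c = 0 := (mul_eq_zero.1 (show c * (a' - d') = 0 by linear_combination f10 + (a - d) * hc0)).resolve_right had
        refine ⟨a - (a - d) / (a' - d') * a', (a - d) / (a' - d'), div_ne_zero
          (sub_ne_zero.2 fun e => hXs ⟨k1, k2, e⟩) had, ?_⟩
        ext i j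
        fin_cases i <;> fin_cases j <;> simp [ha, hb, hc, hd, ha', hb', hc', hd', k1, k2, hb0, hc0]
        field_simp
        ring
      · refine ⟨a - c / c' * a', c / c', div_ne_zero (fun e => hXs ⟨?_, e, ?_⟩) hc0, ?_⟩
        · exact (mul_eq_zero.1 (show b * c' = 0 by linear_combination f00 + b' * e)).resolve_right hc0
        · refine sub_eq_zero.1 ((mul_eq_zero.1 (show (a - d) * c' = 0 by
            linear_combination -f10 + (a' - d') * e)).resolve_right hc0)
        · ext i j
          fin_cases i <;> fin_cases j <;> simp [ha, hb, hc, hd, ha', hb', hc', hd', hb0] <;> try field_simp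
          · exact (mul_eq_zero.1 (show b * c' = 0 by linear_combination f00 + c * hb0)).resolve_right hc0
          · linear_combination f10
    · refine ⟨a - b / b' * a', b / b', div_ne_zero (fun e => hXs ⟨e, ?_, ?_⟩) hb0, ?_⟩
      · exact (mul_eq_zero.1 (show c * b' = 0 by linear_combination -f00 + c' * e)).resolve_right hb0
      · refine sub_eq_zero.1 ((mul_eq_zero.1 (show (a - d) * b' = 0 by
          linear_combination f01 + (a' - d') * e)).resolve_right hb0)
      · ext i j
        fin_cases i <;> fin_cases j <;> simp [ha, hb, hc, hd, ha', hb', hc', hd'] <;> try field_simp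
        · linear_combination -f00
        · linear_combination -f01
  exact Nat.card_congr (Equiv.subtypeEquivRight (fix_sets_of_line W X q r hr hX))

variable [Fintype F]

theorem card_line : Nat.card Line = Fintype.card F + 1 := by
  rw [Projectivization.card_of_finrank_two _ _ (Module.finrank_fin_fun F), Nat.card_eq_fintype_card]

theorem finite_pg : Finite PG := Finite.of_surjective _ Matrix.ProjGenLinGroup.mk_surjective

theorem fixCount_one : fixCount (1 : PG) = Fintype.card F + 1 := by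
  rw [fixCount, ← card_line (F := F)]
  exact Nat.card_congr (Equiv.subtypeUnivEquiv fun x => one_smul _ x)

theorem fixCount_le_two {g : PG} (hg : g ≠ 1) : fixCount g ≤ 2 := by
  by_contra h
  haveI : Finite Line := Nat.finite_of_card_ne_zero (by rw [card_line]; omega)
  cases nonempty_fintype {x : Line // g • x = x}
  have h3 : 2 < Fintype.card {x : Line // g • x = x} := by
    rw [← Nat.card_eq_fintype_card]; exact not_le.1 h
  obtain ⟨⟨x, hx⟩, ⟨y, hy⟩, ⟨z, hz⟩, hxy, hxz, hyz⟩ := Fintype.two_lt_card_iff.1 h3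
  exact hg (eq_one_of_three g (fun e => hxy (Subtype.ext e)) (fun e => hxz (Subtype.ext e))
    (fun e => hyz (Subtype.ext e)) hx hy hz)

theorem fixCount_modEq {p : ℕ} [Fact p.Prime] {g : PG} {n : ℕ} (hg : orderOf g = p ^ n) :
    Fintype.card F + 1 ≡ fixCount g [MOD p] := by
  haveI : Finite Line := Nat.finite_of_card_ne_zero (by rw [card_line]; omega)
  have hP : IsPGroup p (Subgroup.zpowers g) := IsPGroup.of_card (n := n) (by rw [Nat.card_zpowers, hg])
  have h := hP.card_modEq_card_fixedPoints Line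
  rw [card_line] at h
  refine h.trans (congrArg (· % p) ?_)
  refine Nat.card_congr (Equiv.subtypeEquivRight fun x => ⟨fun hx => hx ⟨g, Subgroup.mem_zpowers g⟩,
    fun hx => ?_⟩)
  rintro ⟨w, hw⟩
  obtain ⟨k, rfl⟩ := Subgroup.mem_zpowers_iff.1 hw
  show (g ^ k) • x = x
  exact (MulAction.stabilizer PG x).zpow_mem (show g ∈ MulAction.stabilizer PG x from hx) k

theorem fixCount_even {g : PG} (hq : Odd (Fintype.card F)) (hg : orderOf g = 2) :
    fixCount g = 0 ∨ fixCount g = 2 := by
  haveI : Fact (Nat.Prime 2) := ⟨Nat.prime_two⟩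
  have h := fixCount_modEq (n := 1) (show orderOf g = 2 ^ 1 by rw [hg, pow_one])
  have h2 := fixCount_le_two (g := g) (fun e => by rw [e, orderOf_one] at hg; omega)
  rw [Nat.odd_iff] at hq
  unfold Nat.ModEq at h
  omega

theorem exists_apply_two (x y x' y' : Line) (hxy : x ≠ y) (hxy' : x' ≠ y') :
    ∃ g : PG, g • x = x' ∧ g • y = y' := by
  obtain ⟨e, he1, he2⟩ := (MulAction.is_two_pretransitive_iff (G := LinearMap.GeneralLinearGroup F (Fin 2 → F))
    (α := Line)).1 inferInstance hxy hxy'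
  refine ⟨Matrix.ProjGenLinGroup.mk (Matrix.GeneralLinearGroup.toLin.symm e), ?_, ?_⟩
  · rw [← he1]
    induction x using Projectivization.ind with | _ v hv => ?_
    rw [Projectivization.PGL.mk_smul_mk, Projectivization.smul_mk]
    congr 1
    rw [Units.smul_def, Units.smul_def]
    show ((Matrix.GeneralLinearGroup.toLin.symm e : GL (Fin 2) F) : M₂) *ᵥ v = e.val v
    rw [← Matrix.toLin'_apply]
    exact LinearMap.congr_fun (congrArg Units.val (Matrix.GeneralLinearGroup.toLin.apply_symm_apply e)) v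
  · rw [← he2]
    induction y using Projectivization.ind with | _ v hv => ?_
    rw [Projectivization.PGL.mk_smul_mk, Projectivization.smul_mk]
    congr 1
    rw [Units.smul_def, Units.smul_def]
    show ((Matrix.GeneralLinearGroup.toLin.symm e : GL (Fin 2) F) : M₂) *ᵥ v = e.val v
    rw [← Matrix.toLin'_apply]
    exact LinearMap.congr_fun (congrArg Units.val (Matrix.GeneralLinearGroup.toLin.apply_symm_apply e)) v

theorem sum_fixCount [Fintype PG] : ∑ g : PG, fixCount g = Nat.card PG := by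
  classical
  haveI : Finite Line := Nat.finite_of_card_ne_zero (by rw [card_line]; omega)
  letI := Fintype.ofFinite Line
  have hne : Nonempty Line := ⟨Projectivization.mk F ![1, 0] (by simp)⟩
  obtain ⟨x0⟩ := hne
  haveI : MulAction.IsPretransitive PG Line := ⟨fun x y => by
    obtain ⟨a, b, hab⟩ : ∃ a b : Line, a ≠ b := by
      haveI : Nontrivial Line := Finite.one_lt_card_iff_nontrivial.1 (by
        rw [card_line]; have := Fintype.card_pos (α := F); omega)
      exact exists_pair_ne _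
    obtain ⟨z, hz⟩ : ∃ z, x ≠ z := if h : x = a then ⟨b, h ▸ hab⟩ else ⟨a, h⟩
    obtain ⟨w, hw⟩ : ∃ w, y ≠ w := if h : y = a then ⟨b, h ▸ hab⟩ else ⟨a, h⟩
    obtain ⟨g, hg, -⟩ := exists_apply_two x z y w hz hw
    exact ⟨g, hg⟩⟩
  have h := MulAction.sum_card_fixedBy_eq_card_orbits_mul_card_group PG Line
  have h1 : Fintype.card (Quotient (MulAction.orbitRel PG Line)) = 1 := by
    rw [Fintype.card_eq_one_iff]
    refine ⟨Quotient.mk _ x0, fun q => Quotient.inductionOn q fun x => Quotient.sound ?_⟩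
    exact (show x ∈ MulAction.orbit PG x0 from MulAction.exists_smul_eq PG x0 x)
  rw [h1, one_mul, ← Nat.card_eq_fintype_card] at h
  rw [← h]
  exact Finset.sum_congr rfl fun g _ => by rw [fixCount, Nat.card_eq_fintype_card]; rfl

theorem sum_fixCount_sq [Fintype PG] : ∑ g : PG, fixCount g * fixCount g = 2 * Nat.card PG := by
  classical
  haveI : Finite Line := Nat.finite_of_card_ne_zero (by rw [card_line]; omega)
  letI := Fintype.ofFinite Line
  haveI : Nontrivial Line := Finite.one_lt_card_iff_nontrivial.1 (by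
    rw [card_line]; have := Fintype.card_pos (α := F); omega)
  have h := MulAction.sum_card_fixedBy_eq_card_orbits_mul_card_group PG (Line × Line)
  obtain ⟨a, b, hab⟩ := exists_pair_ne Line
  have h1 : Fintype.card (Quotient (MulAction.orbitRel PG (Line × Line))) = 2 := by
    refine Eq.trans ?_ Fintype.card_bool
    refine (Fintype.card_of_bijective (f := fun c : Bool => (Quotient.mk _ (bif c then (a, a) else (a, b)) :
      Quotient (MulAction.orbitRel PG (Line × Line)))) ⟨?_, ?_⟩).symm
    · intro c d hcd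
      have h' := Quotient.exact hcd
      change _ ∈ MulAction.orbit PG _ at h'
      obtain ⟨g, hg⟩ := h'
      cases c <;> cases d <;> first | rfl | (
        exfalso
        simp only [cond_true, cond_false, Prod.smul_mk, Prod.mk.injEq] at hg
        exact hab (by first | exact hg.1.symm.trans hg.2 | exact smul_left_cancel g (hg.1.trans hg.2.symm)))
    · intro q
      induction q using Quotient.inductionOn with | _ xy => ?_
      obtain ⟨x, y⟩ := xy
      by_cases hxy : x = y
      · subst hxy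
        obtain ⟨z, hz⟩ : ∃ z, x ≠ z := if h : x = a then ⟨b, h ▸ hab⟩ else ⟨a, h⟩
        obtain ⟨g, hg, -⟩ := exists_apply_two x z a b hz hab
        exact ⟨true, Quotient.sound (show (a, a) ∈ MulAction.orbit PG (x, x) from ⟨g, Prod.ext hg hg⟩)⟩
      · obtain ⟨g, hg, hg'⟩ := exists_apply_two x y a b hxy hab
        exact ⟨false, Quotient.sound (show (a, b) ∈ MulAction.orbit PG (x, y) from ⟨g, Prod.ext hg hg'⟩)⟩
  rw [h1, ← Nat.card_eq_fintype_card] at h
  rw [← h]
  refine Finset.sum_congr rfl fun g _ => ?_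
  rw [fixCount, ← Nat.card_prod, ← Nat.card_eq_fintype_card]
  exact Nat.card_congr
    { toFun := fun q => ⟨(q.1.1, q.2.1), Prod.ext q.1.2 q.2.2⟩
      invFun := fun q => (⟨q.1.1, (Prod.ext_iff.1 q.2).1⟩, ⟨q.1.2, (Prod.ext_iff.1 q.2).2⟩)
      left_inv := fun _ => rfl
      right_inv := fun _ => rfl }

/-- An involution with two fixed lines. -/
theorem exists_fix_two (hq : Odd (Fintype.card F)) (h2 : (2 : F) ≠ 0) :
    ∃ g : PG, orderOf g = 2 ∧ fixCount g = 2 := by
  let D : GL (Fin 2) F := Matrix.GeneralLinearGroup.mkOfDetNeZero !![1, 0; 0, -1] (by simp [Matrix.det_fin_two_of])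
  have hne : Matrix.ProjGenLinGroup.mk D ≠ 1 := fun e => by
    obtain ⟨l, -, hl⟩ := (eq_one_iff_scalar D).1 e
    have e0 := congrFun (congrFun hl 0) 0
    have e1 := congrFun (congrFun hl 1) 1
    simp [D] at e0 e1
    exact h2 (by linear_combination e0 - e1)
  have ho : orderOf (Matrix.ProjGenLinGroup.mk D) = 2 := by
    refine orderOf_eq_prime ?_ hne
    rw [← map_pow, show D ^ 2 = 1 from Units.ext (by
      rw [pow_two, Units.val_mul]; ext i j; fin_cases i <;> fin_cases j <;> simp [D, Matrix.mul_apply, Fin.sum_univ_two]), map_one]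
  refine ⟨_, ho, (fixCount_even hq ho).resolve_left fun h0 => ?_⟩
  haveI : Finite Line := Nat.finite_of_card_ne_zero (by rw [card_line]; omega)
  have hv : (![1, 0] : Fin 2 → F) ≠ 0 := by simp
  haveI : Nonempty {x : Line // Matrix.ProjGenLinGroup.mk D • x = x} := ⟨⟨_, (fix_iff D hv).2 ⟨1, by
    funext i; fin_cases i <;> simp [D]⟩⟩⟩
  exact Nat.card_pos.ne' h0

end Cfsg.Agent.Invol.AlmostCyclic
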