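import Cfsg.Agent.Lib.Invol.AlmostCyclic.Invert
import Cfsg.Agent.Lib.Invol.AlmostCyclic.PGLFix
import Cfsg.Agent.Lib.Invol.Core2.RankTwoPSL
import Cfsg.Agent.Lib.Block.Orth

/-!
# The moments of the fixed-point character on the involution centraliser (for S4069)
-/

set_option autoImplicit false

namespace Cfsg.Agent.Invol.AlmostCyclic

open Subgroup

universe u

section Elem

variable {G : Type u} [Group G]

theorem pow_odd_of_sq {v : G} (hv : v * v = 1) {n : ℕ} (hn : Odd n) : v ^ n = v := by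
  obtain ⟨j, rfl⟩ := hn
  rw [pow_succ, pow_mul, pow_two, hv, one_pow, one_mul]

theorem two_part_unique {v v' k k' : G} (hv : v * v = 1) (hv' : v' * v' = 1) (h : Commute v k)
    (h' : Commute v' k') (ho : Odd (orderOf k)) (ho' : Odd (orderOf k')) (e : v * k = v' * k') : v = v' := by
  have hn : Odd (orderOf k * orderOf k') := ho.mul ho'
  have e1 : (v * k) ^ (orderOf k * orderOf k') = v := by
    rw [h.mul_pow, pow_odd_of_sq hv hn, orderOf_dvd_iff_pow_eq_one.1 (dvd_mul_right _ _), mul_one]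
  have e2 : (v' * k') ^ (orderOf k * orderOf k') = v' := by
    rw [h'.mul_pow, pow_odd_of_sq hv' hn, orderOf_dvd_iff_pow_eq_one.1 (dvd_mul_left _ _), mul_one]
  rw [← e1, e, e2]

theorem eq_one_of_odd_of_pow {w : G} (ho : Odd (orderOf w)) {j : ℕ} (h : w ^ 2 ^ j = 1) : w = 1 := by
  have h1 : orderOf w ∣ 2 ^ j := orderOf_dvd_of_pow_eq_one h
  exact orderOf_eq_one_iff.1 (Nat.Coprime.eq_one_of_dvd
    (Nat.Coprime.pow_right j ho.coprime_two_right) h1)

theorem sum_comp_hom {H K : Type*} [Group H] [Group K] [Fintype H] [Fintype K] (f : H →* K)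
    (hf : Function.Surjective f) (F : K → ℕ) : ∑ h, F (f h) = Nat.card f.ker * ∑ k, F k := by
  classical
  rw [Finset.mul_sum, ← Finset.sum_fiberwise Finset.univ f (fun h => F (f h))]
  refine Finset.sum_congr rfl fun k _ => ?_
  obtain ⟨h0, rfl⟩ := hf k
  rw [Finset.sum_congr rfl (g := fun _ => F (f h0)) fun h hh => by rw [(Finset.mem_filter.1 hh).2],
    Finset.sum_const, smul_eq_mul]
  congr 1
  rw [Nat.card_eq_fintype_card, Fintype.card_subtype]
  refine Finset.card_bij' (fun h _ => h0⁻¹ * h) (fun h _ => h0 * h) (fun h hh => ?_) (fun h hh => ?_)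
    (fun h _ => mul_inv_cancel_left _ _) (fun h _ => inv_mul_cancel_left _ _)
  · simpa [MonoidHom.mem_ker] using (inv_mul_eq_one.2 (Finset.mem_filter.1 hh).2.symm)
  · simpa [MonoidHom.mem_ker] using hh

open scoped _root_.Classical in
/-- Counting the conjugates of a set with a prescribed set of conjugators. -/
theorem card_conjugates [Fintype G] {C : Subgroup G} (T N : Finset G) (hT : ∀ a ∈ T, a ∈ C)
    (hN : ∀ c ∈ N, c ∈ C) (h : ∀ a ∈ T, ∀ c ∈ C, (c * a * c⁻¹ ∈ T ↔ c ∈ N)) :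
    (Finset.univ.filter fun g => g ∈ C ∧ ∃ c ∈ C, c * g * c⁻¹ ∈ T).card * N.card =
      Nat.card C * T.card := by
  have e1 : ∀ c ∈ elts C, ((elts C).filter fun g => c * g * c⁻¹ ∈ T).card = T.card := by
    intro c hc
    rw [mem_elts] at hc
    refine Finset.card_bij' (fun g _ => c * g * c⁻¹) (fun a _ => c⁻¹ * a * c) (fun g hg => ?_) (fun a ha => ?_)
      (fun g _ => by group) (fun a _ => by group)
    · exact (Finset.mem_filter.1 hg).2
    · rw [Finset.mem_filter, mem_elts]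
      refine ⟨mul_mem (mul_mem (inv_mem hc) (hT a ha)) hc, ?_⟩
      rwa [show c * (c⁻¹ * a * c) * c⁻¹ = a by group]
  have e2 : ∀ g ∈ Finset.univ.filter (fun g => g ∈ C ∧ ∃ c ∈ C, c * g * c⁻¹ ∈ T),
      ((elts C).filter fun c => c * g * c⁻¹ ∈ T).card = N.card := by
    intro g hg
    obtain ⟨-, hgC, c0, hc0, ha⟩ := Finset.mem_filter.1 hg
    refine Finset.card_bij' (fun c _ => c * c0⁻¹) (fun n _ => n * c0) (fun c hc => ?_) (fun n hn => ?_)
      (fun c _ => inv_mul_cancel_right _ _) (fun n _ => mul_inv_cancel_right _ _)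
    · rw [Finset.mem_filter, mem_elts] at hc
      refine (h _ ha _ (mul_mem hc.1 (inv_mem hc0))).1 ?_
      rw [show c * c0⁻¹ * (c0 * g * c0⁻¹) * (c * c0⁻¹)⁻¹ = c * g * c⁻¹ by group]
      exact hc.2
    · rw [Finset.mem_filter, mem_elts]
      refine ⟨mul_mem (hN n hn) hc0, ?_⟩
      have := (h _ ha n (hN n hn)).2 hn
      rwa [show n * (c0 * g * c0⁻¹) * n⁻¹ = n * c0 * g * (n * c0)⁻¹ by group] at this
  have key := Finset.sum_card_bipartiteAbove_eq_sum_card_bipartiteBelow (s := elts C)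
    (t := elts C) (r := fun g c => c * g * c⁻¹ ∈ T)
  simp only [Finset.bipartiteAbove, Finset.bipartiteBelow] at key
  rw [Finset.sum_congr rfl e1, Finset.sum_const, smul_eq_mul, card_elts] at key
  rw [← key, ← smul_eq_mul, ← Finset.sum_const, ← Finset.sum_congr rfl e2]
  refine Finset.sum_subset (fun g hg => mem_elts.2 (Finset.mem_filter.1 hg).2.1) fun g hg hng => ?_
  rw [Finset.card_eq_zero, Finset.filter_eq_empty_iff]
  exact fun c hc e => hng (Finset.mem_filter.2 ⟨Finset.mem_univ _, mem_elts.1 hg, c, mem_elts.1 hc, e⟩)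

end Elem

variable {G : Type u} [Group G] [Fintype G] {t : ℕ}

/-- The model of the involution centraliser. -/
structure Mod (L : Loc G t) (F : Type) [Field F] [Fintype F] where
  π : ↥L.C →* Matrix.ProjGenLinGroup (Fin 2) F
  surj : Function.Surjective π
  ker : ∀ g : ↥L.C, π g = 1 ↔ g ∈ Cfsg.oddCore ↥L.C ∨
    (⟨L.z, L.A_le_C (pow_mem L.r_mem_A _)⟩ : ↥L.C) * g ∈ Cfsg.oddCore ↥L.C
  hq : Odd (Fintype.card F)
  hp : (Fintype.card F).Prime

namespace Loc

variable (L : Loc G t)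
include L

/-- The order of the odd core. -/
noncomputable def oOrd : ℕ := Nat.card (Cfsg.oddCore ↥L.C)

theorem oOrd_pos : 0 < L.oOrd := Nat.card_pos

theorem oOrd_odd : Odd L.oOrd := by
  have h : (Nat.card (Cfsg.oddCore ↥L.C)).Coprime 2 := Grp.pPrimeCore_coprime
  exact Nat.odd_iff.2 (Nat.two_dvd_ne_zero.1 (Nat.prime_two.coprime_iff_not_dvd.1 h.symm))

/-- The central involution in its centraliser. -/
def zC : ↥L.C := ⟨L.z, L.A_le_C L.z_mem_A⟩

theorem z_not_odd : ¬ Odd (orderOf L.z) := by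
  rw [L.order_z]
  exact fun h => by rw [Nat.odd_iff] at h; omega

/-- The centraliser of the reflection in `C`. -/
def H : Subgroup G := L.C ⊓ centralizer ({L.s} : Set G)

theorem mem_H {g : G} : g ∈ L.H ↔ g ∈ L.C ∧ g * L.s = L.s * g := by
  rw [H, Subgroup.mem_inf, Subgroup.mem_centralizer_singleton_iff]

/-- The 2-elements of the centraliser of the reflection. -/
theorem two_in_H {u : G} (hu : u ∈ L.H) {k : ℕ} (hk : orderOf u = 2 ^ k) :
    u = 1 ∨ u = L.z ∨ u = L.s ∨ u = L.z * L.s := by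
  haveI : Fact (Nat.Prime 2) := ⟨Nat.prime_two⟩
  obtain ⟨huC, hus⟩ := L.mem_H.1 hu
  have hP : IsPGroup 2 ↥(Subgroup.zpowers u ⊔ Subgroup.zpowers L.s) := by
    refine IsPGroup.to_sup_of_normal_right' (IsPGroup.of_card (n := k) (by rw [Nat.card_zpowers, hk]))
      (IsPGroup.of_card (n := 1) (by
        rw [Nat.card_zpowers, orderOf_eq_prime (by rw [pow_two, L.sd.s_sq])
          (fun e => L.s_not_A (by rw [e]; exact one_mem _)), pow_one])) ?_
    rw [Subgroup.zpowers_le]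
    refine Subgroup.centralizer_le_normalizer _ (Subgroup.mem_centralizer_iff.2 fun w hw => ?_)
    obtain ⟨j, rfl⟩ := Subgroup.mem_zpowers_iff.1 hw
    exact ((show Commute u L.s from hus).zpow_right j).eq.symm
  obtain ⟨c, hcC, hc⟩ := Invol.exists_conj_into_sylow (S := L.S) L.S_le_C
    (sup_le (Subgroup.zpowers_le.2 huC) (Subgroup.zpowers_le.2 L.s_mem_C)) hP
  have hcu := hc u (Subgroup.mem_sup_left (Subgroup.mem_zpowers u))
  have hcs := hc L.s (Subgroup.mem_sup_right (Subgroup.mem_zpowers L.s))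
  have hcz : c * L.z * c⁻¹ = L.z := mul_inv_eq_iff_eq_mul.2 (L.mem_C.1 hcC)
  have hinj : Function.Injective fun g : G => c * g * c⁻¹ := fun a b e => by simpa using e
  have hnr : c * L.s * c⁻¹ ∉ Subgroup.zpowers L.r := by
    intro h
    rcases L.sd.rot_sq h (by
      rw [show c * L.s * c⁻¹ * (c * L.s * c⁻¹) = c * (L.s * L.s) * c⁻¹ by group, L.sd.s_sq, mul_one,
        mul_inv_cancel]) with e | e
    · exact L.s_not_A ((conj_eq_one_iff.1 e).symm ▸ one_mem L.A)
    · exact L.s_not_A ((hinj (e.trans hcz.symm) : L.s = L.z) ▸ L.z_mem_A)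
  rcases L.sd.centralizer_refl hcs hnr hcu (by
    rw [show c * u * c⁻¹ * (c * L.s * c⁻¹) = c * (u * L.s) * c⁻¹ by group, hus]; group) with e | e | e | e
  · exact Or.inl (conj_eq_one_iff.1 e)
  · exact Or.inr (Or.inl (hinj (e.trans hcz.symm)))
  · exact Or.inr (Or.inr (Or.inl (hinj e)))
  · refine Or.inr (Or.inr (Or.inr (hinj (e.trans ?_))))
    show L.z * (c * L.s * c⁻¹) = c * (L.z * L.s) * c⁻¹
    calc L.z * (c * L.s * c⁻¹) = c * L.z * c⁻¹ * (c * L.s * c⁻¹) := by rw [hcz]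
      _ = _ := by group

open scoped _root_.Classical in
theorem card_regElts_H : (regElts (L.H)).card * 4 = Nat.card (L.H) := by
  haveI : Fact (Nat.Prime 2) := ⟨Nat.prime_two⟩
  have hzH : L.z ∈ L.H := L.mem_H.2 ⟨L.A_le_C L.z_mem_A, (L.mem_C.1 L.s_mem_C).symm⟩
  have hsH : L.s ∈ L.H := L.mem_H.2 ⟨L.s_mem_C, rfl⟩
  set V : Finset G := {1, L.z, L.s, L.z * L.s} with hV
  have hVmem : ∀ v ∈ V, v ∈ L.H ∧ v * v = 1 := by
    intro v hv
    simp only [hV, Finset.mem_insert, Finset.mem_singleton] at hv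
    rcases hv with rfl | rfl | rfl | rfl
    · exact ⟨one_mem _, mul_one 1⟩
    · exact ⟨hzH, L.z_sq⟩
    · exact ⟨hsH, L.sd.s_sq⟩
    · refine ⟨mul_mem hzH hsH, ?_⟩
      have hc : Commute L.z L.s := (L.mem_C.1 L.s_mem_C).symm
      rw [hc.symm.mul_mul_mul_comm, L.z_sq, L.sd.s_sq, mul_one]
  have hcom : ∀ v ∈ V, ∀ g ∈ L.H, Commute v g := by
    intro v hv g hg
    obtain ⟨hgC, hgs⟩ := L.mem_H.1 hg
    have h1 : Commute L.z g := (L.mem_C.1 hgC).symm
    have h2 : Commute L.s g := hgs.symm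
    simp only [hV, Finset.mem_insert, Finset.mem_singleton] at hv
    rcases hv with rfl | rfl | rfl | rfl
    exacts [Commute.one_left g, h1, h2, h1.mul_left h2]
  have hsz : L.s ≠ L.z := fun e => L.s_not_A (e ▸ L.z_mem_A)
  have hs1 : L.s ≠ 1 := fun e => L.s_not_A (e ▸ one_mem _)
  have hz1 : L.z ≠ 1 := fun e => by have := L.order_z; rw [e, orderOf_one] at this; omega
  have hV4 : V.card = 4 := by
    have n1 : L.z * L.s ≠ 1 := fun e => hsz (by
      rw [← inv_eq_of_mul_eq_one_right e, inv_eq_of_mul_eq_one_right L.z_sq])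
    have n2 : L.z ≠ L.z * L.s := fun e => hs1 (mul_left_cancel (a := L.z) (by rw [mul_one]; exact e.symm))
    have n3 : L.s ≠ L.z * L.s := fun e => hz1 (mul_right_cancel (b := L.s) (by rw [one_mul]; exact e.symm))
    simp [hV, hz1.symm, hs1.symm, hsz.symm, n1.symm, n2, n3]
  rw [mul_comm, ← hV4, ← Finset.card_product, ← card_elts]
  refine Finset.card_bij (fun q _ => q.1 * q.2) (fun q hq => ?_) (fun q hq q' hq' e => ?_) (fun g hg => ?_)
  · rw [Finset.mem_product, mem_regElts] at hq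
    exact mem_elts.2 (mul_mem (hVmem _ hq.1).1 hq.2.1)
  · rw [Finset.mem_product, mem_regElts] at hq hq'
    have e1 : q.1 = q'.1 := two_part_unique (hVmem _ hq.1).2 (hVmem _ hq'.1).2 (hcom _ hq.1 _ hq.2.1)
      (hcom _ hq'.1 _ hq'.2.1) hq.2.2 hq'.2.2 e
    exact Prod.ext e1 (mul_left_cancel (e1 ▸ e : q'.1 * q.2 = q'.1 * q'.2))
  · rw [mem_elts] at hg
    obtain ⟨u, v, huv, -, ⟨k, hk⟩, hv, hug, hvg⟩ := Block.exists_pPart_zpowers (p := 2) g
    have hle : Subgroup.zpowers g ≤ L.H := Subgroup.zpowers_le.2 hg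
    refine ⟨(u, v), ?_, huv⟩
    rw [Finset.mem_product, mem_regElts]
    refine ⟨?_, hle hvg, Nat.odd_iff.2 (Nat.two_dvd_ne_zero.1 hv)⟩
    simp only [hV, Finset.mem_insert, Finset.mem_singleton]
    exact L.two_in_H (hle hug) hk

open scoped _root_.Classical in
/-- The elements whose 2-part is a conjugate of the reflection. -/
noncomputable def reflPart : Finset G :=
  Finset.univ.filter fun g => g ∈ L.C ∧ ∃ c ∈ L.C, c * g * c⁻¹ ∈ (regElts (L.H)).image (L.s * ·)

open scoped _root_.Classical in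
/-- The elements conjugate to a rotation outside the centre. -/
noncomputable def rotPart : Finset G :=
  Finset.univ.filter fun g => g ∈ L.C ∧ ∃ c ∈ L.C,
    c * g * c⁻¹ ∈ (elts L.A).filter fun a => L.rot a ≠ 0 ∧ L.rot a ≠ mid t

open scoped _root_.Classical in
theorem card_reflPart : L.reflPart.card * 4 = Nat.card L.C := by
  set T := (regElts (L.H)).image (L.s * ·) with hT
  have hTmem : ∀ a ∈ T, a ∈ L.C ∧ ∃ k, k ∈ L.H ∧ Odd (orderOf k) ∧ a = L.s * k := by
    intro a ha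
    obtain ⟨k, hk, rfl⟩ := Finset.mem_image.1 ha
    rw [mem_regElts] at hk
    exact ⟨mul_mem L.s_mem_C hk.1.1, k, hk.1, hk.2, rfl⟩
  have h := card_conjugates (C := L.C) T (elts (L.H)) (fun a ha => (hTmem a ha).1)
    (fun c hc => (mem_elts.1 hc).1) fun a ha c hc => by
      obtain ⟨-, k, hk, hko, rfl⟩ := hTmem a ha
      have hks : Commute L.s k := (L.mem_H.1 hk).2.symm
      rw [mem_elts]
      constructor
      · intro h'
        obtain ⟨-, k', hk', hko', e⟩ := hTmem _ h'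
        refine L.mem_H.2 ⟨hc, mul_inv_eq_iff_eq_mul.1 ?_⟩
        refine two_part_unique ?_ L.sd.s_sq ?_ ((L.mem_H.1 hk').2.symm) ?_ hko'
          (show c * L.s * c⁻¹ * (c * k * c⁻¹) = L.s * k' by rw [← e]; group)
        · rw [show c * L.s * c⁻¹ * (c * L.s * c⁻¹) = c * (L.s * L.s) * c⁻¹ by group, L.sd.s_sq, mul_one,
            mul_inv_cancel]
        · exact hks.map (MulAut.conj c).toMonoidHom
        · rwa [← MulAut.conj_apply, MulEquiv.orderOf_eq]
      · intro h'
        refine Finset.mem_image.2 ⟨c * k * c⁻¹, mem_regElts.2 ⟨mul_mem (mul_mem h' hk) (inv_mem h'), by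
          rwa [← MulAut.conj_apply, MulEquiv.orderOf_eq]⟩, ?_⟩
        show L.s * (c * k * c⁻¹) = c * (L.s * k) * c⁻¹
        rw [← mul_assoc L.s, ← mul_assoc L.s, ← (L.mem_H.1 h').2, mul_assoc c L.s k]
  rw [card_elts, Finset.card_image_of_injective _ (mul_right_injective L.s), ← L.card_regElts_H] at h
  have h0 : 0 < (regElts (L.H)).card :=
    Finset.card_pos.2 ⟨1, mem_regElts.2 ⟨one_mem _, by rw [orderOf_one]; exact odd_one⟩⟩
  refine Nat.eq_of_mul_eq_mul_right h0 ?_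
  rw [← h, reflPart]
  ring

open scoped _root_.Classical in
theorem card_rotPart : L.rotPart.card * 2 ^ (t + 1) = Nat.card L.C * (2 ^ t - 1) := by
  have ht1 : 1 ≤ t := by linarith [L.ht]
  set T := (elts L.A).filter fun a => L.rot a ≠ 0 ∧ L.rot a ≠ mid t with hT
  set N := elts L.A ∪ (elts L.A).image (· * L.s) with hN
  have hNmem : ∀ c, c ∈ N → c ∈ L.A ∨ c * L.s ∈ L.A := by
    intro c hc
    rcases Finset.mem_union.1 hc with h | h
    · exact Or.inl (mem_elts.1 h)
    · obtain ⟨b, hb, rfl⟩ := Finset.mem_image.1 h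
      exact Or.inr (by rw [mul_assoc, L.sd.s_sq, mul_one]; exact mem_elts.1 hb)
  have hNmem' : ∀ c, c ∈ L.A ∨ c * L.s ∈ L.A → c ∈ N := by
    rintro c (h | h)
    · exact Finset.mem_union_left _ (mem_elts.2 h)
    · exact Finset.mem_union_right _ (Finset.mem_image.2 ⟨_, mem_elts.2 h, by
        rw [mul_assoc, L.sd.s_sq, mul_one]⟩)
  have hNC : ∀ c ∈ N, c ∈ L.C := by
    intro c hc
    rcases hNmem c hc with h | h
    · exact L.A_le_C h
    · have := mul_mem (L.A_le_C h) L.s_mem_C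
      rwa [mul_assoc, L.sd.s_sq, mul_one] at this
  have h := card_conjugates (C := L.C) T N (fun a ha => L.A_le_C (mem_elts.1 (Finset.mem_filter.1 ha).1))
    hNC fun a ha c _ => by
      obtain ⟨haA, h0, h1⟩ := Finset.mem_filter.1 ha
      rw [mem_elts] at haA
      constructor
      · intro h'
        exact hNmem' c (L.ti haA h0 h1 (mem_elts.1 (Finset.mem_filter.1 h').1))
      · intro h'
        rcases hNmem c h' with h2 | h2
        · refine Finset.mem_filter.2 ⟨mem_elts.2 (mul_mem (mul_mem h2 haA) (inv_mem h2)), ?_⟩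
          rw [L.conj_rot haA h2]
          exact ⟨h0, h1⟩
        · have e : c * a * c⁻¹ = c * L.s * (L.s * a * L.s⁻¹) * (c * L.s)⁻¹ := by
            calc c * a * c⁻¹ = c * (L.s * L.s) * a * (L.s * L.s)⁻¹ * c⁻¹ := by rw [L.sd.s_sq]; group
              _ = _ := by group
          rw [e]
          refine Finset.mem_filter.2 ⟨mem_elts.2 (mul_mem (mul_mem h2 (L.conj_A haA)) (inv_mem h2)), ?_⟩
          rw [L.conj_rot (L.conj_A haA) h2, L.s_rot haA, ne_eq, ne_eq, sig_mul_eq_comm ht1,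
            sig_mul_eq_comm ht1, mul_zero, sig_mul_mid ht1]
          exact ⟨h0, h1⟩
  have hfib : ∀ i : Rot t, ((elts L.A).filter fun a => L.rot a = i).card = Nat.card L.K := fun i => by
    have h' := L.decomp_sum (fun _ => 1) i
    rw [Finset.sum_const, Finset.sum_const, smul_eq_mul, smul_eq_mul, mul_one, mul_one, card_elts] at h'
    exact h'.symm
  have hA : (elts L.A).card = 2 ^ (t + 1) * Nat.card L.K := by
    rw [Finset.card_eq_sum_card_fiberwise (s := elts L.A) (f := L.rot) (t := Finset.univ)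
      (fun _ _ => Finset.mem_univ _), Finset.sum_congr rfl fun i _ => hfib i, Finset.sum_const, Finset.card_univ,
      ZMod.card, smul_eq_mul]
  have hTc : T.card + 2 * Nat.card L.K = 2 ^ (t + 1) * Nat.card L.K := by
    rw [← hA, hT, ← Finset.card_filter_add_card_filter_not (s := elts L.A)
      (fun a => L.rot a ≠ 0 ∧ L.rot a ≠ mid t)]
    congr 1
    rw [Finset.filter_congr (q := fun a => L.rot a = 0 ∨ L.rot a = mid t) fun a _ => by tauto,
      Finset.filter_or, Finset.card_union_of_disjoint, hfib, hfib]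
    · ring
    · rw [Finset.disjoint_left]
      intro a ha ha'
      exact mid_ne_zero ((Finset.mem_filter.1 ha').2.symm.trans (Finset.mem_filter.1 ha).2)
  have hNc : N.card = 2 * (2 ^ (t + 1) * Nat.card L.K) := by
    rw [hN, Finset.card_union_of_disjoint, Finset.card_image_of_injective _ (mul_left_injective _), hA, two_mul]
    rw [Finset.disjoint_left]
    intro a ha ha'
    obtain ⟨b, hb, rfl⟩ := Finset.mem_image.1 ha'
    rw [mem_elts] at ha hb
    exact L.s_not_A ((Subgroup.mul_mem_cancel_left _ hb).1 ha)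
  rw [hNc] at h
  have hTc' : T.card = 2 * Nat.card L.K * (2 ^ t - 1) := by
    obtain ⟨m, hm⟩ : ∃ m, 2 ^ t = m + 1 := ⟨2 ^ t - 1, by have := Nat.two_pow_pos t; omega⟩
    rw [pow_succ, hm] at hTc
    rw [hm, Nat.add_sub_cancel]
    linarith
  rw [hTc'] at h
  refine Nat.eq_of_mul_eq_mul_right (Nat.mul_pos two_pos Nat.card_pos : 0 < 2 * Nat.card L.K) ?_
  rw [mul_assoc, mul_assoc, mul_comm (2 ^ t - 1), ← h, rotPart]
  ring

end Loc

namespace Mod

variable {L : Loc G t} {F : Type} [Field F] [Fintype F] (M : Mod L F)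
include M

local notation "PG" => Matrix.ProjGenLinGroup (Fin 2) F

open scoped _root_.Classical in
/-- The number of fixed lines of the image. -/
noncomputable def fix (g : G) : ℕ := if h : g ∈ L.C then fixCount (M.π ⟨g, h⟩) else 0

/-- The image of an element. -/
theorem fix_def {g : G} (h : g ∈ L.C) : M.fix g = fixCount (M.π ⟨g, h⟩) := by rw [fix, dif_pos h]

theorem two_ne : (2 : F) ≠ 0 := by
  intro h
  haveI : CharP F 2 := CharTwo.of_one_ne_zero_of_two_eq_zero one_ne_zero h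
  obtain ⟨n, hp, hn⟩ := FiniteField.card F 2
  have := M.hq
  rw [hn, Nat.odd_pow_iff n.ne_zero] at this
  exact absurd this (by decide)

theorem odd_of_mem_core {g : ↥L.C} (h : g ∈ Cfsg.oddCore ↥L.C) : Odd (orderOf (g : G)) := by
  rw [Subgroup.orderOf_coe]
  exact Odd.of_dvd_nat L.oOrd_odd (Subgroup.orderOf_dvd_natCard _ h)

theorem π_eq_one {g : ↥L.C} (h : M.π g = 1) : Odd (orderOf (g : G)) ∨ Odd (orderOf (L.z * g)) := by
  rcases (M.ker g).1 h with e | e
  · exact Or.inl (M.odd_of_mem_core e)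
  · exact Or.inr (M.odd_of_mem_core e)

theorem π_z : M.π L.zC = 1 := (M.ker _).2 (Or.inr (by
  rw [show (⟨L.z, _⟩ : ↥L.C) * L.zC = 1 from Subtype.ext L.z_sq]
  exact one_mem _))

theorem π_y_ne : M.π ⟨L.y, L.A_le_C L.y_mem_A⟩ ≠ 1 := by
  intro h
  have h4 : L.y ^ 2 ^ 2 = 1 := by
    rw [show (2 : ℕ) ^ 2 = orderOf L.y by rw [L.order_y]; rfl, pow_orderOf_eq_one]
  rcases M.π_eq_one h with (e : Odd (orderOf L.y)) | (e : Odd (orderOf (L.z * L.y)))
  · have := L.order_y
    rw [eq_one_of_odd_of_pow e h4, orderOf_one] at this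
    omega
  · have e1 : L.z * L.y = 1 := eq_one_of_odd_of_pow e (j := 2) (by
      rw [(show Commute L.z L.y from (L.mem_C.1 (L.A_le_C L.y_mem_A)).symm).mul_pow, h4, mul_one,
        show (2 : ℕ) ^ 2 = 2 * 2 by norm_num, pow_mul, pow_two, pow_two, L.z_sq, one_mul])
    have h3 : L.y = L.z := by rw [← inv_eq_of_mul_eq_one_right e1, inv_eq_of_mul_eq_one_right L.z_sq]
    have := L.order_y
    rw [h3, L.order_z] at this
    omega

theorem π_s_ne : M.π ⟨L.s, L.s_mem_C⟩ ≠ 1 := by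
  intro h
  rcases M.π_eq_one h with (e : Odd (orderOf L.s)) | (e : Odd (orderOf (L.z * L.s)))
  · exact L.s_not_A ((eq_one_of_odd_of_pow e (j := 1) (by rw [pow_one, pow_two, L.sd.s_sq])).symm ▸ one_mem L.A)
  · have e1 : L.z * L.s = 1 := eq_one_of_odd_of_pow e (j := 1) (by
      rw [pow_one, (show Commute L.z L.s from (L.mem_C.1 L.s_mem_C).symm).mul_pow, pow_two, pow_two, L.z_sq,
        L.sd.s_sq, mul_one])
    refine L.s_not_A ?_
    rw [← inv_eq_of_mul_eq_one_right e1, inv_eq_of_mul_eq_one_right L.z_sq]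
    exact L.z_mem_A

/-- The fixed lines of the rotation of order four. -/
noncomputable def ε : ℕ := M.fix L.y

/-- The fixed lines of the reflection. -/
noncomputable def ε' : ℕ := M.fix L.s

theorem order_π_y : orderOf (M.π ⟨L.y, L.A_le_C L.y_mem_A⟩) = 2 := by
  refine orderOf_eq_prime ?_ M.π_y_ne
  rw [pow_two, ← map_mul, show (⟨L.y, _⟩ : ↥L.C) * ⟨L.y, _⟩ = L.zC from Subtype.ext L.y_sq, M.π_z]

theorem order_π_s : orderOf (M.π ⟨L.s, L.s_mem_C⟩) = 2 := by
  refine orderOf_eq_prime ?_ M.π_s_ne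
  rw [pow_two, ← map_mul, show (⟨L.s, _⟩ : ↥L.C) * ⟨L.s, _⟩ = 1 from Subtype.ext L.sd.s_sq, map_one]

theorem ε_cases : M.ε = 0 ∨ M.ε = 2 := by
  rw [ε, M.fix_def (L.A_le_C L.y_mem_A)]; exact fixCount_even M.hq M.order_π_y

theorem ε'_cases : M.ε' = 0 ∨ M.ε' = 2 := by
  rw [ε', M.fix_def L.s_mem_C]; exact fixCount_even M.hq M.order_π_s

theorem fix_conj {g c : G} (hg : g ∈ L.C) (hc : c ∈ L.C) : M.fix (c * g * c⁻¹) = M.fix g := by
  rw [M.fix_def (mul_mem (mul_mem hc hg) (inv_mem hc)), M.fix_def hg,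
    show (⟨c * g * c⁻¹, _⟩ : ↥L.C) = ⟨c, hc⟩ * ⟨g, hg⟩ * ⟨c, hc⟩⁻¹ from rfl, map_mul, map_mul, map_inv,
    fixCount_conj]

theorem fix_z_mul {g : G} (hg : g ∈ L.C) : M.fix (L.z * g) = M.fix g := by
  rw [M.fix_def (mul_mem (L.A_le_C L.z_mem_A) hg), M.fix_def hg,
    show (⟨L.z * g, _⟩ : ↥L.C) = L.zC * ⟨g, hg⟩ from rfl, map_mul, M.π_z, one_mul]

theorem fix_one : M.fix 1 = Fintype.card F + 1 := by
  rw [M.fix_def (one_mem _), show (⟨1, _⟩ : ↥L.C) = 1 from rfl, map_one, fixCount_one]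

/-- Commuting with a nontrivial image determines the fixed lines. -/
theorem fix_commute {g w : G} (hg : g ∈ L.C) (hw : w ∈ L.C) (h : g * w = w * g)
    (h1 : M.π ⟨w, hw⟩ ≠ 1) (h2 : M.π ⟨g, hg⟩ * M.π ⟨g, hg⟩ = 1 → M.π ⟨g, hg⟩ = M.π ⟨w, hw⟩) :
    M.fix g = M.fix w := by
  rw [M.fix_def hg, M.fix_def hw]
  by_cases e : M.π ⟨g, hg⟩ * M.π ⟨g, hg⟩ = 1
  · rw [h2 e]
  · exact fixCount_eq_of_commute M.two_ne (by
      rw [← map_mul, ← map_mul]; exact congrArg M.π (Subtype.ext h)) h1 e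

theorem fix_rot {a : G} (ha : a ∈ L.A) (h0 : L.rot a ≠ 0) (h1 : L.rot a ≠ mid t) : M.fix a = M.ε := by
  refine M.fix_commute (L.A_le_C ha) (L.A_le_C L.y_mem_A) (L.mem_A.1 ha) M.π_y_ne fun e => ?_
  obtain ⟨i, hi⟩ := Subgroup.mem_zpowers_iff.1 (L.y_mem_zpowers ha h0 h1)
  have hy : M.π ⟨L.y, L.A_le_C L.y_mem_A⟩ = M.π ⟨a, L.A_le_C ha⟩ ^ i := by
    rw [← map_zpow]; exact congrArg M.π (Subtype.ext (by rw [Subgroup.coe_zpow]; exact hi.symm))
  rcases Int.even_or_odd i with ⟨j, rfl⟩ | ⟨j, rfl⟩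
  · exfalso
    rw [← two_mul, zpow_mul, zpow_two, e, one_zpow] at hy
    exact M.π_y_ne hy
  · rw [hy, zpow_add, zpow_mul, zpow_two, e, one_zpow, one_mul, zpow_one]

theorem π_odd_sq {k : ↥L.C} (hk : Odd (orderOf (k : G))) (h : M.π k * M.π k = 1) : M.π k = 1 := by
  refine eq_one_of_odd_of_pow (j := 1) (Odd.of_dvd_nat hk ?_) (by rw [pow_one, pow_two, h])
  rw [Subgroup.orderOf_coe]
  exact orderOf_map_dvd M.π k

theorem fix_refl {k : G} (hk : k ∈ L.H) (ho : Odd (orderOf k)) : M.fix (L.s * k) = M.ε' := by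
  obtain ⟨hkC, hks⟩ := L.mem_H.1 hk
  refine M.fix_commute (mul_mem L.s_mem_C hkC) L.s_mem_C (by rw [mul_assoc, hks]) M.π_s_ne fun e => ?_
  have hc : Commute (M.π ⟨L.s, L.s_mem_C⟩) (M.π ⟨k, hkC⟩) := by
    refine Commute.map ?_ M.π
    exact Subtype.ext hks.symm
  rw [show (⟨L.s * k, _⟩ : ↥L.C) = ⟨L.s, L.s_mem_C⟩ * ⟨k, hkC⟩ from rfl, map_mul] at e ⊢
  rw [hc.symm.mul_mul_mul_comm, ← map_mul, show (⟨L.s, L.s_mem_C⟩ : ↥L.C) * ⟨L.s, L.s_mem_C⟩ = 1 from
    Subtype.ext L.sd.s_sq, map_one, one_mul] at e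
  rw [M.π_odd_sq (k := ⟨k, hkC⟩) ho e, mul_one]

open scoped _root_.Classical in
theorem card_ker : Nat.card M.π.ker = 2 * L.oOrd := by
  rw [Nat.card_eq_fintype_card, Fintype.card_subtype]
  rw [Finset.filter_congr (q := fun g => g ∈ Cfsg.oddCore ↥L.C ∨ L.zC * g ∈ Cfsg.oddCore ↥L.C)
    fun g _ => (MonoidHom.mem_ker).trans (M.ker g), Finset.filter_or, Finset.card_union_of_disjoint]
  · have h1 : (Finset.univ.filter fun g => g ∈ Cfsg.oddCore ↥L.C).card = L.oOrd := by
      rw [Loc.oOrd, Nat.card_eq_fintype_card, Fintype.card_subtype]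
    have h2 : (Finset.univ.filter fun g => L.zC * g ∈ Cfsg.oddCore ↥L.C).card = L.oOrd := by
      rw [← h1]
      refine Finset.card_bij' (fun g _ => L.zC * g) (fun g _ => L.zC * g) (fun g hg => ?_) (fun g hg => ?_)
        (fun g _ => ?_) (fun g _ => ?_)
      · simpa using hg
      · simp only [Finset.mem_filter, Finset.mem_univ, true_and] at hg ⊢
        rwa [← mul_assoc, show L.zC * L.zC = 1 from Subtype.ext L.z_sq, one_mul]
      all_goals rw [← mul_assoc, show L.zC * L.zC = 1 from Subtype.ext L.z_sq, one_mul]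
    rw [h1, h2, two_mul]
  · rw [Finset.disjoint_left]
    intro g hg hg'
    simp only [Finset.mem_filter, Finset.mem_univ, true_and] at hg hg'
    refine L.z_not_odd (M.odd_of_mem_core (g := L.zC) ?_)
    simpa using mul_mem hg' (inv_mem hg)

theorem card_C : Nat.card L.C = 2 * L.oOrd * Nat.card PG := by
  classical
  haveI : Finite PG := finite_pg
  haveI : Fintype PG := Fintype.ofFinite _
  have h := sum_comp_hom M.π M.surj fun _ => 1
  simp only [Finset.sum_const, smul_eq_mul, mul_one, Finset.card_univ] at h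
  rw [M.card_ker, ← Nat.card_eq_fintype_card, ← Nat.card_eq_fintype_card] at h
  exact h

theorem sum_fix_C (j : ℕ) [Fintype PG] :
    ∑ g ∈ elts L.C, M.fix g ^ j = 2 * L.oOrd * ∑ x : PG, fixCount x ^ j := by
  classical
  rw [← M.card_ker, ← sum_comp_hom M.π M.surj (fun x => fixCount x ^ j),
    Finset.sum_subtype (elts L.C) (fun g => mem_elts) fun g => M.fix g ^ j]
  exact Finset.sum_congr rfl fun g _ => by rw [M.fix_def g.2]

/-- The partition of `C` by the 2-parts. -/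
theorem sum_parts (j : ℕ) :
    2 * ∑ k ∈ regElts L.C, M.fix k ^ j + L.reflPart.card * M.ε' ^ j + L.rotPart.card * M.ε ^ j =
      ∑ g ∈ elts L.C, M.fix g ^ j := by
  classical
  haveI : Fact (Nat.Prime 2) := ⟨Nat.prime_two⟩
  set Z := (regElts L.C).image (L.z * ·) with hZ
  have hzc : ∀ g ∈ L.C, Commute L.z g := fun g hg => (L.mem_C.1 hg).symm
  have hzC := L.A_le_C L.z_mem_A
  have hz1 : L.z ≠ 1 := fun e => L.z_not_odd (by rw [e, orderOf_one]; exact odd_one)
  have hodd : ∀ {c g : G}, Odd (orderOf g) → Odd (orderOf (c * g * c⁻¹)) := fun h => by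
    rwa [← MulAut.conj_apply, MulEquiv.orderOf_eq]
  have hcz : ∀ c ∈ L.C, c * L.z * c⁻¹ = L.z := fun c hc => mul_inv_eq_iff_eq_mul.2 (L.mem_C.1 hc)
  have hT : ∀ a ∈ (regElts (L.H)).image (L.s * ·), ∃ k, k ∈ L.H ∧ Odd (orderOf k) ∧ a = L.s * k := by
    intro a ha
    obtain ⟨k, hk, rfl⟩ := Finset.mem_image.1 ha
    exact ⟨k, (mem_regElts.1 hk).1, (mem_regElts.1 hk).2, rfl⟩
  -- the value at the parts
  have v2 : ∀ g ∈ L.reflPart, M.fix g = M.ε' := by
    intro g hg
    obtain ⟨-, hgC, c, hc, hcg⟩ := Finset.mem_filter.1 hg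
    obtain ⟨k, hk, hko, e⟩ := hT _ hcg
    rw [← M.fix_conj hgC hc, e, M.fix_refl hk hko]
  have v3 : ∀ g ∈ L.rotPart, M.fix g = M.ε := by
    intro g hg
    obtain ⟨-, hgC, c, hc, hcg⟩ := Finset.mem_filter.1 hg
    obtain ⟨haA, h0, h1⟩ := Finset.mem_filter.1 hcg
    rw [← M.fix_conj hgC hc, M.fix_rot (mem_elts.1 haA) h0 h1]
  -- the odd elements and their translates have odd squares
  have hsq : ∀ g ∈ regElts L.C ∪ Z, Odd (orderOf (g * g)) := by
    intro g hg
    rcases Finset.mem_union.1 hg with h | h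
    · rw [← pow_two]; exact Odd.of_dvd_nat (mem_regElts.1 h).2 (orderOf_pow_dvd 2)
    · obtain ⟨k, hk, rfl⟩ := Finset.mem_image.1 h
      obtain ⟨hkC, hko⟩ := mem_regElts.1 hk
      rw [(hzc k hkC).symm.mul_mul_mul_comm, L.z_sq, one_mul, ← pow_two]
      exact Odd.of_dvd_nat hko (orderOf_pow_dvd 2)
  have hsq' : ∀ g ∈ L.reflPart, Odd (orderOf (g * g)) := by
    intro g hg
    obtain ⟨-, hgC, c, hc, hcg⟩ := Finset.mem_filter.1 hg
    obtain ⟨k, hk, hko, e⟩ := hT _ hcg
    have h1 : c * (g * g) * c⁻¹ = k * k := by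
      rw [show c * (g * g) * c⁻¹ = c * g * c⁻¹ * (c * g * c⁻¹) by group, e,
        (show Commute k L.s from (L.mem_H.1 hk).2).mul_mul_mul_comm, L.sd.s_sq, one_mul]
    rw [show g * g = c⁻¹ * (k * k) * c⁻¹⁻¹ by rw [← h1]; group]
    refine hodd ?_
    rw [← pow_two]
    exact Odd.of_dvd_nat hko (orderOf_pow_dvd 2)
  have hrot : ∀ g ∈ L.rotPart, ¬ Odd (orderOf (g * g)) := by
    intro g hg ho
    obtain ⟨-, hgC, c, hc, hcg⟩ := Finset.mem_filter.1 hg
    obtain ⟨haA, h0, h1⟩ := Finset.mem_filter.1 hcg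
    refine (L.sq_odd (mem_elts.1 haA) ?_).elim h0 h1
    rw [show c * g * c⁻¹ * (c * g * c⁻¹) = c * (g * g) * c⁻¹ by group]
    exact hodd ho
  have d1 : Disjoint (regElts L.C) Z := by
    rw [Finset.disjoint_left]
    intro g hg hg'
    obtain ⟨k, hk, rfl⟩ := Finset.mem_image.1 hg'
    exact hz1 (two_part_unique L.z_sq (one_mul 1) (hzc _ (mem_regElts.1 hk).1) (Commute.one_left _)
      (mem_regElts.1 hk).2 (mem_regElts.1 hg).2 (one_mul _).symm)
  have d2 : Disjoint (regElts L.C ∪ Z) L.reflPart := by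
    rw [Finset.disjoint_left]
    intro g hg hg'
    obtain ⟨-, hgC, c, hc, hcg⟩ := Finset.mem_filter.1 hg'
    obtain ⟨k', hk', hko', e⟩ := hT _ hcg
    rcases Finset.mem_union.1 hg with h | h
    · suffices e' : (1 : G) = L.s from L.s_not_A (by rw [← e']; exact one_mem _)
      exact two_part_unique (one_mul 1) L.sd.s_sq (Commute.one_left _) (L.mem_H.1 hk').2.symm
        (hodd (c := c) (mem_regElts.1 h).2) hko' (by rw [one_mul]; exact e)
    · obtain ⟨k, hk, rfl⟩ := Finset.mem_image.1 h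
      obtain ⟨hkC, hko⟩ := mem_regElts.1 hk
      suffices e' : L.z = L.s from L.s_not_A (by rw [← e']; exact L.z_mem_A)
      refine two_part_unique L.z_sq L.sd.s_sq (hzc _ (mul_mem (mul_mem hc hkC) (inv_mem hc)))
        (L.mem_H.1 hk').2.symm (hodd (c := c) hko) hko' ?_
      rw [← e]
      calc L.z * (c * k * c⁻¹) = c * L.z * c⁻¹ * (c * k * c⁻¹) := by rw [hcz c hc]
        _ = _ := by group
  have d3 : Disjoint (regElts L.C ∪ Z ∪ L.reflPart) L.rotPart := by
    rw [Finset.disjoint_left]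
    intro g hg hg'
    rcases Finset.mem_union.1 hg with h | h
    · exact hrot g hg' (hsq g h)
    · exact hrot g hg' (hsq' g h)
  have hcover : regElts L.C ∪ Z ∪ L.reflPart ∪ L.rotPart = elts L.C := by
    refine Finset.Subset.antisymm (fun g hg => ?_) fun g hg => ?_
    · rw [mem_elts]
      simp only [Finset.mem_union] at hg
      rcases hg with ((h | h) | h) | h
      · exact (mem_regElts.1 h).1
      · obtain ⟨k, hk, rfl⟩ := Finset.mem_image.1 h
        exact mul_mem hzC (mem_regElts.1 hk).1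
      · exact (Finset.mem_filter.1 h).2.1
      · exact (Finset.mem_filter.1 h).2.1
    · rw [mem_elts] at hg
      obtain ⟨u, v, huv, hcomm, ⟨k, hk⟩, hv, hug, hvg⟩ := Block.exists_pPart_zpowers (p := 2) g
      have hle : Subgroup.zpowers g ≤ L.C := Subgroup.zpowers_le.2 hg
      have hvo : Odd (orderOf v) := Nat.odd_iff.2 (Nat.two_dvd_ne_zero.1 hv)
      have hvC := hle hvg
      rcases L.two_cases (hle hug) hk with e | e | ⟨c, hc, e⟩ | ⟨c, hc, hA, h0, h1⟩
      · refine Finset.mem_union_left _ (Finset.mem_union_left _ (Finset.mem_union_left _ ?_))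
        rw [← huv, e, one_mul]
        exact mem_regElts.2 ⟨hvC, hvo⟩
      · refine Finset.mem_union_left _ (Finset.mem_union_left _ (Finset.mem_union_right _ ?_))
        exact Finset.mem_image.2 ⟨v, mem_regElts.2 ⟨hvC, hvo⟩, by rw [← e]; exact huv⟩
      · refine Finset.mem_union_left _ (Finset.mem_union_right _ ?_)
        refine Finset.mem_filter.2 ⟨Finset.mem_univ _, hg, c, hc, Finset.mem_image.2 ⟨c * v * c⁻¹, ?_, ?_⟩⟩
        · refine mem_regElts.2 ⟨L.mem_H.2 ⟨mul_mem (mul_mem hc hvC) (inv_mem hc), ?_⟩, hodd hvo⟩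
          rw [← e]
          exact (hcomm.symm.map (MulAut.conj c).toMonoidHom).eq
        · show L.s * (c * v * c⁻¹) = c * g * c⁻¹
          rw [← e, ← huv]; group
      · refine Finset.mem_union_right _ (Finset.mem_filter.2 ⟨Finset.mem_univ _, hg, c, hc, ?_⟩)
        have hw : Commute (c * v * c⁻¹) (c * u * c⁻¹) := hcomm.symm.map (MulAut.conj c).toMonoidHom
        have hvA : c * v * c⁻¹ ∈ L.A := by
          obtain ⟨i, hi⟩ := Subgroup.mem_zpowers_iff.1 (L.y_mem_zpowers hA h0 h1)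
          refine L.mem_A.2 ?_
          rw [← hi]
          exact (hw.zpow_right i).eq
        have hvK : c * v * c⁻¹ ∈ L.K := (L.odd_iff hvA).1 (hodd hvo)
        have hg' : c * g * c⁻¹ = c * u * c⁻¹ * (c * v * c⁻¹) := by rw [← huv]; group
        refine Finset.mem_filter.2 ⟨mem_elts.2 (hg' ▸ mul_mem hA hvA), ?_⟩
        rw [hg', L.rot_mul hA hvA, hvK.2, add_zero]
        exact ⟨h0, h1⟩
  have hzsum : ∑ g ∈ Z, M.fix g ^ j = ∑ k ∈ regElts L.C, M.fix k ^ j := by
    rw [hZ, Finset.sum_image fun a _ b _ e => mul_left_cancel e]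
    exact Finset.sum_congr rfl fun k hk => by rw [M.fix_z_mul (mem_regElts.1 hk).1]
  rw [← hcover, Finset.sum_union d3, Finset.sum_union d2, Finset.sum_union d1, hzsum, ← two_mul,
    Finset.sum_congr rfl (s₁ := L.reflPart) (g := fun _ => M.ε' ^ j) fun g hg => by rw [v2 g hg],
    Finset.sum_congr rfl (s₁ := L.rotPart) (g := fun _ => M.ε ^ j) fun g hg => by rw [v3 g hg]]
  simp only [Finset.sum_const, smul_eq_mul]

end Mod

end Cfsg.Agent.Invol.AlmostCyclic
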