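import Cfsg.Agent.Lib.Invol.AlmostCyclic.TwoShapes
import Cfsg.Agent.Lib.Invol.AlmostCyclic.Models
import Cfsg.Agent.Lib.Invol.GW.Dihedral.ThreeDoneFinal

/-!
# Perfect almost Sylow-cyclic groups are two-dimensional linear, given the semidihedral case (for S4069)
-/

set_option autoImplicit false

namespace Cfsg.Agent.Invol.AlmostCyclic

open Subgroup
open scoped commutatorElement

universe u

/-- A nontrivial perfect group is not solvable. -/
theorem not_solvable_of_perfect {G : Type u} [Group G] [Nontrivial G] (hp : commutator G = ⊤) :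
    ¬ Group.IsSolvable G := fun h => by
  obtain ⟨n, hn⟩ := h.solvable
  have hd : ∀ k, derivedSeries G k = ⊤ := by
    intro k
    induction k with
    | zero => rfl
    | succ k ih => rw [derivedSeries_succ, ih, ← _root_.commutator_def, hp]
  exact bot_ne_top ((hn.symm.trans (hd n)))

/-- The inductive step with trivial core. -/
theorem linear_of_core_trivial (hSD : SDFalse.{u}) {G : Type u} [Group G] [Finite G] (hp : commutator G = ⊤)
    [Nontrivial G] (hodd : OddCyclic G) (h2 : TwoCyclic G) (IH : SmallerLinear G)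
    (hO : Cfsg.oddCore G = ⊥) : IsTwoLinear G := by
  haveI : Fact (Nat.Prime 2) := ⟨Nat.prime_two⟩
  haveI : Group.IsPerfect G := ⟨hp⟩
  obtain ⟨S⟩ := (inferInstance : Nonempty (Sylow 2 G))
  have hev : 2 ∣ Nat.card G := by
    by_contra h
    exact not_solvable_of_perfect hp (Cfsg.Agent.S0205.result (Nat.odd_iff.2 (Nat.two_dvd_ne_zero.1 h)))
  by_cases huniq : ∀ u ∈ (S : Subgroup G), ∀ v ∈ (S : Subgroup G), orderOf u = 2 → orderOf v = 2 → u = v
  · rcases GW.perfect_rankOne_core GW.Dihedral.gwStatement_holds hp (BS.twoRankOne_of_sylow S huniq) hev hO with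
      ⟨F, hF, hFf, hFodd, hF3, ⟨f⟩⟩ | ⟨-, ⟨f⟩, -⟩
    · exact isTwoLinear_of_SL hodd hFodd hF3 f
    · exact (hodd.not_altSeven (f.toMonoidHom.comp (QuotientGroup.mk' _))
        (f.surjective.comp (QuotientGroup.mk'_surjective _))).elim
  · push Not at huniq
    obtain ⟨a, ha, b, hb, ha2, hb2, hab⟩ := huniq
    obtain ⟨C, hC, hCi⟩ := h2 S
    have hinv : ∃ u v : ↥(S : Subgroup G), orderOf u = 2 ∧ orderOf v = 2 ∧ u ≠ v :=
      ⟨⟨a, ha⟩, ⟨b, hb⟩, by rw [← orderOf_coe]; exact ha2, by rw [← orderOf_coe]; exact hb2,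
        fun e => hab (congrArg Subtype.val e)⟩
    rcases two_shapes S.isPGroup' hCi hinv with ⟨n, hn, e⟩ | hQD | ⟨n, M, hM, hmem⟩
    · rcases GW.Dihedral.gwStatement_holds S n hn e with ⟨F, hF, hFf, hFodd, hF3, ⟨f⟩⟩ | hA
      · exact isTwoLinear_of_PSL hodd hFodd hF3
          (((QuotientGroup.quotientMulEquivOfEq hO).trans QuotientGroup.quotientBot).symm.trans f)
      · obtain ⟨f⟩ := hA
        exact (hodd.not_altSeven (f.toMonoidHom.comp (QuotientGroup.mk' _))
          (f.surjective.comp (QuotientGroup.mk'_surjective _))).elim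
    · exact (hSD G ⟨hp⟩ inferInstance hodd h2 IH hO S hQD).elim
    · exact (not_perfect_of_power_shape hp S hM hmem).elim

/-- Nontrivial perfect almost Sylow-cyclic groups are `PSL₂(p)` or `SL₂(p)`. -/
theorem perfect_linear (hSD : SDFalse.{u}) : ∀ (k : ℕ) (G : Type u) [Group G] [Finite G], Nat.card G = k →
    Nontrivial G → Group.IsPerfect G → OddCyclic G → TwoCyclic G → IsTwoLinear G := by
  intro k
  induction k using Nat.strong_induction_on with
  | _ k ih =>
    intro G _ _ hk hnt hperf hodd h2
    have IH : SmallerLinear G := fun H _ _ hlt hn hp ho ht =>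
      ih (Nat.card H) (hk ▸ hlt) H rfl hn hp ho ht
    have hp : commutator G = ⊤ := hperf.commutator_eq_top
    haveI : Nontrivial G := hnt
    by_cases hO : Cfsg.oddCore G = ⊥
    · exact linear_of_core_trivial hSD hp hodd h2 IH hO
    exfalso
    set O := Cfsg.oddCore G with hOdef
    haveI : O.Normal := Grp.pPrimeCore_isNormal
    have hOodd : Odd (Nat.card ↥O) := Nat.coprime_two_right.1 Grp.pPrimeCore_coprime
    haveI := (hodd.subgroup O).isZGroup hOodd
    have hOc : O ≤ center G := le_center_of_isZGroup hp O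
    haveI : Nontrivial (G ⧸ O) := by
      by_contra hn
      rw [not_nontrivial_iff_subsingleton] at hn
      have htop : O = ⊤ := eq_top_iff.2 fun x _ => (QuotientGroup.eq_one_iff x).1 (Subsingleton.elim _ _)
      refine not_solvable_of_perfect hp (Group.isSolvable_of_comm fun x y => ?_)
      exact (mem_center_iff.1 (hOc (htop ▸ mem_top y)) x)
    have hlt : Nat.card (G ⧸ O) < Nat.card G := by
      rw [O.card_eq_card_quotient_mul_card_subgroup]
      refine lt_mul_of_one_lt_right Nat.card_pos ?_
      exact (one_lt_card_iff_ne_bot O).2 hO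
    have hQ := IH (G ⧸ O) hlt inferInstance ⟨GW.commutator_quotient O hp⟩
      (hodd.of_surjective _ (QuotientGroup.mk'_surjective O))
      (h2.of_surjective _ (QuotientGroup.mk'_surjective O))
    have h := odd_kernel_trivial hp hQ (QuotientGroup.mk' O) (QuotientGroup.mk'_surjective O)
      (by rw [QuotientGroup.ker_mk']; exact hOc) (by rw [QuotientGroup.ker_mk']; exact hOodd)
    exact hO (by rw [← QuotientGroup.ker_mk' O]; exact h)

end Cfsg.Agent.Invol.AlmostCyclic
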