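import Mathlib

/-!
# Characters of the cyclic group of rotations (for S4069)

The rotations form `ZMod (2 ^ (t + 1))`; the reflection acts by `sig t = 2 ^ t - 1`.
-/

set_option autoImplicit false

open scoped ComplexConjugate

namespace Cfsg.Agent.Invol.AlmostCyclic

variable {t : ℕ}

/-- The exponents of the rotations. -/
abbrev Rot (t : ℕ) := ZMod (2 ^ (t + 1))

/-- The central involution. -/
def mid (t : ℕ) : Rot t := ((2 ^ t : ℕ) : Rot t)

/-- The action of the reflection. -/
def sig (t : ℕ) : Rot t := mid t - 1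

/-- The element of order four. -/
def qua (t : ℕ) : Rot t := ((2 ^ (t - 1) : ℕ) : Rot t)

theorem two_mul_mid : (2 : Rot t) * mid t = 0 := by
  rw [mid, show (2 : Rot t) = ((2 : ℕ) : Rot t) by norm_num, ← Nat.cast_mul, ← pow_succ']
  exact ZMod.natCast_self _

theorem mid_mul_mid (ht : 1 ≤ t) : mid t * mid t = 0 := by
  obtain ⟨d, rfl⟩ : ∃ d, t = d + 1 := ⟨t - 1, by omega⟩
  have h : mid (d + 1) = 2 * ((2 ^ d : ℕ) : Rot (d + 1)) := by
    rw [mid, show ((2 ^ (d + 1) : ℕ) : Rot (d + 1)) = ((2 * 2 ^ d : ℕ) : Rot (d + 1)) from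
      congrArg Nat.cast (pow_succ' 2 d)]
    push_cast; ring
  nth_rewrite 1 [h]
  rw [mul_assoc, mul_comm _ (mid (d + 1)), ← mul_assoc, two_mul_mid, zero_mul]

theorem sig_sq (ht : 1 ≤ t) : sig t * sig t = 1 := by
  rw [sig]
  linear_combination mid_mul_mid ht - two_mul_mid (t := t)

theorem sig_cancel (ht : 1 ≤ t) (a : Rot t) : sig t * (sig t * a) = a := by
  rw [← mul_assoc, sig_sq ht, one_mul]

theorem sig_mul_eq_comm (ht : 1 ≤ t) {a b : Rot t} : sig t * a = b ↔ a = sig t * b :=
  ⟨fun h => by rw [← h, sig_cancel ht], fun h => by rw [h, sig_cancel ht]⟩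

theorem mid_mul_natCast (a : ℕ) : mid t * (a : Rot t) = ((a % 2 * 2 ^ t : ℕ) : Rot t) := by
  conv_lhs => rw [← Nat.mod_add_div a 2]
  push_cast
  rw [mid]
  push_cast
  have h := two_mul_mid (t := t)
  rw [mid] at h
  push_cast at h
  linear_combination ((a / 2 : ℕ) : Rot t) * h

theorem natCast_inj_lt {a b : ℕ} (ha : a < 2 ^ (t + 1)) (hb : b < 2 ^ (t + 1)) :
    (a : Rot t) = (b : Rot t) ↔ a = b := by
  rw [ZMod.natCast_eq_natCast_iff', Nat.mod_eq_of_lt ha, Nat.mod_eq_of_lt hb]

theorem sig_mul_natCast_eq_iff {a b : ℕ} (ha : a < 2 ^ (t + 1)) (hb : b < 2 ^ (t + 1)) :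
    sig t * (a : Rot t) = (b : Rot t) ↔
      a + b = a % 2 * 2 ^ t ∨ a + b = a % 2 * 2 ^ t + 2 ^ (t + 1) := by
  have hc : a % 2 * 2 ^ t < 2 ^ (t + 1) := by
    rw [pow_succ']
    have h1 : 0 < 2 ^ t := by positivity
    rcases Nat.mod_two_eq_zero_or_one a with h | h <;> rw [h] <;> omega
  rw [sig, sub_mul, one_mul, mid_mul_natCast, sub_eq_iff_eq_add', ← Nat.cast_add,
    ZMod.natCast_eq_natCast_iff', Nat.mod_eq_of_lt hc]
  rcases lt_or_ge (a + b) (2 ^ (t + 1)) with h | h
  · rw [Nat.mod_eq_of_lt h]; omega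
  · rw [Nat.mod_eq_sub_mod h, Nat.mod_eq_of_lt (show a + b - 2 ^ (t + 1) < 2 ^ (t + 1) by omega)]; omega

theorem sig_mul_mid (ht : 1 ≤ t) : sig t * mid t = mid t := by
  rw [sig]
  linear_combination mid_mul_mid ht - two_mul_mid (t := t)

theorem qua_add_qua (ht : 1 ≤ t) : qua t + qua t = mid t := by
  rw [qua, mid, ← Nat.cast_add, ← two_mul, ← pow_succ', Nat.sub_add_cancel ht]

theorem sig_mul_qua (ht : 2 ≤ t) : sig t * qua t = -qua t := by
  have h : mid t * qua t = 0 := by
    rw [qua, mid_mul_natCast, show 2 ^ (t - 1) % 2 = 0 from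
      Nat.mod_eq_zero_of_dvd (dvd_pow_self 2 (by omega)) |> id, zero_mul, Nat.cast_zero]
  rw [sig, sub_mul, h, one_mul, zero_sub]

theorem fixed_sig (ht : 2 ≤ t) {a : Rot t} : sig t * a = a ↔ a = 0 ∨ a = mid t := by
  have hT : 4 ≤ 2 ^ t := by simpa using Nat.pow_le_pow_right two_pos ht
  have he : 2 ^ t % 4 = 0 := Nat.mod_eq_zero_of_dvd (pow_dvd_pow 2 ht)
  have hn : 2 ^ (t + 1) = 2 * 2 ^ t := pow_succ' 2 t
  obtain ⟨k, hk, rfl⟩ : ∃ k : ℕ, k < 2 ^ (t + 1) ∧ (k : Rot t) = a := ⟨a.val, a.val_lt, ZMod.natCast_zmod_val a⟩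
  rw [sig_mul_natCast_eq_iff hk hk, ← Nat.cast_zero, natCast_inj_lt hk (by omega), mid,
    natCast_inj_lt hk (by omega)]
  rcases Nat.mod_two_eq_zero_or_one k with h | h <;> rw [h] <;> omega

/-- The standard character. -/
noncomputable def ev (t : ℕ) : AddChar (Rot t) ℂ := ZMod.stdAddChar

theorem conj_ev (a : Rot t) : conj (ev t a) = ev t (-a) := (AddChar.map_neg_eq_conj _ a).symm

theorem sum_ev (a : Rot t) : ∑ i, ev t (i * a) = if a = 0 then (2 ^ (t + 1) : ℂ) else 0 := by
  rw [ev, AddChar.sum_mulShift a (ZMod.isPrimitive_stdAddChar _)]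
  split_ifs <;> simp

theorem ev_mid : ev t (mid t) = -1 := by
  have h1 : ev t (mid t) * ev t (mid t) = 1 := by
    rw [← AddChar.map_add_eq_mul, ← two_mul, two_mul_mid, AddChar.map_zero_eq_one]
  rcases mul_self_eq_one_iff.1 h1 with h | h
  · exfalso
    have h0 : mid t = 0 := ZMod.injective_stdAddChar (h.trans (AddChar.map_zero_eq_one _).symm)
    rw [mid, ZMod.natCast_eq_zero_iff] at h0
    have := Nat.le_of_dvd (by positivity) h0
    rw [pow_succ] at this
    have : 0 < 2 ^ t := by positivity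
    omega
  · exact h

theorem ev_mid_mul (i : Rot t) : ev t (mid t * i) = (-1) ^ i.val := by
  conv_lhs => rw [← ZMod.natCast_zmod_val i, mul_comm, ← nsmul_eq_mul]
  rw [AddChar.map_nsmul_eq_pow, ev_mid]

/-- The lifted linear characters of the dihedral-type extension. -/
noncomputable def pair (a i : Rot t) : ℂ := ev t (a * i) + ev t (sig t * a * i)

theorem pair_sig (ht : 1 ≤ t) (a i : Rot t) : pair a (sig t * i) = pair a i := by
  rw [pair, pair, show sig t * a * (sig t * i) = a * (sig t * (sig t * i)) by ring, sig_cancel ht,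
    show a * (sig t * i) = sig t * a * i by ring, add_comm]

theorem pair_zero (a : Rot t) : pair a 0 = 2 := by
  rw [pair, mul_zero, mul_zero, AddChar.map_zero_eq_one]; norm_num

theorem pair_mid (ht : 1 ≤ t) (a : Rot t) : pair a (mid t) = 2 * (-1) ^ a.val := by
  rw [pair, show sig t * a * mid t = a * (sig t * mid t) by ring, sig_mul_mid ht, mul_comm a,
    ev_mid_mul]
  ring

/-- The indicator of the classes `{a, sig a}`. -/
def zz (a b : Rot t) : ℤ := (if a = b then 1 else 0) + (if a = sig t * b then 1 else 0)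

theorem sum_pair_mul_conj (ht : 1 ≤ t) (a b : Rot t) :
    ∑ i, pair a i * conj (pair b i) = 2 * (2 ^ (t + 1) : ℂ) * (zz a b : ℂ) := by
  have h : ∀ i, pair a i * conj (pair b i) = ev t (i * (a - b)) + ev t (i * (a - sig t * b)) +
      ev t (i * (sig t * a - b)) + ev t (i * (sig t * a - sig t * b)) := by
    intro i
    simp only [pair, map_add, conj_ev, add_mul, mul_add, ← AddChar.map_add_eq_mul]
    ring_nf
  rw [Finset.sum_congr rfl fun i _ => h i]
  simp only [Finset.sum_add_distrib, sum_ev, sub_eq_zero, sig_mul_eq_comm ht, sig_cancel ht, zz]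
  split_ifs <;> push_cast <;> ring

/-- The Fourier coefficient. -/
noncomputable def coef (e : Rot t → ℂ) (l : Rot t) : ℂ :=
  (2 ^ (t + 1) : ℂ)⁻¹ * ∑ j, e j * ev t (-(l * j))

theorem sum_coef_mul (e : Rot t → ℂ) (i : Rot t) : ∑ l, coef e l * ev t (l * i) = e i := by
  have h : ∀ l, coef e l * ev t (l * i) =
      (2 ^ (t + 1) : ℂ)⁻¹ * ∑ j, e j * ev t (l * (i - j)) := by
    intro l
    rw [coef, mul_assoc, Finset.sum_mul]
    congr 1
    refine Finset.sum_congr rfl fun j _ => ?_
    rw [mul_assoc, ← AddChar.map_add_eq_mul]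
    congr 2
    ring
  rw [Finset.sum_congr rfl fun l _ => h l, ← Finset.mul_sum, Finset.sum_comm,
    Finset.sum_congr rfl fun j _ => show ∑ l, e j * ev t (l * (i - j)) =
      if i = j then e j * (2 ^ (t + 1) : ℂ) else 0 by
      rw [← Finset.mul_sum, sum_ev, mul_ite, mul_zero]; simp only [sub_eq_zero],
    Finset.sum_ite_eq, if_pos (Finset.mem_univ i), mul_comm (e i), ← mul_assoc,
    inv_mul_cancel₀ (by norm_num), one_mul]

theorem sum_mul_conj_pair (e : Rot t → ℂ) (a : Rot t) :
    ∑ i, e i * conj (pair a i) = (2 ^ (t + 1) : ℂ) * (coef e a + coef e (sig t * a)) := by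
  simp only [coef, ← mul_add, ← mul_assoc, mul_inv_cancel₀ (show (2 ^ (t + 1) : ℂ) ≠ 0 by norm_num),
    one_mul, ← Finset.sum_add_distrib]
  refine Finset.sum_congr rfl fun i _ => ?_
  simp only [pair, map_add, conj_ev, mul_add]

/-- The difference with the middle label. -/
theorem pair_zero_sub_mid (ht : 1 ≤ t) (i : Rot t) :
    pair 0 i - pair (mid t) i = if i.val % 2 = 1 then 4 else 0 := by
  rw [pair, pair, zero_mul, mul_zero, zero_mul, AddChar.map_zero_eq_one, sig_mul_mid ht, ev_mid_mul]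
  rcases Nat.even_or_odd i.val with h | h
  · rw [h.neg_one_pow, if_neg (by rw [Nat.even_iff.1 h]; norm_num)]; ring
  · rw [h.neg_one_pow, if_pos (Nat.odd_iff.1 h)]; ring

/-- The difference with the quarter label. -/
theorem pair_zero_sub_qua (ht : 2 ≤ t) (i : Rot t) :
    pair 0 i - pair (qua t) i = if i.val % 2 = 1 then 2 else if i.val % 4 = 2 then 4 else 0 := by
  have hq : ev t (qua t) ^ 2 = -1 := by
    rw [pow_two, ← AddChar.map_add_eq_mul, qua_add_qua (by omega), ev_mid]
  have hn : ev t (-qua t) = -ev t (qua t) := by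
    have h0 : ev t (qua t) ≠ 0 := fun e => by rw [e] at hq; norm_num at hq
    refine mul_left_cancel₀ h0 ?_
    rw [← AddChar.map_add_eq_mul, add_neg_cancel, AddChar.map_zero_eq_one, mul_neg, ← pow_two, hq, neg_neg]
  have e : ∀ a : Rot t, ev t (a * i) = ev t a ^ i.val := by
    intro a
    conv_lhs => rw [← ZMod.natCast_zmod_val i, mul_comm, ← nsmul_eq_mul]
    rw [AddChar.map_nsmul_eq_pow]
  rw [pair, pair, zero_mul, mul_zero, zero_mul, AddChar.map_zero_eq_one, sig_mul_qua ht, e, e, hn]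
  obtain ⟨j, hj | hj⟩ := Nat.even_or_odd' i.val
  · rw [hj, pow_mul, pow_mul, neg_sq, hq]
    rcases Nat.even_or_odd j with h | h
    · rw [h.neg_one_pow, if_neg (by omega), if_neg (by rcases h with ⟨k, rfl⟩; omega)]; ring
    · rw [h.neg_one_pow, if_neg (by omega), if_pos (by rcases h with ⟨k, rfl⟩; omega)]; ring
  · rw [hj, if_pos (by omega), (show Odd (2 * j + 1) from ⟨j, rfl⟩).neg_pow]; ring

/-- The value at the middle is congruent to the sum of the two fixed coefficients. -/
theorem even_value_mid (ht : 2 ≤ t) (m : Rot t → ℤ) (hm : ∀ l, m (sig t * l) = m l) :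
    Even (∑ l, m l * (-1) ^ l.val - (m 0 + m (mid t))) := by
  classical
  rw [← ZMod.intCast_eq_zero_iff_even]
  push_cast
  have h1 : ∀ l : Rot t, (m l : ZMod 2) * (-1) ^ l.val = m l := fun l => by
    rw [show (-1 : ZMod 2) = 1 by decide, one_pow, mul_one]
  rw [Finset.sum_congr rfl fun l _ => h1 l]
  have h0 : (0 : Rot t) ≠ mid t := fun e => by
    have h := ev_mid (t := t)
    rw [← e, AddChar.map_zero_eq_one] at h
    norm_num at h
  have hins : (Finset.univ : Finset (Rot t)) =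
      insert 0 (insert (mid t) ((Finset.univ.erase 0).erase (mid t))) := by
    rw [Finset.insert_erase (Finset.mem_erase.2 ⟨h0.symm, Finset.mem_univ _⟩),
      Finset.insert_erase (Finset.mem_univ _)]
  rw [hins, Finset.sum_insert (by simp [h0]), Finset.sum_insert (by simp)]
  have hz : ∑ l ∈ (Finset.univ.erase (0 : Rot t)).erase (mid t), (m l : ZMod 2) = 0 := by
    refine Finset.sum_involution (fun l _ => sig t * l) (fun l _ => ?_) (fun l hl _ => ?_)
      (fun l hl => ?_) (fun l _ => sig_cancel (by omega) l)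
    · rw [hm, ← two_mul, show (2 : ZMod 2) = 0 by decide, zero_mul]
    · simp only [Finset.mem_erase, Finset.mem_univ, and_true] at hl
      exact fun e => ((fixed_sig ht).1 e).elim hl.2 hl.1
    · simp only [Finset.mem_erase, Finset.mem_univ, and_true] at hl ⊢
      refine ⟨fun e => hl.1 ?_, fun e => hl.2 ?_⟩
      · rw [(sig_mul_eq_comm (by omega)).1 e, sig_mul_mid (by omega)]
      · rw [(sig_mul_eq_comm (by omega)).1 e, mul_zero]
  rw [hz]
  ring

end Cfsg.Agent.Invol.AlmostCyclic
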