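import Cfsg.Agent.Lib.Invol.AlmostCyclic.Five
import Cfsg.Agent.Lib.Invol.AlmostCyclic.Model

/-!
# The semidihedral case does not occur (for S4069)
-/

set_option autoImplicit false

namespace Cfsg.Agent.Invol.AlmostCyclic

universe u

/-- No perfect minimal group with almost cyclic Sylow subgroups has semidihedral Sylow 2-subgroups. -/
theorem sdFalse : SDFalse.{u} := by
  intro G _ _ hperf hnt hodd h2 IH hcore S hS
  haveI : Fintype G := Fintype.ofFinite G
  obtain ⟨n, hn, hcard, -⟩ := id hS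
  obtain ⟨r, s, hsd⟩ := Cfsg.Agent.Char.SemiBlk.exists_sd (n := n + 1) (by omega) hcard hS
  let L : Loc G (n + 1 - 2) := ⟨S, r, s, hodd, hperf, hsd⟩
  obtain ⟨F, hF, hF', hq, hp, π, hsurj, hker⟩ := exists_model hodd S hS L.no_index_two L.z L.order_z
  let M : Mod L F := ⟨π, hsurj, hker, hq, hp⟩
  obtain ⟨h5, ht2, -, hN⟩ := M.survivor IH h2 hcore hnt
  exact M.no_five hcore hnt h5 ht2 hN (M.core_trivial IH h2 hcore hnt h5 hN)

end Cfsg.Agent.Invol.AlmostCyclic
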