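import Cfsg.Agent.Lib.Invol.AlmostCyclic.Frame
import Cfsg.Agent.Lib.Char.SemiBlockCenter
import Cfsg.Agent.Lib.Block.SecondMain
import Cfsg.Agent.Lib.Block.Principal
import Cfsg.Agent.Lib.Block.PermChar
import Cfsg.Agent.S4652

/-!
# The values on the central section and at the rotations (for S4069)
-/

set_option autoImplicit false

open scoped ComplexConjugate

namespace Cfsg.Agent.Invol.AlmostCyclic

open Cfsg Subgroup Cfsg.Agent.Char Cfsg.Agent.Char.Spec Cfsg.Agent.Char.BP Cfsg.Agent.Block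

universe u

variable {G : Type u} [Group G] [Fintype G] {t : ℕ}

open scoped _root_.Classical in
theorem sum_regular (H : Subgroup G) [Fintype H] (F : G → ℂ) :
    ∑ g ∈ Finset.univ.filter (fun g : H => ¬ 2 ∣ orderOf g), F g = ∑ g ∈ regElts H, F g := by
  refine Finset.sum_bij (fun g _ => (g : G)) (fun g hg => ?_) (fun a _ b _ e => Subtype.ext e) (fun g hg => ?_)
    fun g _ => rfl
  · rw [mem_regElts, Subgroup.orderOf_coe]
    exact ⟨g.2, Nat.odd_iff.2 (Nat.two_dvd_ne_zero.1 (Finset.mem_filter.1 hg).2)⟩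
  · rw [mem_regElts] at hg
    refine ⟨⟨g, hg.1⟩, Finset.mem_filter.2 ⟨Finset.mem_univ _, ?_⟩, rfl⟩
    rw [← Subgroup.orderOf_coe]
    exact Nat.two_dvd_ne_zero.2 (Nat.odd_iff.1 hg.2)

namespace Loc

variable (L : Loc G t)
include L

/-- The principal blocks of the centralisers of the elements of the Sylow subgroup. -/
theorem principal_local {M : Ideal AlgInt} (hM : IsPModular 2 M) {x : G} (hx : x ∈ (L.S : Subgroup G)) :
    IsInducedBlock M (centralizer ({x} : Set G)) (principalBlock M ↥(centralizer ({x} : Set G)))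
      (principalBlock M G) := by
  classical
  haveI : Fact (Nat.Prime 2) := ⟨Nat.prime_two⟩
  obtain ⟨e, S⟩ := SemiBlk.exists_setup hM (isPBlock_principalBlock (M := M) (G := G))
    ((Cfsg.Agent.S4652.result 2 M hM _).2 ⟨L.S, rfl⟩) L.sd
  have hB := S.bel_ofB hx
  have hfst := S.bel_fst hx
  revert hB hfst
  generalize S.bel x = a
  intro hB hfst
  obtain ⟨Q, b⟩ := a
  obtain rfl : Q = zpowers x := hfst
  have h := (ofB_iff_induced hM isPBlock_principalBlock (S.ppow_mem hx) b).1 hB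
  obtain rfl := (principal_third_main hM ⟨_, h⟩).1 h
  have key : ∀ K : Subgroup G, CG (zpowers x) = K →
      IsInducedBlock M K (principalBlock M ↥K) (principalBlock M G) := by
    rintro _ rfl; exact h
  exact key _ (cg_zpowers x)

/-- The rank of the principal block of the centraliser of the central involution. -/
theorem principal_rank {M : Ideal AlgInt} (hM : IsPModular 2 M) :
    blockRank 2 (principalBlock M ↥(L.C)) ≤ 2 := by
  classical
  haveI : Fact (Nat.Prime 2) := ⟨Nat.prime_two⟩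
  obtain ⟨e, S⟩ := SemiBlk.exists_setup hM (isPBlock_principalBlock (M := M) (G := G))
    ((Cfsg.Agent.S4652.result 2 M hM _).2 ⟨L.S, rfl⟩) L.sd
  have hr := S.k_formula.1
  have hx := L.sd.pow_mem' (2 ^ t)
  have hB := S.bel_ofB hx
  have hfst := S.bel_fst hx
  revert hB hfst hr
  generalize S.bel (L.r ^ 2 ^ t) = a
  intro hr hB hfst
  obtain ⟨Q, b⟩ := a
  obtain rfl : Q = zpowers (L.r ^ 2 ^ t) := hfst
  have h := (ofB_iff_induced hM isPBlock_principalBlock (S.ppow_mem hx) b).1 hB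
  obtain rfl := (principal_third_main hM ⟨_, h⟩).1 h
  have key : ∀ K : Subgroup G, CG (zpowers L.z) = K → blockRank 2 (principalBlock M ↥K) ≤ 2 := by
    rintro _ rfl; exact hr
  exact key L.C (cg_zpowers L.z)

theorem z_mem_S : L.z ∈ (L.S : Subgroup G) := L.sd.pow_mem' _

/-- The values at a rotation of a character outside the principal block vanish on the average. -/
theorem rot_sum_zero {M : Ideal AlgInt} (hM : IsPModular 2 M) {χ : IrrCharacter G}
    (hχ : χ ∉ principalBlock M G) {i : Rot t} (h0 : i ≠ 0) (h1 : i ≠ mid t) :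
    ∑ k ∈ elts L.K, (χ : G → ℂ) (k * L.r ^ i.val) = 0 := by
  classical
  haveI : Fact (Nat.Prime 2) := ⟨Nat.prime_two⟩
  set x := L.r ^ i.val with hx
  have hxA : x ∈ L.A := pow_mem L.r_mem_A _
  have hrx : L.rot x = i := L.rot_r_pow i
  obtain ⟨kx, -, hkx⟩ := (Nat.dvd_prime_pow Nat.prime_two).1
    (show orderOf x ∣ 2 ^ (t + 1) by rw [← L.sd.order]; exact orderOf_pow_dvd _)
  -- the centraliser lies in `A`
  have hCA : centralizer ({x} : Set G) ≤ L.A := by
    intro g hg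
    have hgx : g * x * g⁻¹ = x := mul_inv_eq_iff_eq_mul.2 (mem_centralizer_singleton_iff.1 hg)
    rcases L.ti hxA (hrx ▸ h0) (hrx ▸ h1) (x := g) (by rw [hgx]; exact hxA) with h | h
    · exact h
    · exfalso
      have e := congrArg L.rot hgx
      have e2 : g * x * g⁻¹ = g * L.s * (L.s * x * L.s⁻¹) * (g * L.s)⁻¹ := by
        calc g * x * g⁻¹ = g * (L.s * L.s) * x * (L.s * L.s)⁻¹ * g⁻¹ := by rw [L.sd.s_sq]; group
          _ = _ := by group
      rw [e2, L.conj_rot (L.conj_A hxA) h, L.s_rot hxA, hrx] at e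
      exact ((fixed_sig L.ht).1 e).elim h0 h1
  set X := centralizer ({x} : Set G) with hX
  set R := regElts X with hR
  have hRK : ∀ v ∈ R, v ∈ L.K ∧ Commute x v := fun v hv => by
    obtain ⟨hvX, hvo⟩ := mem_regElts.1 hv
    exact ⟨(L.odd_iff (hCA hvX)).1 hvo, (mem_centralizer_singleton_iff.1 hvX).symm⟩
  -- the sum over the regular elements of the centraliser
  have hzero : ∑ v ∈ R, (χ : G → ℂ) (x * v) = 0 := by
    rw [hR, ← sum_regular X fun v => (χ : G → ℂ) (x * v)]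
    set B := blockOf M (χ : G → ℂ) with hB
    rw [Finset.sum_congr rfl fun v hv => ((value_eq_sum_inducing hM ⟨kx, hkx⟩ (isPBlock_blockOf (M := M) χ)
      (y := v) (Finset.mem_filter.1 hv).2 χ).trans (if_pos (mem_blockOf_self hM χ))).symm, Finset.sum_comm]
    refine Finset.sum_eq_zero fun ξ hξ => ?_
    rw [← Finset.mul_sum]
    refine mul_eq_zero_of_right _ ?_
    have hns : ¬ SameBlock M (ξ : ↥X → ℂ) (trivialIrr ↥X : ↥X → ℂ) := by
      intro hsame
      have he : principalBlock M ↥X = blockOf M (ξ : ↥X → ℂ) := (blockOf_eq hM hsame).symm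
      have hind : IsInducedBlock M X (blockOf M (ξ : ↥X → ℂ)) (principalBlock M G) :=
        he ▸ L.principal_local hM ((Subgroup.zpowers_le.2 L.sd.mem) (pow_mem (Subgroup.mem_zpowers _) _))
      exact hχ ((induced_unique hM (Finset.mem_filter.1 hξ).2 hind) ▸ mem_blockOf_self hM χ)
    have h := reg_orth (p := 2) hM hns
    rw [regSum_eq_sum] at h
    refine Eq.trans (Finset.sum_congr rfl fun v _ => ?_) h
    rw [show ((trivialIrr ↥X : IrrCharacter ↥X) : ↥X → ℂ) v = 1 from rfl, map_one, mul_one]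
  -- the conjugates cover the coset
  set T := (elts L.K).image (· * x) with hT
  have hmaps : ∀ q ∈ elts L.K ×ˢ R, q.1 * (x * q.2) * q.1⁻¹ ∈ T := by
    intro q hq
    rw [Finset.mem_product, mem_elts] at hq
    have hvK := (hRK _ hq.2).1
    refine Finset.mem_image.2 ⟨q.1 * (x * q.2) * q.1⁻¹ * x⁻¹, mem_elts.2 ⟨?_, ?_⟩, inv_mul_cancel_right _ _⟩
    · exact mul_mem (mul_mem (mul_mem hq.1.1 (mul_mem hxA hvK.1)) (inv_mem hq.1.1)) (inv_mem hxA)
    · have hm : x * q.2 ∈ L.A := mul_mem hxA hvK.1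
      rw [L.rot_mul (mul_mem (mul_mem hq.1.1 hm) (inv_mem hq.1.1)) (inv_mem hxA), L.conj_rot hm hq.1.1,
        L.rot_mul hxA hvK.1, L.rot_inv hxA, hvK.2, add_zero, add_neg_cancel]
  have hfib : ∀ a ∈ T, ((elts L.K ×ˢ R).filter fun q => q.1 * (x * q.2) * q.1⁻¹ = a).card =
      ((elts L.K).filter fun g => g * x = x * g).card := by
    intro a ha
    obtain ⟨k, hk, rfl⟩ := Finset.mem_image.1 ha
    rw [mem_elts] at hk
    have haA : k * x ∈ L.A := mul_mem hk.1 hxA
    have har : L.rot (k * x) = i := by rw [L.rot_mul hk.1 hxA, hk.2, hrx, zero_add]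
    obtain ⟨u, v, huv, hcomm, ⟨j, hj⟩, hv, hug, hvg⟩ := exists_pPart_zpowers (p := 2) (k * x)
    have hle : zpowers (k * x) ≤ L.A := zpowers_le.2 haA
    have hvK : v ∈ L.K := (L.odd_iff (hle hvg)).1 (Nat.odd_iff.2 (Nat.two_dvd_ne_zero.1 hv))
    have hur : L.rot u = i := by
      rw [← har, ← huv, L.rot_mul (hle hug) hvK.1, hvK.2, add_zero]
    obtain ⟨a', ha', hconj⟩ := L.mem_zpowers_r_of_pGroup (H := zpowers u) (zpowers_le.2 (hle hug))
      (IsPGroup.of_card (n := j) (by rw [Nat.card_zpowers, hj]))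
    obtain ⟨m, hm⟩ := (isOfFinOrder_of_finite L.r).mem_powers_iff_mem_zpowers.2 (hconj u (mem_zpowers u))
    simp only at hm
    have hm' : a' * u * a'⁻¹ = x := by
      have h1 := congrArg L.rot hm
      rw [L.conj_rot (hle hug) ha', hur, L.rot_pow L.r_mem_A, L.rot_r, nsmul_eq_mul, mul_one] at h1
      rw [← hm, hx, ← h1, L.sd.pow_congr (i := m) (j := ((m : Rot t)).val)]
      rw [ZMod.val_natCast]
      exact (Nat.mod_modEq _ _).symm
    set h := a'⁻¹ * L.r ^ (L.rot a').val with hh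
    have hhK : h ∈ L.K := ⟨mul_mem (inv_mem ha') (pow_mem L.r_mem_A _), by
      rw [L.rot_mul (inv_mem ha') (pow_mem L.r_mem_A _), L.rot_inv ha', L.rot_r_pow, neg_add_cancel]⟩
    have hhx : h * x * h⁻¹ = u := by
      have hc : Commute (L.r ^ (L.rot a').val) x := Commute.pow_pow_self _ _ _
      calc h * x * h⁻¹ = a'⁻¹ * (L.r ^ (L.rot a').val * x * (L.r ^ (L.rot a').val)⁻¹) * a' := by rw [hh]; group
        _ = a'⁻¹ * x * a' := by rw [hc.eq, mul_inv_cancel_right]
        _ = u := by rw [← hm']; group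
    set v0 := h⁻¹ * v * h with hv0
    have hv0R : v0 ∈ R := by
      refine mem_regElts.2 ⟨mem_centralizer_singleton_iff.2 ?_, ?_⟩
      · calc v0 * x = h⁻¹ * (v * (h * x * h⁻¹)) * h := by rw [hv0]; group
          _ = h⁻¹ * (h * x * h⁻¹ * v) * h := by rw [hhx, hcomm.eq]
          _ = x * v0 := by rw [hv0]; group
      · rw [hv0, show h⁻¹ * v * h = h⁻¹ * v * h⁻¹⁻¹ by group, ← MulAut.conj_apply, MulEquiv.orderOf_eq]
        exact Nat.odd_iff.2 (Nat.two_dvd_ne_zero.1 hv)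
    have hbase : h * (x * v0) * h⁻¹ = k * x := by
      calc h * (x * v0) * h⁻¹ = h * x * h⁻¹ * v := by rw [hv0]; group
        _ = k * x := by rw [hhx, huv]
    refine Finset.card_bij' (fun q _ => h⁻¹ * q.1) (fun g _ => (h * g, g⁻¹ * v0 * g)) (fun q hq => ?_)
      (fun g hg => ?_) (fun q hq => ?_) (fun g _ => inv_mul_cancel_left _ _)
    · obtain ⟨hqm, hqe⟩ := Finset.mem_filter.1 hq
      rw [Finset.mem_product, mem_elts] at hqm
      have hvc := (hRK _ hqm.2).2
      refine Finset.mem_filter.2 ⟨mem_elts.2 (mul_mem (inv_mem hhK) hqm.1), ?_⟩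
      have e1 : q.1 * x * q.1⁻¹ = u := by
        refine pPart_unique (p := 2) (g := k * x) ⟨q.1 * q.2 * q.1⁻¹, ?_, ?_, ⟨kx, ?_⟩, ?_⟩
          ⟨v, huv, hcomm, ⟨j, hj⟩, hv⟩
        · rw [← hqe]; group
        · exact hvc.map (MulAut.conj q.1).toMonoidHom
        · rwa [← MulAut.conj_apply, MulEquiv.orderOf_eq]
        · rw [← MulAut.conj_apply, MulEquiv.orderOf_eq]
          exact Nat.two_dvd_ne_zero.2 (Nat.odd_iff.1 ((mem_regElts.1 hqm.2).2))
      calc h⁻¹ * q.1 * x = h⁻¹ * (q.1 * x * q.1⁻¹) * q.1 := by group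
        _ = x * (h⁻¹ * q.1) := by rw [e1, ← hhx]; group
    · obtain ⟨hgm, hgx⟩ := Finset.mem_filter.1 hg
      rw [mem_elts] at hgm
      refine Finset.mem_filter.2 ⟨Finset.mem_product.2 ⟨mem_elts.2 (mul_mem hhK hgm), ?_⟩, ?_⟩
      · obtain ⟨hv0X, hv0o⟩ := mem_regElts.1 hv0R
        have hgX : g ∈ X := mem_centralizer_singleton_iff.2 hgx
        refine mem_regElts.2 ⟨mul_mem (mul_mem (inv_mem hgX) hv0X) hgX, ?_⟩
        rwa [show g⁻¹ * v0 * g = g⁻¹ * v0 * g⁻¹⁻¹ by group, ← MulAut.conj_apply, MulEquiv.orderOf_eq]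
      · calc h * g * (x * (g⁻¹ * v0 * g)) * (h * g)⁻¹ = h * (g * x * g⁻¹ * v0) * h⁻¹ := by group
          _ = k * x := by rw [hgx, mul_inv_cancel_right, hbase]
    · obtain ⟨hqm, hqe⟩ := Finset.mem_filter.1 hq
      rw [Finset.mem_product, mem_elts] at hqm
      have hvc := (hRK _ hqm.2).2
      refine Prod.ext (mul_inv_cancel_left _ _) ?_
      show (h⁻¹ * q.1)⁻¹ * v0 * (h⁻¹ * q.1) = q.2
      have e1 : q.1 * x * q.1⁻¹ = u := by
        refine pPart_unique (p := 2) (g := k * x) ⟨q.1 * q.2 * q.1⁻¹, ?_, ?_, ⟨kx, ?_⟩, ?_⟩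
          ⟨v, huv, hcomm, ⟨j, hj⟩, hv⟩
        · rw [← hqe]; group
        · exact hvc.map (MulAut.conj q.1).toMonoidHom
        · rwa [← MulAut.conj_apply, MulEquiv.orderOf_eq]
        · rw [← MulAut.conj_apply, MulEquiv.orderOf_eq]
          exact Nat.two_dvd_ne_zero.2 (Nat.odd_iff.1 ((mem_regElts.1 hqm.2).2))
      have e2 : q.1 * q.2 * q.1⁻¹ = v := by
        refine mul_left_cancel (a := u) ?_
        rw [huv, ← hqe, ← e1]; group
      rw [hv0, ← e2]; group
  have hsum : ∑ q ∈ elts L.K ×ˢ R, (χ : G → ℂ) (q.1 * (x * q.2) * q.1⁻¹) = 0 := by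
    rw [Finset.sum_product]
    refine Finset.sum_eq_zero fun h _ => Eq.trans (Finset.sum_congr rfl fun v _ => ?_) hzero
    exact IsIrr.classFun χ.2 _ _
  rw [← Finset.sum_fiberwise_of_maps_to hmaps,
    Finset.sum_congr rfl fun a ha => (Finset.sum_congr rfl fun q hq => by
      rw [(Finset.mem_filter.1 hq).2]).trans (Finset.sum_const _),
    Finset.sum_congr rfl (g := fun a => (((elts L.K).filter fun g => g * x = x * g).card : ℂ) * (χ : G → ℂ) a)
      fun a ha => by rw [nsmul_eq_mul, hfib a ha],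
    ← Finset.mul_sum, hT, Finset.sum_image (mul_left_injective x).injOn] at hsum
  refine (mul_eq_zero.1 hsum).resolve_left (Nat.cast_ne_zero.2 (Finset.card_ne_zero.2 ⟨1, ?_⟩))
  exact Finset.mem_filter.2 ⟨mem_elts.2 (one_mem _), by rw [one_mul, mul_one]⟩

end Loc

namespace Mod

variable {L : Loc G t} {F : Type} [Field F] [Fintype F] (M : Mod L F)
include M

local notation "q" => Fintype.card F

theorem sum_C_fix : ∑ g ∈ elts L.C, M.fix g = Nat.card L.C ∧ ∑ g ∈ elts L.C, M.fix g ^ 2 = 2 * Nat.card L.C := by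
  haveI : Finite (Matrix.ProjGenLinGroup (Fin 2) F) := finite_pg
  haveI : Fintype (Matrix.ProjGenLinGroup (Fin 2) F) := Fintype.ofFinite _
  constructor
  · have h := M.sum_fix_C 1
    simp only [pow_one] at h
    rw [h, sum_fixCount, M.card_C]
  · rw [M.sum_fix_C 2, Finset.sum_congr rfl fun x _ => pow_two (fixCount x), sum_fixCount_sq, M.card_C]
    ring

open scoped _root_.Classical in
/-- The Steinberg character of the model is irreducible. -/
theorem steinberg : ∃ ξ : IrrCharacter ↥(L.C),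
    ∀ g, (ξ : ↥(L.C) → ℂ) g = (M.fix g : ℂ) - 1 := by
  haveI : Finite (Projectivization F (Fin 2 → F)) := Nat.finite_of_card_ne_zero (by rw [card_line]; omega)
  haveI : Fintype (Projectivization F (Fin 2 → F)) := Fintype.ofFinite _
  letI act : MulAction ↥L.C (Projectivization F (Fin 2 → F)) := MulAction.compHom _ M.π
  have hpi : ∀ g : ↥L.C, PermChar.piFun ↥L.C (Projectivization F (Fin 2 → F)) g = (M.fix g : ℂ) := fun g => by
    rw [M.fix_def g.2]
    rfl
  have hch : IsCharacter ↥L.C (PermChar.piFun ↥L.C (Projectivization F (Fin 2 → F))) :=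
    PermChar.isCharacter_piFun
  obtain ⟨a, ha⟩ := IsChar.exists_decomp hch
  have hinner : ∀ ξ : IrrCharacter ↥L.C,
      classInner (PermChar.piFun ↥L.C (Projectivization F (Fin 2 → F))) (ξ : ↥L.C → ℂ) = a ξ := fun ξ => by
    rw [ha, classInner_sum_irr]
  have hsum : ∀ f : G → ℂ, ∑ g : ↥L.C, f g = ∑ g ∈ elts L.C, f g := fun f => sum_subgroup f
  have hC0 : (Nat.card L.C : ℂ) ≠ 0 := Nat.cast_ne_zero.2 Nat.card_pos.ne'
  obtain ⟨hs1, hs2⟩ := M.sum_C_fix
  have hone : a (trivialIrr ↥L.C) = 1 := by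
    have h : (a (trivialIrr ↥L.C) : ℂ) = 1 := by
      rw [← hinner, classInner, Finset.sum_congr rfl fun (g : ↥L.C) _ => by
        rw [hpi g, show ((trivialIrr ↥L.C : IrrCharacter ↥L.C) : ↥L.C → ℂ) g = 1 from rfl, map_one, mul_one],
        hsum fun g => (M.fix g : ℂ), ← Nat.cast_sum, hs1]
      exact inv_mul_cancel₀ hC0
    exact_mod_cast h
  have htwo : ∑ ξ : IrrCharacter ↥L.C, a ξ * a ξ = 2 := by
    have h : classInner (PermChar.piFun ↥L.C (Projectivization F (Fin 2 → F)))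
        (PermChar.piFun ↥L.C (Projectivization F (Fin 2 → F))) = 2 := by
      rw [classInner, Finset.sum_congr rfl fun (g : ↥L.C) _ => by
        rw [hpi g, map_natCast, ← Nat.cast_mul, ← pow_two],
        hsum fun g => ((M.fix g ^ 2 : ℕ) : ℂ), ← Nat.cast_sum, hs2, Nat.cast_mul, Nat.cast_ofNat,
        mul_left_comm, inv_mul_cancel₀ hC0, mul_one]
    rw [ha, classInner_sum_sum] at h
    simp only [map_natCast] at h
    exact_mod_cast h
  rw [← Finset.add_sum_erase _ _ (Finset.mem_univ (trivialIrr ↥L.C)), hone, mul_one] at htwo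
  have htwo' : ∑ ξ ∈ Finset.univ.erase (trivialIrr ↥L.C), a ξ * a ξ = 1 := by omega
  obtain ⟨η, hη, hne⟩ := Finset.exists_ne_zero_of_sum_ne_zero (htwo'.trans_ne one_ne_zero)
  have hrest : a η * a η = 1 ∧ ∀ ξ ∈ (Finset.univ.erase (trivialIrr ↥L.C)).erase η, a ξ = 0 := by
    rw [← Finset.add_sum_erase _ _ hη] at htwo'
    have h1 : a η * a η = 1 := by omega
    refine ⟨h1, fun ξ hξ => ?_⟩
    have h2 : ∑ ξ ∈ (Finset.univ.erase (trivialIrr ↥L.C)).erase η, a ξ * a ξ = 0 := by omega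
    exact mul_self_eq_zero.1 (Finset.sum_eq_zero_iff.1 h2 ξ hξ)
  have hη1 : a η = 1 := Nat.eq_one_of_mul_eq_one_right hrest.1
  refine ⟨η, fun g => ?_⟩
  have hg := congrFun ha g
  rw [hpi g] at hg
  rw [hg, Finset.sum_apply, ← Finset.add_sum_erase _ _ (Finset.mem_univ (trivialIrr ↥L.C)),
    ← Finset.add_sum_erase _ _ hη, Finset.sum_eq_zero fun ξ hξ => by rw [hrest.2 ξ hξ]; simp, hone, hη1]
  simp only [Nat.cast_one, one_smul, add_zero]
  show _ = ((trivialIrr ↥L.C : IrrCharacter ↥L.C) : ↥L.C → ℂ) g + _ - 1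
  rw [show ((trivialIrr ↥L.C : IrrCharacter ↥L.C) : ↥L.C → ℂ) g = 1 from rfl]
  ring

/-- An element of the centraliser whose image has the order of the field. -/
theorem exists_unipotent : ∃ (u : ↥L.C), orderOf (M.π u) = q ∧ ∃ e, orderOf (u : G) = q ^ e := by
  haveI : Fact (Nat.Prime q) := ⟨M.hp⟩
  haveI : Finite (Matrix.ProjGenLinGroup (Fin 2) F) := finite_pg
  obtain ⟨x, hx⟩ := exists_prime_orderOf_dvd_card' (G := Matrix.ProjGenLinGroup (Fin 2) F) q
    (by rw [Invol.Core2.RankTwo.card_pgl]; exact dvd_mul_right _ _)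
  obtain ⟨g, rfl⟩ := M.surj x
  obtain ⟨u, v, huv, hcomm, ⟨k, hk⟩, hv, -, -⟩ := exists_pPart_zpowers (p := q) g
  refine ⟨u, ?_, k, by rw [Subgroup.orderOf_coe, hk]⟩
  suffices hv1 : M.π v = 1 by
    rw [show M.π u = M.π g by rw [← huv, map_mul, hv1, mul_one]]; exact hx
  refine orderOf_eq_one_iff.1 ((Nat.dvd_prime M.hp).1 (orderOf_dvd_of_pow_eq_one ?_) |>.resolve_right ?_)
  · have hg : M.π g ^ q = 1 := by rw [← hx]; exact pow_orderOf_eq_one _
    rw [← huv, map_mul, (hcomm.map M.π).mul_pow] at hg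
    have h2 : (M.π v ^ q) ^ (q ^ k) = 1 := by
      rw [eq_inv_of_mul_eq_one_right hg, inv_pow, ← pow_mul, mul_comm, pow_mul, ← map_pow,
        ← hk, pow_orderOf_eq_one, map_one, one_pow, inv_one]
    have h3 : orderOf (M.π v ^ q) ∣ orderOf v := (orderOf_pow_dvd q).trans (orderOf_map_dvd M.π v)
    refine orderOf_eq_one_iff.1 (Nat.Coprime.eq_one_of_dvd ?_ (orderOf_dvd_of_pow_eq_one h2))
    exact Nat.Coprime.coprime_dvd_left h3 (Nat.Coprime.pow_right _ (M.hp.coprime_iff_not_dvd.2 hv).symm)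
  · intro e
    exact hv (e ▸ orderOf_map_dvd M.π v)

theorem fix_one_of_order {u : ↥L.C} (hu : orderOf (M.π u) = q) : M.fix u = 1 := by
  rw [M.fix_def u.2]
  haveI : Fact (Nat.Prime q) := ⟨M.hp⟩
  have hne : M.π u ≠ 1 := fun e => M.hp.ne_one (by rw [← hu, e, orderOf_one])
  have h1 := fixCount_modEq (n := 1) (show orderOf (M.π u) = q ^ 1 by rw [hu, pow_one])
  have h2 := fixCount_le_two hne
  have hq3 : 3 ≤ q := by
    have := M.hp.two_le
    have := Nat.odd_iff.1 M.hq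
    omega
  rw [Nat.ModEq, Nat.add_mod_left, Nat.mod_eq_of_lt (show 1 < q by omega),
    Nat.mod_eq_of_lt (show fixCount (M.π u) < q by omega)] at h1
  exact h1.symm

open scoped _root_.Classical in
/-- The integrality of the two values on the central section. -/
theorem values_int {χ : IrrCharacter G} {d0 d1 : ℂ}
    (hval : ∀ k ∈ regElts L.C, (χ : G → ℂ) (L.z * k) = d0 + d1 * M.φ k) :
    ∃ e0 e1 : ℤ, d0 = e0 ∧ d1 = e1 := by
  obtain ⟨uC, hπu, e, hord⟩ := M.exists_unipotent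
  set u : G := (uC : G) with hu
  have huC : zpowers u ≤ L.C := zpowers_le.2 uC.2
  set incl : ↥(zpowers u) →* ↥L.C := Subgroup.inclusion huC
  have hodd : ∀ h : ↥(zpowers u), (h : G) ∈ regElts L.C := fun h => mem_regElts.2 ⟨huC h.2,
    Odd.of_dvd_nat (M.hq.pow (n := e)) (by
      rw [← hord, ← Nat.card_zpowers u]; exact Subgroup.orderOf_dvd_natCard _ h.2)⟩
  -- the linear character
  set gu : ↥(zpowers u) := ⟨u, mem_zpowers u⟩ with hgu
  have hgen : ∀ x : ↥(zpowers u), x ∈ zpowers gu := fun x => by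
    obtain ⟨j, hj⟩ := Subgroup.mem_zpowers_iff.1 x.2
    exact Subgroup.mem_zpowers_iff.2 ⟨j, Subtype.ext (by rw [Subgroup.coe_zpow]; exact hj)⟩
  haveI : NeZero q := ⟨M.hp.ne_zero⟩
  obtain ⟨ζ, hζ⟩ : ∃ ζ : ℂˣ, orderOf ζ = q := by
    have h := Complex.isPrimitiveRoot_exp q M.hp.ne_zero
    exact ⟨(h.isUnit M.hp.ne_zero).unit, by
      rw [← orderOf_units, IsUnit.unit_spec]; exact h.eq_orderOf.symm⟩
  have hdvd : orderOf ζ ∣ orderOf gu := by
    rw [hζ, hgu, Subgroup.orderOf_mk, ← hπu, hu, Subgroup.orderOf_coe]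
    exact orderOf_map_dvd M.π uC
  set lam := monoidHomOfForallMemZpowers hgen hdvd with hlam
  have hlamu : lam gu = ζ := monoidHomOfForallMemZpowers_apply_gen hgen hdvd
  have hker : ∀ h : ↥(zpowers u), (lam h = 1 ↔ M.π (incl h) = 1) := by
    intro h
    obtain ⟨j, rfl⟩ := Subgroup.mem_zpowers_iff.1 (hgen h)
    rw [map_zpow, map_zpow, map_zpow, hlamu, ← orderOf_dvd_iff_zpow_eq_one, hζ, ← hπu,
      orderOf_dvd_iff_zpow_eq_one]
    rfl
  set v : ℂ := d0 + d1 * ((M.P : ℂ) - 1) with hv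
  set w : ℂ := d0 - d1 with hw
  have hvals : ∀ h : ↥(zpowers u), (χ : G → ℂ) (L.z * h) = if lam h = 1 then v else w := by
    intro h
    rw [hval _ (hodd h)]
    split_ifs with hl
    · have h1 : M.fix h = q + 1 := by
        rw [M.fix_def (huC h.2), show (⟨(h : G), _⟩ : ↥L.C) = incl h from rfl, (hker h).1 hl, fixCount_one]
      rw [hv, φ, h1, P]; push_cast; ring
    · have h1 : M.fix h = 1 := by
        refine M.fix_one_of_order (u := incl h) ?_
        haveI : Fact (Nat.Prime q) := ⟨M.hp⟩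
        refine orderOf_eq_prime ?_ fun e => hl ((hker h).2 e)
        obtain ⟨j, rfl⟩ := Subgroup.mem_zpowers_iff.1 (hgen h)
        rw [map_zpow, map_zpow, ← zpow_natCast, ← zpow_mul, mul_comm, zpow_mul, zpow_natCast,
          show M.π (incl gu) ^ q = 1 by rw [← hπu]; exact pow_orderOf_eq_one _, one_zpow]
      rw [hw, M.φ_of_fix_one h1]; push_cast; ring
  -- the pairing of the restriction with the characters of the two-fold cover
  have hzc : ∀ h : ↥(zpowers u), Commute L.z (h : G) := fun h => (L.mem_C.1 (huC h.2)).symm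
  let sel : ℤˣ → G := fun a => if a = 1 then 1 else L.z
  let f : ℤˣ × ↥(zpowers u) →* G := MonoidHom.mk' (fun x => sel x.1 * (x.2 : G)) (by
    rintro ⟨a, h⟩ ⟨b, k⟩
    have hsel : sel (a * b) = sel a * sel b := by
      rcases Int.units_eq_one_or a with rfl | rfl <;> rcases Int.units_eq_one_or b with rfl | rfl <;>
        simp [sel, L.z_sq]
    have hc : Commute (sel b) (h : G) := by
      simp only [sel]; split_ifs
      exacts [Commute.one_left _, hzc h]
    show sel (a * b) * ((h : G) * (k : G)) = sel a * (h : G) * (sel b * (k : G))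
    rw [hsel, hc.symm.mul_mul_mul_comm])
  have hfc : IsCharacter (ℤˣ × ↥(zpowers u)) (fun x => (χ : G → ℂ) (f x)) :=
    IsChar.comp f (IsIrr.isCharacter χ.2)
  have key : ∀ μ : ↥(zpowers u) →* ℂˣ, ∃ N : ℤ,
      ∑ h : ↥(zpowers u), (χ : G → ℂ) (L.z * h) * conj ((μ h : ℂˣ) : ℂ) = Nat.card ↥(zpowers u) * (N : ℂ) := by
    intro μ
    let sgn : ℤˣ →* ℂˣ := Units.map (Int.castRingHom ℂ).toMonoidHom
    obtain ⟨n1, hn1⟩ := IsChar.classInner_nat hfc
      (IsIrr.isCharacter (isIrr_linear (μ.comp (MonoidHom.snd ℤˣ ↥(zpowers u)))))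
    obtain ⟨n2, hn2⟩ := IsChar.classInner_nat hfc
      (IsIrr.isCharacter (isIrr_linear (sgn.comp (MonoidHom.fst ℤˣ ↥(zpowers u)) * μ.comp (MonoidHom.snd ℤˣ ↥(zpowers u)))))
    refine ⟨(n1 : ℤ) - n2, ?_⟩
    push_cast
    rw [← hn1, ← hn2]
    simp only [classInner, Fintype.sum_prod_type, UnitsInt.univ, Nat.card_eq_fintype_card, Fintype.card_prod,
      Fintype.card_units_int]
    rw [Finset.sum_pair (by decide), Finset.sum_pair (by decide)]
    simp [f, sel, sgn, Finset.sum_neg_distrib]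
    have hn : (Fintype.card ↥(zpowers u) : ℂ) ≠ 0 := Nat.cast_ne_zero.2 Fintype.card_ne_zero
    field_simp
    ring
  set n : ℕ := Nat.card ↥(zpowers u) with hn
  set m : ℕ := (Finset.univ.filter fun h : ↥(zpowers u) => lam h = 1).card with hm
  have hnm : n = q * m := by
    have h1 := lam.ker.card_mul_index
    have h2 : lam.range = zpowers ζ := by
      ext y
      constructor
      · rintro ⟨x, rfl⟩
        obtain ⟨j, rfl⟩ := Subgroup.mem_zpowers_iff.1 (hgen x)
        rw [map_zpow, hlamu]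
        exact zpow_mem (mem_zpowers _) _
      · intro hy
        exact (zpowers_le.2 ⟨gu, hlamu⟩ : zpowers ζ ≤ lam.range) hy
    rw [Subgroup.index_ker, h2, Nat.card_zpowers, hζ] at h1
    rw [hn, ← h1, hm, Nat.card_eq_fintype_card, Fintype.card_subtype, mul_comm]
    simp [MonoidHom.mem_ker]
  have hm0 : (m : ℂ) ≠ 0 := Nat.cast_ne_zero.2 (Finset.card_ne_zero.2 ⟨1, by simp⟩)
  obtain ⟨N1, hN1⟩ := key lam
  obtain ⟨N0, hN0⟩ := key 1
  have hsplit : ∀ cf : ↥(zpowers u) → ℂ, ∑ h : ↥(zpowers u), (χ : G → ℂ) (L.z * h) * cf h =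
      (v - w) * (∑ h ∈ Finset.univ.filter (fun h => lam h = 1), cf h) + w * ∑ h, cf h := by
    intro cf
    rw [Finset.mul_sum, Finset.mul_sum, Finset.sum_filter, ← Finset.sum_add_distrib]
    refine Finset.sum_congr rfl fun h _ => ?_
    rw [hvals h]
    split_ifs <;> ring
  rw [hsplit] at hN1 hN0
  have hlam1 : (Units.coeHom ℂ).comp lam ≠ 1 := fun e => by
    have h1 : ((lam gu : ℂˣ) : ℂ) = 1 := DFunLike.congr_fun e gu
    rw [hlamu] at h1
    exact M.hp.ne_one (by rw [← hζ, (Units.ext h1 : ζ = 1), orderOf_one])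
  have hconj0 : ∑ h, conj ((lam h : ℂˣ) : ℂ) = 0 := by
    rw [← map_sum, show ∑ h, ((lam h : ℂˣ) : ℂ) = ∑ h, ((Units.coeHom ℂ).comp lam) h from rfl,
      sum_hom_units_eq_zero _ hlam1, map_zero]
  rw [hconj0, mul_zero, add_zero, Finset.sum_congr rfl fun h hh => by
    rw [(Finset.mem_filter.1 hh).2, Units.val_one, map_one], Finset.sum_const, nsmul_eq_mul, mul_one, ← hm,
    hnm, Nat.cast_mul] at hN1
  simp only [MonoidHom.one_apply, Units.val_one, map_one, Finset.sum_const, nsmul_eq_mul, mul_one,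
    Finset.card_univ, ← Nat.card_eq_fintype_card, ← hm, ← hn] at hN0
  rw [hnm, Nat.cast_mul] at hN0
  have h1 : v - w = (q : ℂ) * N1 := mul_left_cancel₀ hm0 (by linear_combination hN1)
  have h2 : w = (N0 : ℂ) - N1 := by
    refine mul_left_cancel₀ (mul_ne_zero (Nat.cast_ne_zero.2 M.hp.ne_zero : (q : ℂ) ≠ 0) hm0) ?_
    linear_combination hN0 - (m : ℂ) * h1
  have h3 : d1 = ((M.δ * N1 : ℤ) : ℂ) := by
    refine mul_left_cancel₀ (Nat.cast_ne_zero.2 M.hp.ne_zero : (q : ℂ) ≠ 0) ?_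
    have hvw : v - w = d1 * (M.P : ℂ) := by rw [hv, hw]; ring
    rw [hvw, P] at h1
    push_cast at h1 ⊢
    rcases M.δ_cases with ⟨hd, -, -⟩ | ⟨hd, -, -⟩ <;> rw [hd] at h1 ⊢ <;> push_cast at h1 ⊢
    · linear_combination h1
    · linear_combination -h1
  refine ⟨N0 - N1 + M.δ * N1, M.δ * N1, ?_, h3⟩
  have : d0 = w + d1 := by rw [hw]; ring
  rw [this, h2, h3]
  push_cast; ring

open scoped _root_.Classical in
/-- The principal block of the involution centraliser on the regular elements. -/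
theorem principal_span {I : Ideal AlgInt} (hI : IsPModular 2 I) :
    (∀ ξ ∈ principalBlock I ↥(L.C), ∃ a b : ℂ,
        ∀ g : ↥(L.C), ¬ 2 ∣ orderOf g →
          (ξ : ↥(L.C) → ℂ) g = a + b * M.φ g) ∧
      ∀ ξ : IrrCharacter ↥(L.C), ξ ∉ principalBlock I ↥(L.C) →
        ∑ g ∈ Finset.univ.filter (fun g : ↥(L.C) => ¬ 2 ∣ orderOf g),
            (ξ : ↥(L.C) → ℂ) g = 0 ∧
          ∑ g ∈ Finset.univ.filter (fun g : ↥(L.C) => ¬ 2 ∣ orderOf g),
            (ξ : ↥(L.C) → ℂ) g * M.φ g = 0 := by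
  set X := L.C with hX
  obtain ⟨St, hSt⟩ := M.steinberg
  have hφ : ∀ g : ↥X, (M.φ g : ℂ) = (M.δ : ℂ) * (St : ↥X → ℂ) g - 1 := fun g => by
    rw [hSt g, φ]; push_cast; ring
  have htriv : ∀ g, ((trivialIrr ↥X : IrrCharacter ↥X) : ↥X → ℂ) g = 1 := fun _ => rfl
  have hStsum : ∑ g ∈ Finset.univ.filter (fun g : ↥X => ¬ 2 ∣ orderOf g), (St : ↥X → ℂ) g ≠ 0 := by
    rw [Finset.sum_congr rfl fun g _ => hSt g, sum_regular X fun g => (M.fix g : ℂ) - 1]
    show ∑ g ∈ regElts L.C, ((M.fix g : ℂ) - 1) ≠ 0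
    have hX0 := M.X0
    have hX1 := M.X1
    intro h
    rw [Finset.sum_sub_distrib, Finset.sum_const, nsmul_eq_mul, mul_one, sub_eq_zero] at h
    have h' : (∑ g ∈ regElts L.C, (M.fix g : ℤ)) = ((regElts L.C).card : ℤ) := by exact_mod_cast h
    rw [h', hX0] at hX1
    have hC : (0 : ℤ) < Nat.card L.C := by exact_mod_cast Nat.card_pos
    rw [mul_comm] at hX1
    have h2 := mul_left_cancel₀ hC.ne' hX1
    have ht4 : (4 : ℤ) ≤ 2 ^ t := by
      calc (4 : ℤ) = 2 ^ 2 := by norm_num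
        _ ≤ _ := pow_le_pow_right₀ (by norm_num) L.ht
    rcases M.δ_cases with ⟨-, ha, hb⟩ | ⟨-, ha, hb⟩ <;> rw [ha, hb] at h2 <;> push_cast at h2 <;> linarith
  have hreal : ∀ g, conj ((St : ↥X → ℂ) g) = (St : ↥X → ℂ) g := fun g => by simp [hSt g]
  have hStP : St ∈ principalBlock I ↥X := by
    by_contra hn
    refine hStsum ?_
    have h := reg_orth (p := 2) (χ := trivialIrr ↥X) (ψ := St) hI hn
    rw [regSum_eq_sum] at h
    simpa [htriv, hreal] using h
  refine ⟨?_, fun ξ hξ => ?_⟩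
  · intro ξ hξ
    set e1 : ↥X → ℂ := pRegularPart 2 ((trivialIrr ↥X : IrrCharacter ↥X) : ↥X → ℂ) with he1
    set e2 : ↥X → ℂ := pRegularPart 2 (St : ↥X → ℂ) with he2
    set V := Submodule.span ℂ
      ((fun χ : IrrCharacter ↥X => pRegularPart 2 (χ : ↥X → ℂ)) '' principalBlock I ↥X) with hV
    have hval : ∀ (f : ↥X → ℂ) (g : ↥X), ¬ 2 ∣ orderOf g → pRegularPart 2 f g = f g := fun f g hg => by
      simp [pRegularPart, IsPRegular, hg]
    obtain ⟨u, hu, e, hord⟩ := M.exists_unipotent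
    have hureg : ¬ 2 ∣ orderOf (u : G) := by
      rw [hord]; exact Nat.two_dvd_ne_zero.2 (Nat.odd_iff.1 M.hq.pow)
    have hli : LinearIndependent ℂ ![e1, e2] := by
      rw [LinearIndependent.pair_iff]
      intro a b hab
      have h1 := congrFun hab (1 : ↥X)
      have hu' := congrFun hab (⟨(u : G), u.2⟩ : ↥X)
      have o1 : ¬ 2 ∣ orderOf (1 : ↥X) := by rw [orderOf_one]; norm_num
      have o2 : ¬ 2 ∣ orderOf (⟨(u : G), u.2⟩ : ↥X) := by rwa [Subgroup.orderOf_mk]
      simp only [Pi.add_apply, Pi.smul_apply, smul_eq_mul, he1, he2, hval _ _ o1, hval _ _ o2, htriv, hSt,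
        Pi.zero_apply, mul_one, OneMemClass.coe_one, M.fix_one, M.fix_one_of_order hu, Nat.cast_one, sub_self,
        mul_zero, add_zero] at h1 hu'
      subst hu'
      refine ⟨rfl, ?_⟩
      push_cast at h1
      have : (q : ℂ) ≠ 0 := Nat.cast_ne_zero.2 M.hp.ne_zero
      simpa [this] using h1
    have hmem : ∀ i, ![e1, e2] i ∈ V := by
      intro i
      fin_cases i
      · exact Submodule.subset_span ⟨_, trivial_mem_principalBlock hI, rfl⟩
      · exact Submodule.subset_span ⟨_, hStP, rfl⟩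
    have hle : Submodule.span ℂ (Set.range ![e1, e2]) ≤ V :=
      Submodule.span_le.2 (by rintro _ ⟨i, rfl⟩; exact hmem i)
    have heq : Submodule.span ℂ (Set.range ![e1, e2]) = V := by
      refine Submodule.eq_of_le_of_finrank_le hle ?_
      rw [finrank_span_eq_card hli, Fintype.card_fin]
      exact L.principal_rank hI
    have hin : pRegularPart 2 (ξ : ↥X → ℂ) ∈ Submodule.span ℂ (Set.range ![e1, e2]) :=
      heq ▸ Submodule.subset_span ⟨ξ, hξ, rfl⟩
    obtain ⟨c, hc⟩ := (Submodule.mem_span_range_iff_exists_fun ℂ).1 hin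
    refine ⟨c 0 + (M.δ : ℂ) * c 1, (M.δ : ℂ) * c 1, fun g hg => ?_⟩
    have h := congrFun hc g
    rw [hval _ _ hg, Fin.sum_univ_two] at h
    simp only [Matrix.cons_val_zero, Matrix.cons_val_one, Pi.add_apply, Pi.smul_apply, smul_eq_mul, he1, he2,
      hval _ _ hg, htriv, mul_one] at h
    have hd : (M.δ : ℂ) * (M.δ : ℂ) = 1 := by
      rcases M.δ_cases with ⟨hd, -, -⟩ | ⟨hd, -, -⟩ <;> rw [hd] <;> norm_num
    rw [← h, hφ g]
    linear_combination -(c 1) * (St : ↥X → ℂ) g * hd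
  · have h1 := reg_orth (p := 2) (χ := ξ) (ψ := trivialIrr ↥X) hI
      fun e => hξ (sameBlock_symm e)
    have h2 := reg_orth (p := 2) (χ := ξ) (ψ := St) hI
      fun e => hξ (sameBlock_trans hI hStP (sameBlock_symm e))
    rw [regSum_eq_sum] at h1 h2
    simp only [htriv, map_one, mul_one, hreal] at h1 h2
    refine ⟨h1, ?_⟩
    rw [Finset.sum_congr rfl fun g _ => show (ξ : ↥X → ℂ) g * M.φ g =
      (M.δ : ℂ) * ((ξ : ↥X → ℂ) g * (St : ↥X → ℂ) g) - (ξ : ↥X → ℂ) g by rw [hφ g]; ring,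
      Finset.sum_sub_distrib, ← Finset.mul_sum, h1, h2, mul_zero, sub_zero]

open scoped _root_.Classical in
/-- The block condition of the configuration. -/
theorem block (χ : IrrCharacter G) :
    (∃ d0 d1 : ℤ, ∀ k ∈ regElts L.C, (χ : G → ℂ) (L.z * k) = d0 + d1 * M.φ k) ∨
      ((∀ i : Rot t, i ≠ 0 → i ≠ mid t → ∑ k ∈ elts L.K, (χ : G → ℂ) (k * L.r ^ i.val) = 0) ∧
        ∑ k ∈ regElts L.C, (χ : G → ℂ) (L.z * k) = 0 ∧
        ∑ k ∈ regElts L.C, (χ : G → ℂ) (L.z * k) * M.φ k = 0) := by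
  haveI : Fact (Nat.Prime 2) := ⟨Nat.prime_two⟩
  obtain ⟨I, hI⟩ := exists_isPModular 2 Nat.prime_two
  set X := L.C with hX
  obtain ⟨hspan, hout⟩ := M.principal_span hI
  have hz2 : ∃ k, orderOf L.z = 2 ^ k := ⟨1, by rw [L.order_z, pow_one]⟩
  have hloc := L.principal_local hI L.z_mem_S
  by_cases hχ : χ ∈ principalBlock I G
  · left
    have hv : ∀ g : ↥X, ¬ 2 ∣ orderOf g → (χ : G → ℂ) (L.z * g) =
        ∑ ξ ∈ Finset.univ.filter (fun ξ : IrrCharacter ↥X =>
          IsInducedBlock I _ (blockOf I (ξ : ↥X → ℂ)) (principalBlock I G)),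
          classInner (fun c : ↥X => (χ : G → ℂ) (L.z * (c : G))) (ξ : ↥X → ℂ) * (ξ : ↥X → ℂ) g :=
      fun g hg => ((value_eq_sum_inducing hI hz2 isPBlock_principalBlock hg χ).trans (if_pos hχ)).symm
    have hmem : ∀ ξ ∈ Finset.univ.filter (fun ξ : IrrCharacter ↥X =>
        IsInducedBlock I _ (blockOf I (ξ : ↥X → ℂ)) (principalBlock I G)), ξ ∈ principalBlock I ↥X := by
      intro ξ hξ
      have h := (Finset.mem_filter.1 hξ).2
      rw [← (principal_third_main hI ⟨_, h⟩).1 h]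
      exact mem_blockOf_self hI ξ
    choose! a b hab using hspan
    obtain ⟨e0, e1, he0, he1⟩ := M.values_int (χ := χ)
      (d0 := ∑ ξ ∈ Finset.univ.filter (fun ξ : IrrCharacter ↥X =>
          IsInducedBlock I _ (blockOf I (ξ : ↥X → ℂ)) (principalBlock I G)),
          classInner (fun c : ↥X => (χ : G → ℂ) (L.z * (c : G))) (ξ : ↥X → ℂ) * a ξ)
      (d1 := ∑ ξ ∈ Finset.univ.filter (fun ξ : IrrCharacter ↥X =>
          IsInducedBlock I _ (blockOf I (ξ : ↥X → ℂ)) (principalBlock I G)),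
          classInner (fun c : ↥X => (χ : G → ℂ) (L.z * (c : G))) (ξ : ↥X → ℂ) * b ξ) fun k hk => by
        obtain ⟨hkC, hko⟩ := mem_regElts.1 hk
        have hg : ¬ 2 ∣ orderOf (⟨k, hkC⟩ : ↥X) := by
          rw [Subgroup.orderOf_mk]; exact Nat.two_dvd_ne_zero.2 (Nat.odd_iff.1 hko)
        rw [show (χ : G → ℂ) (L.z * k) = _ from hv ⟨k, hkC⟩ hg, Finset.sum_mul, ← Finset.sum_add_distrib]
        refine Finset.sum_congr rfl fun ξ hξ => ?_
        rw [hab ξ (hmem ξ hξ) _ hg]; ring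
    refine ⟨e0, e1, fun k hk => ?_⟩
    obtain ⟨hkC, hko⟩ := mem_regElts.1 hk
    have hg : ¬ 2 ∣ orderOf (⟨k, hkC⟩ : ↥X) := by
      rw [Subgroup.orderOf_mk]; exact Nat.two_dvd_ne_zero.2 (Nat.odd_iff.1 hko)
    rw [show (χ : G → ℂ) (L.z * k) = _ from hv ⟨k, hkC⟩ hg, ← he0, ← he1, Finset.sum_mul,
      ← Finset.sum_add_distrib]
    refine Finset.sum_congr rfl fun ξ hξ => ?_
    rw [hab ξ (hmem ξ hξ) _ hg]; ring
  · right
    refine ⟨fun i h0 h1 => L.rot_sum_zero hI hχ h0 h1, ?_⟩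
    have hB := isPBlock_blockOf (M := I) χ
    have hnot : ∀ ξ ∈ Finset.univ.filter (fun ξ : IrrCharacter ↥X =>
        IsInducedBlock I _ (blockOf I (ξ : ↥X → ℂ)) (blockOf I (χ : G → ℂ))), ξ ∉ principalBlock I ↥X := by
      intro ξ hξ hP
      have he : blockOf I (ξ : ↥X → ℂ) = principalBlock I ↥X := (blockOf_eq hI hP).symm
      exact hχ ((induced_unique hI (he ▸ (Finset.mem_filter.1 hξ).2) hloc) ▸ mem_blockOf_self hI χ)
    have hv : ∀ g : ↥X, ¬ 2 ∣ orderOf g → (χ : G → ℂ) (L.z * g) =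
        ∑ ξ ∈ Finset.univ.filter (fun ξ : IrrCharacter ↥X =>
          IsInducedBlock I _ (blockOf I (ξ : ↥X → ℂ)) (blockOf I (χ : G → ℂ))),
          classInner (fun c : ↥X => (χ : G → ℂ) (L.z * (c : G))) (ξ : ↥X → ℂ) * (ξ : ↥X → ℂ) g :=
      fun g hg => ((value_eq_sum_inducing hI hz2 hB hg χ).trans (if_pos (mem_blockOf_self hI χ))).symm
    constructor
    · show ∑ k ∈ regElts X, (χ : G → ℂ) (L.z * k) = 0
      rw [← sum_regular X fun k => (χ : G → ℂ) (L.z * k),
        Finset.sum_congr rfl fun g hg => hv g (Finset.mem_filter.1 hg).2, Finset.sum_comm]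
      refine Finset.sum_eq_zero fun ξ hξ => ?_
      rw [← Finset.mul_sum, (hout ξ (hnot ξ hξ)).1, mul_zero]
    · show ∑ k ∈ regElts X, (χ : G → ℂ) (L.z * k) * M.φ k = 0
      rw [← sum_regular X fun k => (χ : G → ℂ) (L.z * k) * M.φ k,
        Finset.sum_congr rfl fun g hg => by rw [hv g (Finset.mem_filter.1 hg).2, Finset.sum_mul],
        Finset.sum_comm]
      refine Finset.sum_eq_zero fun ξ hξ => ?_
      simp only [mul_assoc, ← Finset.mul_sum]
      refine mul_eq_zero_of_right _ ?_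
      convert (hout ξ (hnot ξ hξ)).2 using 2

end Mod

end Cfsg.Agent.Invol.AlmostCyclic
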