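import Cfsg.Agent.Lib.Invol.AlmostCyclic.Inherit
import Cfsg.Agent.Lib.Invol.IndexTwoTransfer
import Cfsg.Agent.Lib.Invol.SuborbitThree
import Cfsg.Agent.Lib.Invol.GW.Consumers.CommutingOuter

/-!
# 2-groups with a cyclic subgroup of index two and more than one involution (for S4069)

Such a group is dihedral, semidihedral, or its elements of largest order are those outside a subgroup of
index two; in the last case a group with such Sylow 2-subgroups has a normal subgroup of index two.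
-/

set_option autoImplicit false

namespace Cfsg.Agent.Invol.AlmostCyclic

open Subgroup
open scoped commutatorElement

universe u

/-- The three kinds of exponents. -/
theorem exponent_cases {n : ℕ} (hn : 1 ≤ n) {r : ℤ} (h : (2 ^ n : ℤ) ∣ r * r - 1) :
    (2 ^ n : ℤ) ∣ r + 1 ∨ (3 ≤ n ∧ (2 ^ n : ℤ) ∣ r + 1 - 2 ^ (n - 1)) ∨
      (2 ≤ n ∧ ∃ k : ℤ, r + 1 = 2 * (2 * k + 1)) := by
  have hr : ∃ s : ℤ, r = 2 * s + 1 := by
    rcases Int.even_or_odd r with ⟨s, hs⟩ | ⟨s, hs⟩
    · exfalso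
      have h2 : (2 : ℤ) ∣ r * r - 1 := (dvd_pow_self 2 (by omega)).trans h
      rw [hs] at h2
      obtain ⟨c, hc⟩ := h2
      have : (s + s) * (s + s) = 2 * (2 * s * s) := by ring
      omega
    · exact ⟨s, hs⟩
  obtain ⟨s, rfl⟩ := hr
  rcases Int.even_or_odd s with ⟨k, rfl⟩ | ⟨k, rfl⟩
  · by_cases h2 : 2 ≤ n
    · exact Or.inr (Or.inr ⟨h2, k, by ring⟩)
    · have : n = 1 := by omega
      subst this
      exact Or.inl ⟨2 * k + 1, by ring⟩
  · by_cases h3 : 3 ≤ n
    · -- `r - 1` is twice an odd number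
      obtain ⟨m, rfl⟩ : ∃ m, n = m + 3 := ⟨n - 3, by omega⟩
      obtain ⟨c, hc⟩ := h
      have e : (2 * k + 1) * (k + 1) = 2 ^ m * c := by
        have h8 : (2 : ℤ) ^ (m + 3) = 2 ^ m * 8 := by rw [pow_add]; norm_num
        rw [h8] at hc
        linarith
      have hdvd : (2 ^ m : ℤ) ∣ k + 1 := by
        refine IsCoprime.dvd_of_dvd_mul_left ?_ ⟨c, e⟩
        exact IsCoprime.pow_left ⟨-k, 1, by ring⟩
      obtain ⟨d, hd⟩ := hdvd
      rcases Int.even_or_odd d with ⟨d', rfl⟩ | ⟨d', rfl⟩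
      · exact Or.inl ⟨d', by linear_combination (norm := ring_nf) 4 * hd⟩
      · exact Or.inr (Or.inl ⟨h3, d', by
          rw [show m + 3 - 1 = m + 2 by omega]
          linear_combination (norm := ring_nf) 4 * hd⟩)
    · left
      refine (pow_dvd_pow 2 (show n ≤ 2 by omega)).trans ?_
      exact ⟨k + 1, by ring⟩

/-- The subgroup structure of a 2-group with a cyclic subgroup of index two and an involution outside it. -/
theorem two_shapes {P : Type u} [Group P] [Finite P] (hP : IsPGroup 2 P) {C : Subgroup P} [IsCyclic ↥C]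
    (hC : C.index ∣ 2) (hinv : ∃ u v : P, orderOf u = 2 ∧ orderOf v = 2 ∧ u ≠ v) :
    (∃ n : ℕ, 2 ≤ n ∧ Nonempty (P ≃* DihedralGroup n)) ∨ Cfsg.IsQuasiDihedral P ∨
      ∃ (n : ℕ) (M : Subgroup P), M.index = 2 ∧ ∀ s, s ∈ M ↔ s ^ (2 ^ n) = 1 := by
  haveI : Fact (Nat.Prime 2) := ⟨Nat.prime_two⟩
  obtain ⟨u, v, hu, hv, huv⟩ := hinv
  obtain ⟨w, hw, hwC⟩ : ∃ w : P, orderOf w = 2 ∧ w ∉ C := by
    by_contra hc
    push Not at hc
    exact huv (congrArg Subtype.val (GW.cyclic_invol_unique (x := (⟨u, hc u hu⟩ : ↥C)) (y := ⟨v, hc v hv⟩)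
      (by rw [← orderOf_coe]; exact hu) (by rw [← orderOf_coe]; exact hv)))
  have hi2 : C.index = 2 := ((Nat.dvd_prime Nat.prime_two).1 hC).resolve_left fun h =>
    hwC (index_eq_one.1 h ▸ mem_top w)
  haveI hCn : C.Normal := normal_of_index_eq_two hi2
  obtain ⟨⟨a, haC⟩, hgen⟩ := IsCyclic.exists_generator (α := ↥C)
  have hCa : C = zpowers a := le_antisymm (fun x hx => by
    obtain ⟨k, hk⟩ := hgen ⟨x, hx⟩
    exact ⟨k, congrArg Subtype.val hk⟩) (zpowers_le.2 haC)
  obtain ⟨n, hn⟩ := IsPGroup.iff_card.1 (hP.to_subgroup C)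
  have horda : orderOf a = 2 ^ n := by rw [← Nat.card_zpowers, ← hCa, hn]
  have hcard : Nat.card P = 2 * 2 ^ n := by rw [← C.card_mul_index, hi2, hn]; ring
  have hww : w * w = 1 := by rw [← pow_two, ← hw, pow_orderOf_eq_one]
  have hwinv : w⁻¹ = w := inv_eq_of_mul_eq_one_right hww
  obtain ⟨r, hr⟩ : ∃ r : ℤ, a ^ r = w * a * w⁻¹ := by
    have := hCn.conj_mem a haC w
    rwa [hCa, mem_zpowers_iff] at this
  have hconj : ∀ i : ℤ, w * a ^ i * w⁻¹ = a ^ (r * i) := fun i => by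
    rw [zpow_mul, hr, conj_zpow]
  have hzeq : ∀ i j : ℤ, a ^ i = a ^ j ↔ (2 ^ n : ℤ) ∣ j - i := fun i j => by
    rw [zpow_eq_zpow_iff_modEq, horda, Int.modEq_iff_dvd]
    norm_num
  have hrr : (2 ^ n : ℤ) ∣ r * r - 1 := by
    rw [← hzeq, zpow_one, ← hconj, hr]
    rw [hwinv, show w * (w * a * w) * w = (w * w) * a * (w * w) by group, hww, one_mul, mul_one]
  have hcases : ∀ s : P, ∃ i : ℤ, s = a ^ i ∨ s = a ^ i * w := by
    intro s
    by_cases hs : s ∈ C
    · rw [hCa, mem_zpowers_iff] at hs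
      obtain ⟨i, hi⟩ := hs
      exact ⟨i, Or.inl hi.symm⟩
    · have h1 : s * w ∈ C := (mul_mem_iff_of_index_two hi2).2 (iff_of_false hs hwC)
      rw [hCa, mem_zpowers_iff] at h1
      obtain ⟨i, hi⟩ := h1
      exact ⟨i, Or.inr (by rw [hi, mul_assoc, hww, mul_one])⟩
  have hn1 : 1 ≤ n := by
    by_contra hn0
    have ha1 : a = 1 := orderOf_eq_one_iff.1 (by rw [horda, show n = 0 by omega, pow_zero])
    have key : ∀ x : P, orderOf x = 2 → x = w := by
      intro x hx
      obtain ⟨i, rfl | rfl⟩ := hcases x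
      · rw [ha1, one_zpow, orderOf_one] at hx
        omega
      · rw [ha1, one_zpow, one_mul]
    exact huv ((key u hu).trans (key v hv).symm)
  rcases exponent_cases hn1 hrr with h | ⟨h3, h⟩ | ⟨h2, k, hk⟩
  · -- dihedral
    left
    refine ⟨2 ^ n, by
      calc 2 = 2 ^ 1 := rfl
        _ ≤ 2 ^ n := Nat.pow_le_pow_right two_pos hn1, ?_⟩
    refine SubThree.dihedral_iso a w horda hww ?_ (fun i hi => hwC (hCa ▸ ⟨i, hi.symm⟩)) hcard
    have h1 : a ^ r = a⁻¹ := by
      rw [← zpow_neg_one, hzeq, show (-1 : ℤ) - r = -(r + 1) by ring, dvd_neg]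
      exact h
    rw [← h1, hr, hwinv]
  · -- semidihedral
    right; left
    refine ⟨n, h3, by rw [hcard, pow_succ'], a, w, horda, hw, ?_⟩
    rw [← hr, ← zpow_natCast, hzeq, Nat.cast_sub Nat.one_le_two_pow]
    push_cast
    rw [show (2 : ℤ) ^ (n - 1) - 1 - r = -(r + 1 - 2 ^ (n - 1)) by ring, dvd_neg]
    exact h
  · -- elements of largest order outside a subgroup of index two
    right; right
    obtain ⟨m, rfl⟩ : ∃ m, n = m + 2 := ⟨n - 2, by omega⟩
    -- the power `2 ^ (m + 1)` is a homomorphism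
    have hpow : ∀ (i : ℤ), (a ^ i) ^ (2 ^ (m + 1)) = a ^ (i * 2 ^ (m + 1)) ∧
        (a ^ i * w) ^ (2 ^ (m + 1)) = a ^ (i * 2 ^ (m + 1)) := by
      intro i
      refine ⟨by rw [← zpow_natCast, ← zpow_mul]; norm_num, ?_⟩
      have hsq : (a ^ i * w) ^ 2 = a ^ (i * (2 * (2 * k + 1))) := by
        rw [pow_two, show a ^ i * w * (a ^ i * w) = a ^ i * (w * a ^ i * w⁻¹) * (w * w) by group, hww, mul_one,
          hconj, ← zpow_add, show i + r * i = i * (r + 1) by ring, hk]
      rw [show 2 ^ (m + 1) = 2 * 2 ^ m from pow_succ' 2 m, pow_mul, hsq, ← zpow_natCast, ← zpow_mul, hzeq]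
      push_cast
      exact ⟨-(i * k), by ring⟩
    have hcanon : ∀ s : P, ∃ i : ℤ, (s = a ^ i ∨ s = a ^ i * w) ∧ s ^ (2 ^ (m + 1)) = a ^ (i * 2 ^ (m + 1)) :=
      fun s => by
        obtain ⟨i, rfl | rfl⟩ := hcases s
        · exact ⟨i, Or.inl rfl, (hpow i).1⟩
        · exact ⟨i, Or.inr rfl, (hpow i).2⟩
    have hmul : ∀ s t : P, (s * t) ^ (2 ^ (m + 1)) = s ^ (2 ^ (m + 1)) * t ^ (2 ^ (m + 1)) := by
      intro s t
      obtain ⟨i, hs, hsp⟩ := hcanon s
      obtain ⟨j, ht, htp⟩ := hcanon t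
      rw [hsp, htp, ← zpow_add, ← add_mul]
      rcases hs with rfl | rfl <;> rcases ht with rfl | rfl
      · rw [← zpow_add, (hpow _).1]
      · rw [← mul_assoc, ← zpow_add, (hpow _).2]
      · rw [show a ^ i * w * a ^ j = a ^ i * (w * a ^ j * w⁻¹) * w by group, hconj, ← zpow_add, (hpow _).2, hzeq]
        refine ⟨-(2 * j * k), ?_⟩
        linear_combination (norm := ring_nf) (-(j * 2 ^ (m + 1))) * hk
      · rw [show a ^ i * w * (a ^ j * w) = a ^ i * (w * a ^ j * w⁻¹) * (w * w) by group, hww, mul_one, hconj,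
          ← zpow_add, (hpow _).1, hzeq]
        refine ⟨-(2 * j * k), ?_⟩
        linear_combination (norm := ring_nf) (-(j * 2 ^ (m + 1))) * hk
    let φ : P →* P := MonoidHom.mk' (fun s => s ^ (2 ^ (m + 1))) hmul
    refine ⟨m + 1, φ.ker, ?_, fun s => MonoidHom.mem_ker⟩
    rw [index_ker]
    have hrange : φ.range = zpowers (a ^ (2 ^ (m + 1) : ℤ)) := by
      refine le_antisymm ?_ (zpowers_le.2 ⟨a, ?_⟩)
      · rintro _ ⟨s, rfl⟩
        obtain ⟨i, -, hsp⟩ := hcanon s
        exact ⟨i, by show (a ^ (2 ^ (m + 1) : ℤ)) ^ i = s ^ _; rw [hsp, ← zpow_mul, mul_comm]⟩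
      · show a ^ (2 ^ (m + 1)) = a ^ (2 ^ (m + 1) : ℤ)
        rw [← zpow_natCast]; norm_num
    rw [hrange, Nat.card_zpowers]
    refine orderOf_eq_prime ?_ ?_
    · rw [← zpow_natCast, ← zpow_mul, ← zpow_zero a, hzeq]
      exact ⟨-1, by push_cast; ring⟩
    · rw [ne_eq, ← zpow_zero a, hzeq, zero_sub, dvd_neg]
      intro hd
      have := Int.le_of_dvd (by positivity) hd
      rw [pow_succ (2 : ℤ) (m + 1)] at this
      nlinarith [pow_pos (two_pos : (0 : ℤ) < 2) (m + 1)]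

/-- A Sylow 2-subgroup of a perfect group is not of the third shape. -/
theorem not_perfect_of_power_shape {G : Type u} [Group G] [Finite G] (hp : commutator G = ⊤) (S : Sylow 2 G)
    {n : ℕ} {M : Subgroup ↥(S : Subgroup G)} (hM : M.index = 2) (hmem : ∀ s, s ∈ M ↔ s ^ (2 ^ n) = 1) : False := by
  obtain ⟨K, hK, hK2, -⟩ := exists_index_two_of_respects S (M := M.map (S : Subgroup G).subtype)
    (map_subtype_le M) (by
      rw [relIndex, subgroupOf, comap_map_eq_self_of_injective (S : Subgroup G).subtype_injective]; exact hM)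
    (fun s hs g hg => by
      have key : ∀ {x : G} (hx : x ∈ (S : Subgroup G)), x ∈ M.map (S : Subgroup G).subtype ↔ x ^ (2 ^ n) = 1 := by
        intro x hx
        rw [show x = (S : Subgroup G).subtype ⟨x, hx⟩ from rfl,
          mem_map_iff_mem (S : Subgroup G).subtype_injective, hmem, Subtype.ext_iff]
        simp
      rw [key hg, key hs, conj_pow, conj_eq_one_iff])
  haveI := hK
  have hle : commutator G ≤ K := by
    have h2 : Nat.card (G ⧸ K) = 2 := by rw [← index_eq_card, hK2]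
    haveI : IsCyclic (G ⧸ K) := isCyclic_of_prime_card (p := 2) h2
    rw [_root_.commutator_def, Subgroup.commutator_le]
    intro x _ y _
    rw [← QuotientGroup.eq_one_iff]
    letI := IsCyclic.commGroup (α := G ⧸ K)
    simp [commutatorElement_def, mul_comm, mul_left_comm]
  rw [hp, top_le_iff] at hle
  rw [hle, index_top] at hK2
  omega

end Cfsg.Agent.Invol.AlmostCyclic
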