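import Cfsg.Agent.Lib.Invol.AlmostCyclic.Lifts

/-!
# Coefficients and products of the lifts (for S4069)
-/

set_option autoImplicit false

open scoped ComplexConjugate

namespace Cfsg.Agent.Invol.AlmostCyclic

open Cfsg Cfsg.Agent.Char

universe u

variable {G : Type u} [Group G] [Fintype G] {t : ℕ}

/-- The sign difference of two labels at the central involution. -/
def sgd (a b : Rot t) : ℤ := (-1) ^ a.val - (-1) ^ b.val

/-- The product of two differences. -/
def zzd (a b a' b' : Rot t) : ℤ := zz a a' - zz a b' - zz b a' + zz b b'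

theorem conj_pair_sub (a b i : Rot t) :
    conj (pair a i - pair b i) = conj (pair a i) - conj (pair b i) := map_sub _ _ _

theorem rotSum_mul_left (q : ℂ) (F : Rot t → ℂ) : rotSum (fun i => q * F i) = q * rotSum F := by
  rw [rotSum, rotSum, Finset.mul_sum]

theorem rotSum_diff_diff (ht : 1 ≤ t) (a b a' b' : Rot t) :
    rotSum (fun i => (pair a i - pair b i) * conj (pair a' i - pair b' i)) =
      2 * (2 ^ (t + 1) : ℂ) * (zzd a b a' b' : ℂ) - 4 * (sgd a b : ℂ) * (sgd a' b' : ℂ) := by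
  have h : ∀ i, (pair a i - pair b i) * conj (pair a' i - pair b' i) =
      pair a i * conj (pair a' i) - pair a i * conj (pair b' i) - pair b i * conj (pair a' i) +
        pair b i * conj (pair b' i) := fun i => by rw [map_sub]; ring
  rw [rotSum_eq, Finset.sum_congr rfl fun i _ => h i, Finset.sum_add_distrib, Finset.sum_sub_distrib,
    Finset.sum_sub_distrib, sum_pair_mul_conj ht, sum_pair_mul_conj ht, sum_pair_mul_conj ht,
    sum_pair_mul_conj ht]
  simp only [pair_zero, pair_mid ht, sub_self, zero_mul, sub_zero, zzd, sgd, map_sub, map_mul,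
    map_pow, map_neg, map_one, map_ofNat]
  push_cast
  ring

namespace Cfg

variable (S : Cfg G t)

/-- The standard lifts. -/
noncomputable def vec (q : ℝ) (a b : Rot t) (x y : ℤ) : G → ℂ :=
  S.lift (fun i => (q : ℂ) * (pair a i - pair b i)) (fun g => (x : ℂ) + y * S.φ g)

theorem vec_classFun (q : ℝ) (a b : Rot t) (x y : ℤ) : IsClassFunction G (S.vec q a b x y) :=
  S.lift_classFun _ _

theorem vec_one (q : ℝ) (a b : Rot t) (x y : ℤ) : S.vec q a b x y 1 = 0 := S.lift_one _ _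

theorem one_le (S : Cfg G t) : 1 ≤ t := by linarith [S.ht]

theorem card_C_ne : (Nat.card S.C : ℂ) ≠ 0 := Nat.cast_ne_zero.2 Nat.card_pos.ne'

theorem sum_reg (u : ℂ) : ∑ _k ∈ regElts S.C, u = u * ((2 ^ t + 2) * Nat.card S.C / (8 * 2 ^ t)) := by
  rw [Finset.sum_const, nsmul_eq_mul, mul_comm u]
  congr 1
  rw [eq_div_iff (by norm_num), mul_comm]
  exact_mod_cast S.m00

theorem sum_reg_φ : ∑ k ∈ regElts S.C, (S.φ k : ℂ) = -(Nat.card S.C : ℂ) / (2 * 2 ^ t) := by
  rw [eq_div_iff (by norm_num), mul_comm]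
  exact_mod_cast S.m01

theorem sum_reg_φφ : ∑ k ∈ regElts S.C, (S.φ k : ℂ) * S.φ k = (Nat.card S.C : ℂ) / 2 ^ t := by
  rw [eq_div_iff (by norm_num), mul_comm]
  exact_mod_cast S.m11

/-- Gram products of the standard lifts. -/
theorem inner_vec (q q' : ℝ) (a b a' b' : Rot t) (x y x' y' : ℤ) :
    classInner (S.vec q a b x y) (S.vec q' a' b' x' y') =
      (q : ℂ) * q' * ((zzd a b a' b' : ℂ) - (sgd a b : ℂ) * (sgd a' b' : ℂ) / (2 ^ t)) +
        ((x : ℂ) * x' * (2 ^ t + 2) - 4 * ((x : ℂ) * y' + x' * y) + 8 * ((y : ℂ) * y')) / (8 * 2 ^ t) := by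
  rw [vec, vec, S.inner_lift_lift _ _ (fun i => by rw [pair_sig S.one_le, pair_sig S.one_le])
    (fun g hg k hk => by rw [S.φ_class g hg k hk])]
  congr 1
  · rw [show (fun i => (q : ℂ) * (pair a i - pair b i) * conj ((q' : ℂ) * (pair a' i - pair b' i))) =
      fun i => (q : ℂ) * q' * ((pair a i - pair b i) * conj (pair a' i - pair b' i)) from
      funext fun i => by rw [map_mul, Complex.conj_ofReal]; ring,
      rotSum_mul_left, rotSum_diff_diff S.one_le, pow_succ]
    field_simp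
    ring
  · rw [Finset.sum_congr rfl fun k _ => show ((x : ℂ) + y * S.φ k) * conj ((x' : ℂ) + y' * S.φ k) =
      (x : ℂ) * x' + ((x : ℂ) * y' + x' * y) * S.φ k + (y : ℂ) * y' * (S.φ k * S.φ k) by
      rw [map_add, map_mul, map_intCast, map_intCast, map_intCast]; ring,
      Finset.sum_add_distrib, Finset.sum_add_distrib, S.sum_reg, ← Finset.mul_sum, ← Finset.mul_sum,
      S.sum_reg_φ, S.sum_reg_φφ]
    have := S.card_C_ne
    field_simp
    ring

theorem avg_sig {ψ : G → ℂ} (hψ : IsClassFunction G ψ) (i : Rot t) :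
    S.avg ψ (sig t * i) = S.avg ψ i := by
  rw [avg, avg]
  congr 1
  symm
  refine Finset.sum_bij' (fun k _ => S.s * (k * S.r ^ i.val) * S.s⁻¹ * (S.r ^ (sig t * i).val)⁻¹)
    (fun k _ => S.s * (k * S.r ^ (sig t * i).val) * S.s⁻¹ * (S.r ^ i.val)⁻¹) (fun k hk => ?_)
    (fun k hk => ?_) (fun k _ => ?_) (fun k _ => ?_) (fun k _ => ?_)
  · rw [mem_elts] at hk ⊢
    obtain ⟨h1, h2⟩ := S.s_conj _ (mul_mem (S.K_le hk) (pow_mem S.r_mem i.val))
    refine (S.K_iff _).2 ⟨mul_mem h1 (inv_mem (pow_mem S.r_mem _)), ?_⟩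
    rw [S.rot_mul _ h1 _ (inv_mem (pow_mem S.r_mem _)), S.rot_inv (pow_mem S.r_mem _), S.rot_r_pow, h2,
      S.rot_eq_of_mem hk, add_neg_cancel]
  · rw [mem_elts] at hk ⊢
    obtain ⟨h1, h2⟩ := S.s_conj _ (mul_mem (S.K_le hk) (pow_mem S.r_mem (sig t * i).val))
    refine (S.K_iff _).2 ⟨mul_mem h1 (inv_mem (pow_mem S.r_mem _)), ?_⟩
    rw [S.rot_mul _ h1 _ (inv_mem (pow_mem S.r_mem _)), S.rot_inv (pow_mem S.r_mem _), S.rot_r_pow, h2,
      S.rot_eq_of_mem hk, sig_cancel S.one_le, add_neg_cancel]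
  · simp only [inv_mul_cancel_right]
    calc _ = S.s * S.s * (k * S.r ^ i.val) * (S.s * S.s)⁻¹ * (S.r ^ i.val)⁻¹ := by group
      _ = k := by rw [S.s_sq]; group
  · simp only [inv_mul_cancel_right]
    calc _ = S.s * S.s * (k * S.r ^ (sig t * i).val) * (S.s * S.s)⁻¹ * (S.r ^ (sig t * i).val)⁻¹ := by group
      _ = k := by rw [S.s_sq]; group
  · rw [inv_mul_cancel_right]
    exact (hψ _ _).symm

/-- The multiplicities on the rotations. -/
theorem exists_coef (χ : IrrCharacter G) : ∃ m : Rot t → ℤ,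
    (∀ l, coef (S.avg (χ : G → ℂ)) l = m l) ∧ ∀ l, m (sig t * l) = m l := by
  classical
  haveI := Fintype.ofFinite S.A
  have h : ∀ l : Rot t, ∃ k : ℕ, coef (S.avg (χ : G → ℂ)) l = k := by
    intro l
    let lam : ↥S.A →* ℂ :=
      { toFun := fun a => ev t (l * S.rot a)
        map_one' := by simp [S.rot_one]
        map_mul' := fun a b => by
          rw [Subgroup.coe_mul, S.rot_mul _ a.2 _ b.2, mul_add, AddChar.map_add_eq_mul] }
    have hlam : IsCharacter ↥S.A (fun a : S.A => ev t (l * S.rot a)) :=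
      IsIrr.isCharacter (isIrr_linear lam.toHomUnits)
    obtain ⟨k, hk⟩ := IsChar.classInner_nat (IsChar.res (IsIrr.isCharacter χ.2) S.A) hlam
    refine ⟨k, hk ▸ ?_⟩
    rw [classInner, sum_subgroup fun a => (χ : G → ℂ) a * conj (ev t (l * S.rot a)), S.sum_A, S.card_A,
      coef, Finset.mul_sum, Finset.mul_sum]
    refine Finset.sum_congr rfl fun i _ => ?_
    rw [Finset.sum_congr rfl fun a ha => show (χ : G → ℂ) (a * S.r ^ i.val) *
        conj (ev t (l * S.rot (a * S.r ^ i.val))) = (χ : G → ℂ) (a * S.r ^ i.val) * ev t (-(l * i)) by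
      rw [S.rot_eq_of_mem (mem_elts.1 ha), conj_ev], ← Finset.sum_mul, avg]
    push_cast
    rw [mul_inv]
    ring
  choose m hm using h
  refine ⟨fun l => (m l : ℤ), fun l => by rw [hm l]; norm_cast, fun l => ?_⟩
  have h2 : coef (S.avg (χ : G → ℂ)) (sig t * l) = coef (S.avg (χ : G → ℂ)) l := by
    rw [coef, coef]
    congr 1
    refine Fintype.sum_equiv ⟨(sig t * ·), (sig t * ·), sig_cancel S.one_le, sig_cancel S.one_le⟩ _ _
      fun j => ?_
    simp only [Equiv.coe_fn_mk]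
    rw [S.avg_sig (IsIrr.classFun χ.2), show l * (sig t * j) = sig t * l * j by ring]
  rw [hm, hm] at h2
  show (m (sig t * l) : ℤ) = (m l : ℤ)
  exact_mod_cast h2

/-- What is known about one irreducible character. -/
structure Row (χ : IrrCharacter G) (m : Rot t → ℤ) (d0 d1 : ℤ) : Prop where
  hm : ∀ l, coef (S.avg (χ : G → ℂ)) l = m l
  sym : ∀ l, m (sig t * l) = m l
  hz : ∀ k ∈ regElts S.C, (χ : G → ℂ) (S.z * k) = d0 + d1 * S.φ k

/-- A character all of whose lifted coefficients vanish. -/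
def Null (χ : IrrCharacter G) : Prop := ∀ q a b x y, classInner (S.vec q a b x y) (χ : G → ℂ) = 0

theorem K_le_C : S.K ≤ S.C := S.K_le.trans S.A_le

theorem row_or_null (χ : IrrCharacter G) : (∃ m d0 d1, S.Row χ m d0 d1) ∨ S.Null χ := by
  obtain ⟨m, hm, hs⟩ := S.exists_coef χ
  rcases S.block χ with ⟨d0, d1, h⟩ | ⟨h1, h2, h3⟩
  · exact Or.inl ⟨m, d0, d1, hm, hs, h⟩
  · refine Or.inr fun q a b x y => ?_
    rw [vec, S.inner_lift _ _ (IsIrr.classFun χ.2)]
    have e1 : rotSum (fun i => (q : ℂ) * (pair a i - pair b i) * conj (S.avg (χ : G → ℂ) i)) = 0 := by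
      refine Finset.sum_eq_zero fun i hi => ?_
      simp only [Finset.mem_erase, Finset.mem_univ, and_true] at hi
      rw [avg, h1 i hi.2 hi.1, mul_zero, map_zero, mul_zero]
    rw [e1, mul_zero, zero_add, Finset.sum_congr rfl fun k _ => show ((x : ℂ) + y * S.φ k) *
      conj ((χ : G → ℂ) (S.z * k)) =
      conj ((x : ℂ) * (χ : G → ℂ) (S.z * k) + y * ((χ : G → ℂ) (S.z * k) * S.φ k)) by
      rw [map_add, map_mul, map_mul, map_mul, map_intCast, map_intCast, map_intCast]; ring,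
      ← map_sum, Finset.sum_add_distrib, ← Finset.mul_sum, ← Finset.mul_sum, h2, h3]
    simp

variable {S}

namespace Row

variable {χ : IrrCharacter G} {m : Rot t → ℤ} {d0 d1 : ℤ}

theorem avg_mid (R : S.Row χ m d0 d1) :
    S.avg (χ : G → ℂ) (mid t) = ((d0 + d1 * (S.η * 2 ^ t - 2) : ℤ) : ℂ) := by
  rw [avg, Finset.sum_congr rfl fun k hk => show (χ : G → ℂ) (k * S.r ^ (mid t).val) = d0 + d1 * S.φ k by
    rw [S.r_pow_mid, S.comm_z (S.K_le_C (mem_elts.1 hk)), R.hz k (mem_regElts.2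
      ⟨S.K_le_C (mem_elts.1 hk), S.odd_of_mem_K (mem_elts.1 hk)⟩)],
    Finset.sum_add_distrib, Finset.sum_const, card_elts, nsmul_eq_mul, ← Finset.mul_sum,
    show ∑ k ∈ elts S.K, (S.φ k : ℂ) = (Nat.card S.K : ℂ) * ((S.η * 2 ^ t - 2 : ℤ) : ℂ) by
      exact_mod_cast S.φ_K]
  have : (Nat.card S.K : ℂ) ≠ 0 := Nat.cast_ne_zero.2 Nat.card_pos.ne'
  field_simp
  push_cast
  ring

theorem value_mid (R : S.Row χ m d0 d1) :
    d0 + d1 * (S.η * 2 ^ t - 2) = ∑ l, m l * (-1) ^ l.val := by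
  have h := sum_coef_mul (S.avg (χ : G → ℂ)) (mid t)
  rw [R.avg_mid, Finset.sum_congr rfl fun l _ => by rw [R.hm l, mul_comm l, ev_mid_mul]] at h
  exact_mod_cast h.symm

/-- The coefficient at a standard lift. -/
theorem inner_vec (R : S.Row χ m d0 d1) (q : ℝ) (a b : Rot t) (x y : ℤ) :
    classInner (S.vec q a b x y) (χ : G → ℂ) =
      (q : ℂ) * ((m a - m b : ℤ) - (sgd a b : ℂ) * ((d0 + d1 * (S.η * 2 ^ t - 2) : ℤ) : ℂ) / (2 * 2 ^ t)) +
        ((d0 : ℂ) * x * (2 ^ t + 2) - 4 * ((x : ℂ) * d1 + d0 * y) + 8 * ((y : ℂ) * d1)) / (8 * 2 ^ t) := by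
  rw [Cfg.vec, S.inner_lift _ _ (IsIrr.classFun χ.2)]
  congr 1
  · rw [show (fun i => (q : ℂ) * (pair a i - pair b i) * conj (S.avg (χ : G → ℂ) i)) =
      fun i => (q : ℂ) * conj (S.avg (χ : G → ℂ) i * conj (pair a i - pair b i)) from
      funext fun i => by rw [map_mul, Complex.conj_conj]; ring, rotSum_mul_left, rotSum_eq,
      ← map_sum, Finset.sum_congr rfl fun i _ => show S.avg (χ : G → ℂ) i * conj (pair a i - pair b i) =
        S.avg (χ : G → ℂ) i * conj (pair a i) - S.avg (χ : G → ℂ) i * conj (pair b i) by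
        rw [map_sub, mul_sub],
      Finset.sum_sub_distrib, sum_mul_conj_pair, sum_mul_conj_pair, R.hm, R.hm, R.hm, R.hm, R.sym, R.sym,
      R.avg_mid]
    simp only [pair_zero, sub_self, mul_zero, map_zero, sub_zero, pair_mid S.one_le, map_sub, map_mul,
      map_add, map_pow, map_neg, map_one, map_ofNat, map_intCast, Complex.conj_conj, sgd, pow_succ]
    push_cast
    field_simp
    ring
  · rw [Finset.sum_congr rfl fun k hk => show ((x : ℂ) + y * S.φ k) * conj ((χ : G → ℂ) (S.z * k)) =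
      (x : ℂ) * d0 + ((x : ℂ) * d1 + d0 * y) * S.φ k + (y : ℂ) * d1 * (S.φ k * S.φ k) by
      rw [R.hz k hk, map_add, map_mul, map_intCast, map_intCast, map_intCast]; ring,
      Finset.sum_add_distrib, Finset.sum_add_distrib, S.sum_reg, ← Finset.mul_sum, ← Finset.mul_sum,
      S.sum_reg_φ, S.sum_reg_φφ]
    have := S.card_C_ne
    field_simp
    ring

end Row

end Cfg

end Cfsg.Agent.Invol.AlmostCyclic
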